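import Cfsg.Agent.BpSpor.MFiveAbs

/-!
# The situation `Rad`, `p = 3`: commutators modulo `⟨x⟩` (helper740)

`Good y` : `y = a b a⁻¹ b⁻¹`, `b ^ 3 = 1`, and `b` commutes with its conjugate under `a b a⁻¹`.

* `exists_comm` : if the `3`-elements of `A` are good then every `3`-element of `D` is a commutator modulo `⟨x⟩`
-/

set_option autoImplicit false
set_option linter.unusedSectionVars false

namespace Cfsg.Agent.H740.OreM.Lift

open Subgroup Cfsg Cfsg.Agent.BpSpor.M5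

universe u v

/-- `b'` is the conjugate of `b` under `a` -/
def Good {A : Type u} [Group A] (y : A) : Prop := ∃ a b : A, a * b * a⁻¹ * b⁻¹ = y ∧ b ^ 3 = 1 ∧
  Commute b (a * b * a⁻¹ * b * (a * b * a⁻¹)⁻¹)

/-- a wreath-like relation -/
theorem pow_nine {Q : Type u} [Group Q] {p q : Q} (hp : p ^ 3 = 1) (hq : q ^ 3 = 1)
    (hc : Commute p (q * p * q⁻¹)) : (q * p⁻¹) ^ 9 = 1 := by
  set r := q * p * q⁻¹ with hr
  set s := q * r * q⁻¹ with hs
  have hsq : q * s * q⁻¹ = p := by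
    rw [hs, hr]
    calc q * (q * (q * p * q⁻¹) * q⁻¹) * q⁻¹ = q ^ 3 * p * (q ^ 3)⁻¹ := by rw [pow_three]; group
      _ = p := by rw [hq]; group
  have h1 : (q * p⁻¹) ^ 3 = r⁻¹ * s⁻¹ * p⁻¹ := by
    calc (q * p⁻¹) ^ 3 = (q * p * q⁻¹)⁻¹ * (q * (q * p * q⁻¹) * q⁻¹)⁻¹ * (q ^ 3 * p * (q ^ 3)⁻¹)⁻¹ * q ^ 3 := by
          rw [pow_three, pow_three]
          group
      _ = _ := by
        rw [hq, ← hr, ← hs]
        group
  have hrs : Commute r s := by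
    have := hc
    show r * s = s * r
    rw [hs]
    have h2 : q * (p * (q * p * q⁻¹)) * q⁻¹ = q * ((q * p * q⁻¹) * p) * q⁻¹ := by rw [← hr, hc.eq]
    calc r * (q * r * q⁻¹) = q * (p * (q * p * q⁻¹)) * q⁻¹ := by rw [hr]; group
      _ = q * ((q * p * q⁻¹) * p) * q⁻¹ := h2
      _ = _ := by rw [hr]; group
  have hsp : Commute s p := by
    show s * p = p * s
    have h2 : q * (r * s) * q⁻¹ = q * (s * r) * q⁻¹ := by rw [hrs.eq]
    calc s * p = (q * r * q⁻¹) * (q * s * q⁻¹) := by rw [hsq, ← hs]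
      _ = q * (r * s) * q⁻¹ := by group
      _ = q * (s * r) * q⁻¹ := h2
      _ = (q * s * q⁻¹) * (q * r * q⁻¹) := by group
      _ = p * s := by rw [hsq, ← hs]
  have hr3 : r ^ 3 = 1 := by rw [hr, conj_pow, hp, mul_one, mul_inv_cancel]
  have hs3 : s ^ 3 = 1 := by rw [hs, conj_pow, hr3, mul_one, mul_inv_cancel]
  rw [show 9 = 3 * 3 by norm_num, pow_mul, h1]
  have h3 : Commute (r⁻¹ * s⁻¹) p⁻¹ := (hc.symm.inv_inv).mul_left hsp.inv_inv
  rw [h3.mul_pow, (hrs.inv_inv).mul_pow, inv_pow, inv_pow, inv_pow, hr3, hs3, hp]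
  group

/-- powers of a commuting-up-to-center pair -/
theorem conj_pow_mul {Q : Type u} [Group Q] {p q k : Q} (hk : Commute p k) (h : p * q * p⁻¹ = k * q) (n : ℕ) :
    p ^ n * q * (p ^ n)⁻¹ = k ^ n * q := by
  induction n with
  | zero => group
  | succ n ih =>
    calc p ^ (n + 1) * q * (p ^ (n + 1))⁻¹ = p * (p ^ n * q * (p ^ n)⁻¹) * p⁻¹ := by rw [pow_succ']; group
      _ = (p * k ^ n) * q * p⁻¹ := by rw [ih]; group
      _ = (k ^ n * p) * q * p⁻¹ := by rw [(hk.pow_right n).eq]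
      _ = k ^ n * (p * q * p⁻¹) := by group
      _ = _ := by rw [h, pow_succ]; group

variable {D : Type u} [Group D] [Finite D] {z x : D} {N : Subgroup D} {A : Type v} [Group A]
    {f : ↥(centralizer ({z} : Set D)) →* A}

theorem cube (h : Rad 3 z x N f) (i : ℤ) : (x ^ i) ^ 3 = 1 := by
  rw [← zpow_natCast, ← zpow_mul, mul_comm, zpow_mul, zpow_natCast, ← h.ox, pow_orderOf_eq_one, one_zpow]

/-- a `3`-element of the kernel is a power of `x` -/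
theorem ker_three (h : Rad 3 z x N f) {c : ↥(centralizer ({z} : Set D))} (hc : f c = 1) {k : ℕ}
    (hk : (c : D) ^ 3 ^ k = 1) : ∃ i : ℤ, (c : D) = x ^ i := by
  obtain ⟨i, hi | hi⟩ := h.ker c hc
  · exact ⟨i, hi⟩
  · exfalso
    apply h.z1
    have h1 : Commute (x ^ i) z := (h.xzc i z).symm
    have h2 : ∀ n : ℕ, z ^ (2 * n + 1) = z := by
      intro n
      rw [pow_succ, pow_mul, pow_two, h.zz, one_pow, one_mul]
    obtain ⟨m, hm⟩ := (show Odd (3 ^ (k + 1)) from Odd.pow (by decide))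
    have h3 : (c : D) ^ 3 ^ (k + 1) = 1 := by rw [pow_succ, pow_mul, hk, one_pow]
    rw [hi, h1.mul_pow, pow_succ', pow_mul, cube h, one_pow, one_mul, ← pow_succ', hm, h2] at h3
    exact h3

/-- **lifting a good commutator** -/
theorem exists_lift (h : Rad 3 z x N f) {c : ↥(centralizer ({z} : Set D))} {k : ℕ} (hk : c ^ 3 ^ k = 1)
    (hg : Good (f c)) : ∃ a b : D, a * z = z * a ∧ b ^ 9 = z ∧ ∃ i : ℤ, (c : D) = a * b * a⁻¹ * b⁻¹ * x ^ i := by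
  have hp : Fact (Nat.Prime 3) := ⟨Nat.prime_three⟩
  obtain ⟨a, b, hab, hb3, hcm⟩ := hg
  obtain ⟨a₀, rfl⟩ := h.surj a
  obtain ⟨b₀, rfl⟩ := h.surj b
  have hzc : ∀ d : ↥(centralizer ({z} : Set D)), (d : D) * z = z * d := fun d => mem_centralizer_singleton_iff.1 d.2
  -- the `3`-part of `b₀`
  have h18 : b₀ ^ 18 = 1 := by
    have h1 : f (b₀ ^ 3) = 1 := by rw [map_pow, hb3]
    apply Subtype.ext
    show ((b₀ : D)) ^ 18 = 1
    have h2 : ((b₀ : D) ^ 3) ^ 6 = 1 := by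
      obtain ⟨i, hi | hi⟩ := h.ker _ h1
      · have hi' : (b₀ : D) ^ 3 = x ^ i := hi
        rw [hi', show 6 = 3 * 2 by norm_num, pow_mul, cube h, one_pow]
      · have hi' : (b₀ : D) ^ 3 = x ^ i * z := hi
        have h1 : Commute (x ^ i) z := (h.xzc i z).symm
        rw [hi', h1.mul_pow, show 6 = 3 * 2 by norm_num, pow_mul, cube h, one_pow, one_mul, mul_comm 3 2, pow_mul,
          pow_two, h.zz, one_pow]
    rw [← h2, ← pow_mul]
  set b₁ := b₀ ^ 10 with hb₁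
  have hb9 : b₁ ^ 9 = 1 := by
    rw [hb₁, ← pow_mul, show 10 * 9 = 18 * 5 by norm_num, pow_mul, h18, one_pow]
  have hfb : f b₁ = f b₀ := by
    rw [hb₁, map_pow, show 10 = 3 * 3 + 1 by norm_num, pow_succ, pow_mul, hb3, one_pow, one_mul]
  set p' := a₀ * b₁ * a₀⁻¹ with hp'
  have hp9 : p' ^ 9 = 1 := by rw [hp', conj_pow, hb9, mul_one, mul_inv_cancel]
  have hfp : f p' = f a₀ * f b₀ * (f a₀)⁻¹ := by rw [hp', map_mul, map_mul, map_inv, hfb]
  -- cubes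
  have hb3' : ∃ i : ℤ, ((b₁ ^ 3 : ↥(centralizer ({z} : Set D))) : D) = x ^ i := by
    refine ker_three h (by rw [map_pow, hfb, hb3]) (k := 1) ?_
    have h1 : ((b₁ ^ 3) ^ 3 : ↥(centralizer ({z} : Set D))) = 1 := by rw [← pow_mul]; exact hb9
    rw [pow_one]
    exact congrArg Subtype.val h1
  have hp3' : ∃ i : ℤ, ((p' ^ 3 : ↥(centralizer ({z} : Set D))) : D) = x ^ i := by
    refine ker_three h (by rw [map_pow, hfp, conj_pow, hb3, mul_one, mul_inv_cancel]) (k := 1) ?_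
    have h1 : ((p' ^ 3) ^ 3 : ↥(centralizer ({z} : Set D))) = 1 := by rw [← pow_mul]; exact hp9
    rw [pow_one]
    exact congrArg Subtype.val h1
  -- the commutator of `b₁` and its conjugate
  set q := p' * b₁ * p'⁻¹ with hq
  set κ := b₁ * q * b₁⁻¹ * q⁻¹ with hκ
  have hκf : f κ = 1 := by
    have h1 : f q = f a₀ * f b₀ * (f a₀)⁻¹ * f b₀ * (f a₀ * f b₀ * (f a₀)⁻¹)⁻¹ := by
      rw [hq, map_mul, map_mul, map_inv, hfp, hfb]
    rw [hκ, map_mul, map_mul, map_mul, map_inv, map_inv, h1, hfb, hcm.eq]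
    group
  have hκc : ∀ d : ↥(centralizer ({z} : Set D)), Commute d κ := by
    intro d
    apply Subtype.ext
    show (d : D) * κ = κ * d
    obtain ⟨i, hi | hi⟩ := h.ker κ hκf
    · rw [hi, h.xzc]
    · rw [hi, ← mul_assoc, h.xzc, mul_assoc, hzc, mul_assoc]
  have hκ9 : κ ^ 9 = 1 := by
    have h1 : b₁ * q * b₁⁻¹ = κ * q := by rw [hκ]; group
    have h2 := conj_pow_mul (hκc b₁) h1 9
    rw [hb9, one_mul, inv_one, mul_one] at h2
    exact (mul_eq_right.1 h2.symm)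
  obtain ⟨l, hl⟩ := ker_three h hκf (k := 2) (congrArg Subtype.val hκ9)
  -- in `D / ⟨x⟩`
  have hZ : (zpowers x).Normal := h.normalZ
  set π := QuotientGroup.mk' (zpowers x) with hπ
  have hπx : ∀ i : ℤ, π (x ^ i) = 1 := fun i => (QuotientGroup.eq_one_iff _).2 (zpow_mem (mem_zpowers x) i)
  have h9 : (π (p' : D) * (π (b₁ : D))⁻¹) ^ 9 = 1 := by
    refine pow_nine ?_ ?_ ?_
    · obtain ⟨i, hi⟩ := hb3'
      rw [← map_pow, show (b₁ : D) ^ 3 = x ^ i from hi, hπx]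
    · obtain ⟨i, hi⟩ := hp3'
      rw [← map_pow, show (p' : D) ^ 3 = x ^ i from hi, hπx]
    · show π (b₁ : D) * (π (p' : D) * π (b₁ : D) * (π (p' : D))⁻¹) = (π (p' : D) * π (b₁ : D) * (π (p' : D))⁻¹) * π (b₁ : D)
      have h1 : (b₁ : D) * q * (b₁ : D)⁻¹ * (q : D)⁻¹ = x ^ l := hl
      have h2 : π ((b₁ : D) * q * (b₁ : D)⁻¹ * (q : D)⁻¹) = 1 := by rw [h1, hπx]
      rw [map_mul, map_mul, map_mul, map_inv, map_inv, mul_inv_eq_one, mul_inv_eq_iff_eq_mul] at h2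
      have h3 : π (q : D) = π (p' : D) * π (b₁ : D) * (π (p' : D))⁻¹ := by
        rw [← map_inv, ← map_mul, ← map_mul]
        rfl
      rw [← h3]
      exact h2
  set t := p' * b₁⁻¹ with ht
  have ht27 : (t : D) ^ 3 ^ 3 = 1 := by
    have h1 : π ((t : D) ^ 9) = 1 := by
      rw [map_pow, ← h9, ← map_inv, ← map_mul]
      rfl
    obtain ⟨i, hi⟩ := mem_zpowers_iff.1 ((QuotientGroup.eq_one_iff _).1 h1)
    rw [show 3 ^ 3 = 9 * 3 by norm_num, pow_mul, ← hi, cube h]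
  have hft : f t = f c := by
    rw [ht, map_mul, map_inv, hfp, hfb, hab]
  -- `c = t x ^ i`
  have hct : ∃ i : ℤ, (c : D) = t * x ^ i := by
    have h1 : f (t⁻¹ * c) = 1 := by rw [map_mul, map_inv, hft, inv_mul_cancel]
    obtain ⟨i, hi | hi⟩ := h.ker _ h1
    · refine ⟨i, ?_⟩
      have hi' : (t : D)⁻¹ * c = x ^ i := hi
      rw [← hi']
      group
    · exfalso
      have hi' : (t : D)⁻¹ * c = x ^ i * z := hi
      have h2 : (c : D) = t * (x ^ i * z) := by rw [← hi']; group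
      have hcx : Commute (t : D) (x ^ i * z) := by
        show (t : D) * (x ^ i * z) = x ^ i * z * t
        rw [← mul_assoc, h.xzc, mul_assoc, hzc, mul_assoc]
      have h3 : (c : D) ^ 3 ^ (3 + k + 1) = 1 := by
        have : (c : D) ^ 3 ^ k = 1 := congrArg Subtype.val hk
        rw [show 3 ^ (3 + k + 1) = 3 ^ k * 3 ^ 4 by ring, pow_mul, this, one_pow]
      have h1' : Commute (x ^ i) z := (h.xzc i z).symm
      rw [h2, hcx.mul_pow, h1'.mul_pow, show 3 ^ (3 + k + 1) = 3 ^ 3 * 3 ^ (k + 1) by ring, pow_mul, ht27, one_pow,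
        one_mul, show 3 ^ 3 * 3 ^ (k + 1) = 3 * 3 ^ (k + 3) by ring, pow_mul (x ^ i), cube h, one_pow, one_mul] at h3
      obtain ⟨m, hm⟩ := (show Odd (3 * 3 ^ (k + 3)) from Odd.mul (by decide) (Odd.pow (by decide)))
      rw [hm, pow_succ, pow_mul, pow_two, h.zz, one_pow, one_mul] at h3
      exact h.z1 h3
  obtain ⟨i, hi⟩ := hct
  refine ⟨a₀, b₁ * z, hzc a₀, ?_, i, ?_⟩
  · have h1 : Commute (b₁ : D) z := hzc b₁
    rw [h1.mul_pow, show (b₁ : D) ^ 9 = 1 from congrArg Subtype.val hb9, one_mul, show 9 = 2 * 4 + 1 by norm_num,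
      pow_succ, pow_mul, pow_two, h.zz, one_pow, one_mul]
  · rw [hi]
    have h2 : (a₀ : D) * (b₁ * z) * (a₀ : D)⁻¹ * (b₁ * z)⁻¹ = t := by
      have h3 : (a₀ : D)⁻¹ * z = z * (a₀ : D)⁻¹ := ((show Commute (a₀ : D) z from hzc a₀).inv_left).eq
      calc (a₀ : D) * (b₁ * z) * (a₀ : D)⁻¹ * (b₁ * z)⁻¹ = a₀ * b₁ * (z * (a₀ : D)⁻¹) * z⁻¹ * (b₁ : D)⁻¹ := by group
        _ = a₀ * b₁ * ((a₀ : D)⁻¹ * z) * z⁻¹ * (b₁ : D)⁻¹ := by rw [h3]
        _ = a₀ * b₁ * (a₀ : D)⁻¹ * (b₁ : D)⁻¹ := by group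
        _ = t := rfl
    rw [h2]

/-- an element of `N` centralized by `b` modulo `⟨x⟩`, `b ^ 9 = z` -/
theorem mem_of_fix (h : Rad 3 z x N f) {b n : D} (hb : b ^ 9 = z) (hn : n ∈ N) {i : ℤ}
    (hi : b * n * b⁻¹ = n * x ^ i) : n ∈ zpowers x := by
  have hp : Fact (Nat.Prime 3) := ⟨Nat.prime_three⟩
  have h1 : b * n * b⁻¹ = x ^ i * n := by rw [hi, h.xzc]
  have h2 := conj_pow_mul (show Commute b (x ^ i) from h.xzc i b) h1 9
  rw [hb, show 9 = 3 * 3 by norm_num, pow_mul, cube h, one_pow, one_mul, mul_inv_eq_iff_eq_mul] at h2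
  exact h.cN n hn h2.symm

/-- **the coset** -/
theorem exists_comm_of (h : Rad 3 z x N f) {a b n : D} (ha : a * z = z * a) (hb : b ^ 9 = z) (hn : n ∈ N) :
    ∃ n₁ ∈ N, ∃ i : ℤ, n * (a * b * a⁻¹ * b⁻¹) = n₁ * a * b * (n₁ * a)⁻¹ * b⁻¹ * x ^ i := by
  have hZ : (zpowers x).Normal := h.normalZ
  have hN := h.nN
  set π := QuotientGroup.mk' (zpowers x) with hπ
  have hπx : ∀ i : ℤ, π (x ^ i) = 1 := fun i => (QuotientGroup.eq_one_iff _).2 (zpow_mem (mem_zpowers x) i)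
  set b' := a * b * a⁻¹ with hb'
  have hb9 : b' ^ 9 = z := by
    rw [hb', conj_pow, hb, ha, mul_inv_cancel_right]
  have hNn : (N.map π).Normal := hN.map π (QuotientGroup.mk'_surjective _)
  let F : ↥(N.map π) → ↥(N.map π) := fun m => m * ⟨π b' * (m : D ⧸ zpowers x)⁻¹ * (π b')⁻¹,
    hNn.conj_mem _ ((N.map π).inv_mem m.2) _⟩
  have hF : ∀ m, ((F m : ↥(N.map π)) : D ⧸ zpowers x) = m * (π b' * (m : D ⧸ zpowers x)⁻¹ * (π b')⁻¹) := fun m => rfl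
  have hinj : Function.Injective F := by
    intro m m' hmm
    have h1 : (m : D ⧸ zpowers x) * (π b' * (m : D ⧸ zpowers x)⁻¹ * (π b')⁻¹) =
        m' * (π b' * (m' : D ⧸ zpowers x)⁻¹ * (π b')⁻¹) := by
      rw [← hF, ← hF, hmm]
    have h2 : (m : D ⧸ zpowers x) * π b' * (m : D ⧸ zpowers x)⁻¹ = m' * π b' * (m' : D ⧸ zpowers x)⁻¹ := by
      have := congrArg (fun t => t * π b') h1
      simpa [mul_assoc] using this
    have h3 : π b' * ((m' : D ⧸ zpowers x)⁻¹ * m) * (π b')⁻¹ = (m' : D ⧸ zpowers x)⁻¹ * m := by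
      calc π b' * ((m' : D ⧸ zpowers x)⁻¹ * m) * (π b')⁻¹
          = (m' : D ⧸ zpowers x)⁻¹ * (m' * π b' * (m' : D ⧸ zpowers x)⁻¹) * m * (π b')⁻¹ := by group
        _ = (m' : D ⧸ zpowers x)⁻¹ * (m * π b' * (m : D ⧸ zpowers x)⁻¹) * m * (π b')⁻¹ := by rw [h2]
        _ = _ := by group
    obtain ⟨s, hs, hsm⟩ : (m' : D ⧸ zpowers x)⁻¹ * m ∈ N.map π := (N.map π).mul_mem ((N.map π).inv_mem m'.2) m.2
    rw [← hsm, ← map_mul, ← map_inv, ← map_mul] at h3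
    have h4 : s⁻¹ * (b' * s * b'⁻¹) ∈ zpowers x := QuotientGroup.eq.1 h3.symm
    obtain ⟨i, hi⟩ := mem_zpowers_iff.1 h4
    have h5 : b' * s * b'⁻¹ = s * x ^ i := by rw [hi]; group
    have h6 := mem_of_fix h hb9 hs h5
    have h7 : π s = 1 := (QuotientGroup.eq_one_iff _).2 h6
    rw [h7] at hsm
    apply Subtype.ext
    exact (inv_mul_eq_one.1 hsm.symm).symm
  have hsurj : Function.Surjective F := Finite.surjective_of_injective hinj
  obtain ⟨⟨_, n₁, hn₁, rfl⟩, hm⟩ := hsurj ⟨π n, ⟨n, hn, rfl⟩⟩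
  have h1 : π n₁ * (π b' * (π n₁)⁻¹ * (π b')⁻¹) = π n := by
    have := congrArg Subtype.val hm
    exact this
  rw [← map_inv, ← map_inv, ← map_mul, ← map_mul, ← map_mul] at h1
  have h2 : (n₁ * (b' * n₁⁻¹ * b'⁻¹))⁻¹ * n ∈ zpowers x := QuotientGroup.eq.1 h1
  obtain ⟨i, hi⟩ := mem_zpowers_iff.1 h2
  refine ⟨n₁, hn₁, i, ?_⟩
  have h3 : n = n₁ * (b' * n₁⁻¹ * b'⁻¹) * x ^ i := by rw [hi]; group
  rw [h3]
  calc n₁ * (b' * n₁⁻¹ * b'⁻¹) * x ^ i * (b' * b⁻¹) = n₁ * (b' * n₁⁻¹ * b'⁻¹) * (x ^ i * (b' * b⁻¹)) := by group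
    _ = n₁ * (b' * n₁⁻¹ * b'⁻¹) * ((b' * b⁻¹) * x ^ i) := by rw [h.xzc]
    _ = _ := by rw [hb']; group

/-- a `3`-element of `D` is the product of an element of `N` and a `3`-element of `C(z)` -/
theorem exists_three (h : Rad 3 z x N f) {g : D} {e : ℕ} (hg : g ^ 3 ^ e = 1) :
    ∃ n ∈ N, ∃ c : ↥(centralizer ({z} : Set D)), (∃ k, c ^ 3 ^ k = 1) ∧ g = n * c := by
  have hNn := h.nN
  obtain ⟨n, hn, c, hc, hgc⟩ := h.sup g
  set c₀ : ↥(centralizer ({z} : Set D)) := ⟨c, mem_centralizer_singleton_iff.2 hc⟩ with hc₀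
  obtain ⟨b, m, hm, hm2⟩ := Nat.exists_eq_pow_mul_and_not_dvd (n := orderOf c₀) (orderOf_pos c₀).ne' 3 (by norm_num)
  have hcop : Nat.Coprime (3 ^ e) m := (Nat.prime_three.coprime_iff_not_dvd.2 hm).pow_left e
  obtain ⟨u, hu1, hu2⟩ := Nat.chineseRemainder hcop 1 0
  have hmu : m ∣ u := (Nat.modEq_zero_iff_dvd).1 hu2
  have hgu : g ^ u = g := by
    have h1 : g ^ u = g ^ 1 := by
      rw [pow_eq_pow_iff_modEq]
      exact hu1.of_dvd (orderOf_dvd_of_pow_eq_one hg)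
    rw [h1, pow_one]
  set π := QuotientGroup.mk' N with hπ
  have hπg : π g = π c := by
    rw [hgc, map_mul, show π n = 1 from (QuotientGroup.eq_one_iff n).2 hn, one_mul]
  have hπg' : π g = π (c ^ u) := by
    rw [map_pow, ← hπg, ← map_pow, hgu]
  have hcu : (c₀ ^ u) ^ 3 ^ b = 1 := by
    obtain ⟨r, hr⟩ := hmu
    rw [hr, ← pow_mul, show m * r * 3 ^ b = (3 ^ b * m) * r by ring, ← hm2, pow_mul, pow_orderOf_eq_one, one_pow]
  have h1 : (c ^ u)⁻¹ * g ∈ N := QuotientGroup.eq.1 hπg'.symm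
  refine ⟨g * (c ^ u)⁻¹, ?_, c₀ ^ u, ⟨b, hcu⟩, ?_⟩
  · have := hNn.conj_mem _ h1 (c ^ u)
    have e1 : c ^ u * ((c ^ u)⁻¹ * g) * (c ^ u)⁻¹ = g * (c ^ u)⁻¹ := by group
    rwa [e1] at this
  · show g = g * (c ^ u)⁻¹ * c ^ u
    group

/-- **commutators modulo `⟨x⟩`** -/
theorem exists_comm (h : Rad 3 z x N f) (hgood : ∀ y : A, (∃ k, y ^ 3 ^ k = 1) → Good y) {g : D} {e : ℕ}
    (hg : g ^ 3 ^ e = 1) : ∃ a b : D, ∃ i : ℤ, g * x ^ i = a * b * a⁻¹ * b⁻¹ := by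
  obtain ⟨n, hn, c, ⟨k, hk⟩, hgc⟩ := exists_three h hg
  obtain ⟨a, b, ha, hb, i, hi⟩ := exists_lift h hk (hgood (f c) ⟨k, by rw [← map_pow, hk, map_one]⟩)
  obtain ⟨n₁, -, j, hj⟩ := exists_comm_of h ha hb hn
  refine ⟨n₁ * a, b, -(j + i), ?_⟩
  rw [hgc, hi, ← mul_assoc, hj]
  calc n₁ * a * b * (n₁ * a)⁻¹ * b⁻¹ * x ^ j * x ^ i * x ^ (-(j + i))
      = n₁ * a * b * (n₁ * a)⁻¹ * b⁻¹ * (x ^ j * x ^ i * x ^ (-(j + i))) := by group
    _ = _ := by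
      rw [← zpow_add, ← zpow_add, show j + i + -(j + i) = 0 by ring, zpow_zero, mul_one]

end Cfsg.Agent.H740.OreM.Lift
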