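import Cfsg.Agent.H123.Cls.SuzOre
import Cfsg.Agent.H740.OreM.Lift

/-!
# The 3-elements of `Suz` (helper740)

* `real_suz` : elements of order 3 are conjugate to their inverses
* `good_suz` : `3`-elements are good (`H740.OreM.Lift.Good`)
-/

set_option autoImplicit false
set_option maxRecDepth 1000000
set_option exponentiation.threshold 5000

namespace Cfsg.Agent.H740.OreM.SuzThree

open Cfsg Cfsg.Spor Cfsg.Agent.H123.Cls Cfsg.Agent.H123.Cls.SuzDat Cfsg.Agent.Lib.BitNet Cfsg.Agent.H740.OreM.Lift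
open Cfsg.Agent.H763.Ore.SuzModel (A N A_conj card_A card_N N_le_A)
open Cfsg.Agent.OddHalf.Table.SuzRep (ψ ψ_val ψ_injective)
open Cfsg.Agent.SporadicRecognition.SuzOrder (el)

/-- the table of an element of order 9 -/
noncomputable def pn : ℕ := 0x33ec90d18820b93ab390ac9815c099e9324590087b4fd61d16954fa841e5db3b76e6c4d68b458f1de8d83a7c893477a8f266f824b39cfd3125e33097c9fd5486299108a0f7554a39f26212d889d218714da878af57bb5f6ab3fb0f8072612d6d6dbadf696380925101c5c7921e253542302627b88710549d996db6c2aab6f160e281ff606f5c689630416d1cc40a28e9a19505a67e3ebe6570300a7b3707145488392709ae423a074d59f282ebaaf4700dc5410d475d3f42177d28b4a5501a3ace62855d7d0d6cc2bdc7d9d87d5ceb185dea5cdd8161e53b42d2d75ab14c2288d586833cab1af7acd45424f566f71f448f0e36e648d4757d4b2b00841b2280ec76776a8db3562fb8e89caf9e6a374d50d40616c5d50ca8d4b929a9102a9e57c6645cb691384910c9148ccbc33b2d3a4a411aa4eb82fe272d386051656ae2b826717b7c4139daea46f6bd191b2db153dd47e69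bfc0f17cbb434daf2d36c182d7e326cd11517dd83e9f2766d18d15776e6705bcbe4ef1d59ccd9c6662ad766c4345469ebb1294b9016081017a0dcb9be748a4cdeb947f2d2b1b522cc582270939186224ffeaa8b25bcbf25800197a14bdfd018c27c4ef92ba6c4da32adac79debb8da758d6ceeb01cf769f0cc01b03a8f3ff8f44ff430a5c32a89a2805092e29b5ba10e93a6c8a986422c4cb4691ac35e942345623490010374472578d5a03e6af48db10391571bd97b920f4230b3af2b3c706630ac82668485048e148504f33ae181d50400e5e84800f1587ae05076ccc334dbdc81760614a0530b4691736b7726711561742388b55fe9d68f09eeabc191d36e0a5abb4b7b5e891959c2aa121fbdb2489bd07e49a5f079c0198cca6379789c74068c695bf871f20d1fda46bb39118dcef81d6ecd5bc2daf296d94688dc3a5e318836986edb3f2d445a62209083116c73fc4f831dde48abb19056bb4468530c7f518a707a06035f01491a165b98734839ca3a995aa2b47b953a2f0fdd7f749adb4cd42635a7a37dc350a36b3b222f2f012c205d222402a69407b6528820f5bd45ac896eaff349c60d1efe0c155441f066dd4f63a4f18a69799f97aa659618268ed8522560a3d97b8992b8fa4de3da2ce1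ddd2b1973b1ec4edca4a99e30d15f9d63054ce7a1e2356bb2a1d4af10999acae5146880c970248133916bf56c81cc458ae7355430cdc83edc1c8aa708f2a8b43c80f3cd38f99989e88dc2ba56cf180ebb45c38d4dbcd906532023619beb116b8a940d4467aeec49f3b5634e67ea3a25604a874cd9a6d82d53829776614562fe173781a0dc0509496dc4bcd2b30d3260195a9759870c6523a0f656debe55509421d40b864b95f36b2294cf1d17d781d7ac8d86ab566ea4502c00d615367021164f4d6dce25c35267d5445df825785d34e257585e81db0804ca19e14cc9de745398052e60b1b4eb7118ead4630bedecb5ec00a568121ca4723337e75ba34a767a7c61a45ce362a611bbeda625dab39ef443230aab9a0cf4ce18bce53b6470bf8f8c4e3a6839f9ddd4f062479596dcb81f44219746baf253fecf6da6262fcd3870715a74674ec1bf4fb28319701c6b291175e612c31c2390a5143a31d2e1357892a056563895210dcaa9e622437648aed5c23db891f8e17713361e1b88e62f8e11221221cec3512d42422b6654fcb7447143f782c3e892748b056867688c98c426eb3c742209973622f0ea53685e2bd284b884a5c2069e33baab49eb4bce2bd86cbb96dadd09c2a3b270c6eb3d57419e76b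a0cc1c3b41861b0ae908a81dcc039097429f10e4a062527a5a856789ea324811c827d36c955109e6b0cda0aca106845b9a898138a2c062e600df49636418a73ac0aaedb1ca7b31ec728dda4b506d4ca4dbe4d2f30db3207e18f26d8586d372c25588291f33ef529fb35d306b2e5dbe78846447498683eb14b8c3fcb8c929ab3111082abf2b5cb27d55ba60d4f94325d0077f9f8c3c333d36dc0ddb054e2aee5ecc3c96e6586da8e645611cead14c49f1e5362d206ca27f0cb6e29d129b597b077e4c052a9626eb13bce61fe98b32668a4f89c7a4d6374e10c1a9ec8e91a59066eaebac1c8e5a5928b574faf24e2674cbd44f47cde625c6e87cd3d2d885b6a0cd7d33426306b2de3f37971c9b0a0476de9624808a77a9b8a279e24c9a9b16bbc3c039f7960567b5011a9d8c8712e8730499a228fe9565a29bc6db59ba94ee2b3461003f9dd04c501a1d7fb9f9b85680cb73321b81f863458e8f68794665145d6ad1a19c4ace58926ff42a6bc3ba424d2932518b1368bee23bcd3c1ddb1f4526ca85cd4c0877e8e3e89bc5157ead85a54bcb53c06ef209f61736d918b39e5f254d031d4128b8c19c6a11d161cd2dddfa0e44cf7ec488f4cf5c1ba20510e04b13beb53084ec50c3bbb3705e7ac6a6b46456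5ec727f5039c06ec8614397ac42140f072309a041213f3ad357dadc6b8b2994d5463af575364417a108f0a409b91863bd035a84e9ba444a59ac0bc664936ef1e682c2697f3bb0939f83328b9b95cf26010859a4afb6f0d36667f20d43071905e47ce85055f4f2d454486ce1a2366ce6a2a7c9b0f09647ab6296701f2a639248b4c25da986e2e42293597316d9c61f6937c74c5c3524e3c2c3c86ca3e21f6858376020f176ba027d3496297f34ee68bd8c928778d193cecd368de773c419e1303482d4cf0afa2a791c381a35ce70a90217950a1e152af3f495a066585a183d092bbb82f62006d024b7f566cff94e561f0ecbcce6aa63c2cd80ea9974f9cb6a0e07a20b0a7a154b60895714a24e5b7d8b9805b36c6928b2ef020f3101fa726ed5b84b1b52c15c2a6ad6c2e7c35a96451175c114ec37f62d0eec6ce876e776311cd733652f2c64a2a5a3ee995844463ed056f6da433f67c3206c2e9520b7f3560ba8730df7ae2aa6df231cf202295d110686beec8eaa024903ab4b1669394f23c3c52617e5c4ba77335a449bf750d0da525246b92184c62044cfee1e09ab380d0a7497c0cfc437137b3771d71eadb9f656892c9b476f4098b43342550c57f9928ff565ef0100295ceb6bec30919be5109a5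c63026047b990d804373186ffd903411aa49886b43259a95bf5357ec3eb823b566576b66957056f1448ac8140bacad5415dd4ea40d905a15583745497434ce4284af2ab13c6ac171ad03680c51c20246b090701439a19e3500322888971a7e8bed1ca93511d6bc81c8aa56cc9e7d80d5662a5275960108cf57a4f64eae67e2f0d6750b7a47748775f63daaa5cacb2f32d00111a9cd6ecba3305fc0948d6644b7750514d160c3ada7a120cd35859af964b6fa3ebe6009870320120bc970e2bb21070ed6fa5437c9955b07c4200b01d04f57065db5bb16a06f02a62b5d1c458e9840ec019120881fc0f560c294c71fd88aea096abe150ba1880a00c04168018d58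

/-- the words -/
def aw : List ℕ := [1, 4, 2, 4, 0]
def vw : List ℕ := [2, 1, 6, 5, 3, 1, 2, 1, 3, 5, 6, 1]

/-- two words have the same value -/
noncomputable def eqw (l m : List ℕ) : Bool :=
  band (chkL 7 l) (band (chkL 7 m) (allN (fun p => Nat.beq (evw 11 gens l p) (evw 11 gens m p)) 1782))

theorem ck9 : chkC 1782 11 gens pn aw vw = true := by decide +kernel
theorem cks9 : chkSig 1782 11 row 11 pn key [432, 0, 432, 0, 324, 0, 0] = true := by decide +kernel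
theorem cka : eqw (aw ++ aw.reverse) [] = true := by decide +kernel
theorem ckv : eqw (vw ++ (vw ++ vw)) [] = true := by decide +kernel
theorem ckc : eqw (vw ++ ((aw ++ (vw ++ aw.reverse)) ++ (vw ++ (aw ++ ((vw ++ vw) ++ aw.reverse)))))
    (((aw ++ (vw ++ aw.reverse)) ++ (vw ++ (aw ++ ((vw ++ vw) ++ aw.reverse)))) ++ vw) = true := by decide +kernel
theorem ck1 : eqw [1, 1] [] = true := by decide +kernel
theorem ck2 : eqw [2, 2] [] = true := by decide +kernel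
theorem ck3 : eqw [3, 3] [] = true := by decide +kernel
theorem o4 : allN (fun p => Nat.beq (it 11 p4 3 p) p) 1782 = true := by decide +kernel
theorem o6 : allN (fun p => Nat.beq (it 11 p6 3 p) p) 1782 = true := by decide +kernel
theorem o36 : allN (fun p => Nat.beq (it 11 p36 3 p) p) 1782 = true := by decide +kernel
theorem o20 : Nat.beq (it 11 p20 3 0) 0 = false := by decide +kernel

theorem mv0 : Nat.beq (it 11 p0 2187 2) 2 = false := by decide +kernel
theorem mv2 : Nat.beq (it 11 p2 2187 0) 0 = false := by decide +kernel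
theorem mv3 : Nat.beq (it 11 p3 2187 0) 0 = false := by decide +kernel
theorem mv5 : Nat.beq (it 11 p5 2187 0) 0 = false := by decide +kernel
theorem mv7 : Nat.beq (it 11 p7 2187 0) 0 = false := by decide +kernel
theorem mv8 : Nat.beq (it 11 p8 2187 0) 0 = false := by decide +kernel
theorem mv9 : Nat.beq (it 11 p9 2187 0) 0 = false := by decide +kernel
theorem mv10 : Nat.beq (it 11 p10 2187 0) 0 = false := by decide +kernel
theorem mv11 : Nat.beq (it 11 p11 2187 0) 0 = false := by decide +kernel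
theorem mv12 : Nat.beq (it 11 p12 2187 1) 1 = false := by decide +kernel
theorem mv13 : Nat.beq (it 11 p13 2187 1) 1 = false := by decide +kernel
theorem mv14 : Nat.beq (it 11 p14 2187 1) 1 = false := by decide +kernel
theorem mv15 : Nat.beq (it 11 p15 2187 0) 0 = false := by decide +kernel
theorem mv16 : Nat.beq (it 11 p16 2187 1) 1 = false := by decide +kernel
theorem mv17 : Nat.beq (it 11 p17 2187 0) 0 = false := by decide +kernel
theorem mv18 : Nat.beq (it 11 p18 2187 0) 0 = false := by decide +kernel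
theorem mv19 : Nat.beq (it 11 p19 2187 0) 0 = false := by decide +kernel
theorem mv21 : Nat.beq (it 11 p21 2187 0) 0 = false := by decide +kernel
theorem mv22 : Nat.beq (it 11 p22 2187 0) 0 = false := by decide +kernel
theorem mv23 : Nat.beq (it 11 p23 2187 0) 0 = false := by decide +kernel
theorem mv24 : Nat.beq (it 11 p24 2187 1) 1 = false := by decide +kernel
theorem mv25 : Nat.beq (it 11 p25 2187 1) 1 = false := by decide +kernel
theorem mv26 : Nat.beq (it 11 p26 2187 0) 0 = false := by decide +kernel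
theorem mv27 : Nat.beq (it 11 p27 2187 0) 0 = false := by decide +kernel
theorem mv28 : Nat.beq (it 11 p28 2187 2) 2 = false := by decide +kernel
theorem mv29 : Nat.beq (it 11 p29 2187 0) 0 = false := by decide +kernel
theorem mv30 : Nat.beq (it 11 p30 2187 1) 1 = false := by decide +kernel
theorem mv31 : Nat.beq (it 11 p31 2187 0) 0 = false := by decide +kernel
theorem mv32 : Nat.beq (it 11 p32 2187 0) 0 = false := by decide +kernel
theorem mv33 : Nat.beq (it 11 p33 2187 1) 1 = false := by decide +kernel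
theorem mv34 : Nat.beq (it 11 p34 2187 1) 1 = false := by decide +kernel
theorem mv35 : Nat.beq (it 11 p35 2187 2) 2 = false := by decide +kernel

/-- the representatives of 3-power order -/
noncomputable def W5 : List (ℕ × List ℕ × List ℕ) := [(p1, [0], [0]), (p4, [2], [1, 6, 5, 3, 1]), (p6, [1], [2]), (p20, [6, 5, 3], [2, 1]), (p36, [3], [4])]

theorem W_mv : ∀ x ∈ W, x ∈ W5 ∨ ∃ t : Fin 1782, Nat.beq (it 11 x.1 2187 t) t = false :=
  List.forall_mem_cons.2 ⟨Or.inr ⟨⟨2, by norm_num⟩, mv0⟩,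
  List.forall_mem_cons.2 ⟨Or.inl (List.mem_cons_self),
  List.forall_mem_cons.2 ⟨Or.inr ⟨⟨0, by norm_num⟩, mv2⟩,
  List.forall_mem_cons.2 ⟨Or.inr ⟨⟨0, by norm_num⟩, mv3⟩,
  List.forall_mem_cons.2 ⟨Or.inl (List.mem_cons_of_mem _ List.mem_cons_self),
  List.forall_mem_cons.2 ⟨Or.inr ⟨⟨0, by norm_num⟩, mv5⟩,
  List.forall_mem_cons.2 ⟨Or.inl (List.mem_cons_of_mem _ (List.mem_cons_of_mem _ List.mem_cons_self)),
  List.forall_mem_cons.2 ⟨Or.inr ⟨⟨0, by norm_num⟩, mv7⟩,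
  List.forall_mem_cons.2 ⟨Or.inr ⟨⟨0, by norm_num⟩, mv8⟩,
  List.forall_mem_cons.2 ⟨Or.inr ⟨⟨0, by norm_num⟩, mv9⟩,
  List.forall_mem_cons.2 ⟨Or.inr ⟨⟨0, by norm_num⟩, mv10⟩,
  List.forall_mem_cons.2 ⟨Or.inr ⟨⟨0, by norm_num⟩, mv11⟩,
  List.forall_mem_cons.2 ⟨Or.inr ⟨⟨1, by norm_num⟩, mv12⟩,
  List.forall_mem_cons.2 ⟨Or.inr ⟨⟨1, by norm_num⟩, mv13⟩,
  List.forall_mem_cons.2 ⟨Or.inr ⟨⟨1, by norm_num⟩, mv14⟩,
  List.forall_mem_cons.2 ⟨Or.inr ⟨⟨0, by norm_num⟩, mv15⟩,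
  List.forall_mem_cons.2 ⟨Or.inr ⟨⟨1, by norm_num⟩, mv16⟩,
  List.forall_mem_cons.2 ⟨Or.inr ⟨⟨0, by norm_num⟩, mv17⟩,
  List.forall_mem_cons.2 ⟨Or.inr ⟨⟨0, by norm_num⟩, mv18⟩,
  List.forall_mem_cons.2 ⟨Or.inr ⟨⟨0, by norm_num⟩, mv19⟩,
  List.forall_mem_cons.2 ⟨Or.inl (List.mem_cons_of_mem _ (List.mem_cons_of_mem _ (List.mem_cons_of_mem _ List.mem_cons_self))),
  List.forall_mem_cons.2 ⟨Or.inr ⟨⟨0, by norm_num⟩, mv21⟩,
  List.forall_mem_cons.2 ⟨Or.inr ⟨⟨0, by norm_num⟩, mv22⟩,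
  List.forall_mem_cons.2 ⟨Or.inr ⟨⟨0, by norm_num⟩, mv23⟩,
  List.forall_mem_cons.2 ⟨Or.inr ⟨⟨1, by norm_num⟩, mv24⟩,
  List.forall_mem_cons.2 ⟨Or.inr ⟨⟨1, by norm_num⟩, mv25⟩,
  List.forall_mem_cons.2 ⟨Or.inr ⟨⟨0, by norm_num⟩, mv26⟩,
  List.forall_mem_cons.2 ⟨Or.inr ⟨⟨0, by norm_num⟩, mv27⟩,
  List.forall_mem_cons.2 ⟨Or.inr ⟨⟨2, by norm_num⟩, mv28⟩,
  List.forall_mem_cons.2 ⟨Or.inr ⟨⟨0, by norm_num⟩, mv29⟩,
  List.forall_mem_cons.2 ⟨Or.inr ⟨⟨1, by norm_num⟩, mv30⟩,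
  List.forall_mem_cons.2 ⟨Or.inr ⟨⟨0, by norm_num⟩, mv31⟩,
  List.forall_mem_cons.2 ⟨Or.inr ⟨⟨0, by norm_num⟩, mv32⟩,
  List.forall_mem_cons.2 ⟨Or.inr ⟨⟨1, by norm_num⟩, mv33⟩,
  List.forall_mem_cons.2 ⟨Or.inr ⟨⟨1, by norm_num⟩, mv34⟩,
  List.forall_mem_cons.2 ⟨Or.inr ⟨⟨2, by norm_num⟩, mv35⟩,
  List.forall_mem_cons.2 ⟨Or.inl (List.mem_cons_of_mem _ (List.mem_cons_of_mem _ (List.mem_cons_of_mem _ (List.mem_cons_of_mem _ List.mem_cons_self)))),
  List.forall_mem_nil _⟩⟩⟩⟩⟩⟩⟩⟩⟩⟩⟩⟩⟩⟩⟩⟩⟩⟩⟩⟩⟩⟩⟩⟩⟩⟩⟩⟩⟩⟩⟩⟩⟩⟩⟩⟩⟩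

theorem eq_of_eqw {l m : List ℕ} (h : eqw l m = true) : el (l.map gn) = el (m.map gn) := by
  obtain ⟨h1, h2⟩ := band_true h
  obtain ⟨h3, h4⟩ := band_true h2
  apply ψ_injective
  apply Equiv.ext
  intro p
  apply Fin.ext
  rw [ev_tab l (chkL_iff _ l h1), ev_tab m (chkL_iff _ m h3)]
  exact Nat.eq_of_beq_eq_true ((allN_iff _ _).1 h4 p p.2)

theorem el_append (l m : List ℕ) : el ((l ++ m).map gn) = el (l.map gn) * el (m.map gn) := by
  simp only [el, List.map_append, List.prod_append]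

theorem el_nil : el (([] : List ℕ).map gn) = 1 := rfl

/-- the commutator of the words -/
noncomputable def cmw (y : ℕ × List ℕ × List ℕ) : Suz :=
  el (y.2.1.map gn) * el (y.2.2.map gn) * (el (y.2.1.map gn))⁻¹ * (el (y.2.2.map gn))⁻¹

/-- the automorphism induced by an element of `Suz : 2` -/
theorem exists_aut {b : Equiv.Perm (Fin 1782)} (hb : b ∈ A) : ∃ σ : Suz →* Suz, ∀ g, ψ (σ g) = b * ψ g * b⁻¹ := by
  have h : ∀ g : Suz, ∃ g' : Suz, ψ g' = b * ψ g * b⁻¹ := fun g => A_conj hb (⟨g, rfl⟩ : ψ g ∈ N)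
  choose F hF using h
  refine ⟨MonoidHom.mk' F fun g h => ψ_injective ?_, hF⟩
  rw [map_mul, hF, hF, hF, map_mul]
  group

theorem Good.map {A : Type*} {B : Type*} [Group A] [Group B] (σ : A →* B) {y : A} (h : Good y) : Good (σ y) := by
  obtain ⟨a, b, h1, h2, h3⟩ := h
  refine ⟨σ a, σ b, ?_, ?_, ?_⟩
  · rw [← h1]
    simp only [map_mul, map_inv]
  · rw [← map_pow, h2, map_one]
  · have := h3.map σ
    simpa only [map_mul, map_inv] using this

theorem good_of_real {A : Type*} [Group A] {y u : A} (h3 : y ^ 3 = 1) (hu : u * y * u⁻¹ = y⁻¹) : Good y := by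
  refine ⟨u, y, ?_, h3, ?_⟩
  · rw [hu]
    calc y⁻¹ * y⁻¹ = y * (y ^ 3)⁻¹ := by rw [pow_three]; group
      _ = y := by rw [h3]; group
  · rw [hu]
    show y * (y⁻¹ * y * y⁻¹⁻¹) = (y⁻¹ * y * y⁻¹⁻¹) * y
    group

theorem real_comm {A : Type*} [Group A] {s w : A} (hs : s * s = 1) :
    s * (s * w * s⁻¹ * w⁻¹) * s⁻¹ = (s * w * s⁻¹ * w⁻¹)⁻¹ := by
  have h : s⁻¹ = s := inv_eq_of_mul_eq_one_left hs
  calc s * (s * w * s⁻¹ * w⁻¹) * s⁻¹ = (s * s) * (w * s⁻¹ * w⁻¹ * s⁻¹) := by group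
    _ = w * s⁻¹ * w⁻¹ * s⁻¹ := by rw [hs, one_mul]
    _ = w * s * w⁻¹ * s⁻¹ := by rw [h]
    _ = _ := by group

/-- an element of `3`-power order is conjugate under `Suz : 2` to one of the five -/
theorem cases5 {g : Suz} {k : ℕ} (hk : g ^ 3 ^ k = 1) : ∃ y ∈ W5, ∃ σ : Suz →* Suz, g = σ (cmw y) ∧
    (∀ p : Fin 1782, (ψ (cmw y) p : ℕ) = lk 11 y.1 p) ∧ ∀ n : ℕ, g ^ n = 1 → (cmw y) ^ n = 1 := by
  obtain ⟨y, hy, b, hb, h⟩ := words_cover g
  have hg : g ^ 2187 = 1 := by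
    have h1 : orderOf g ∣ 3 ^ k := orderOf_dvd_of_pow_eq_one hk
    obtain ⟨j, -, hj⟩ := (Nat.dvd_prime_pow Nat.prime_three).1 h1
    have h2 := orderOf_dvd_natCard g
    rw [Cfsg.Agent.SporadicRecognition.SuzOrder.card_Suz, hj] at h2
    have h3 : j ≤ 7 := by
      by_contra hcon
      have h4 : 3 ^ 8 ∣ 448345497600 := (pow_dvd_pow 3 (by omega)).trans h2
      norm_num at h4
    exact orderOf_dvd_iff_pow_eq_one.1 (by rw [hj, show 2187 = 3 ^ 7 by norm_num]; exact pow_dvd_pow 3 h3)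
  have hpow : ∀ n : ℕ, g ^ n = 1 → (cmw y) ^ n = 1 := by
    intro n hn
    apply ψ_injective
    have h1 : ψ (g ^ n) = b * (ψ (cmw y)) ^ n * b⁻¹ := by
      rw [map_pow, h]
      exact conj_pow
    rw [hn, map_one] at h1
    rw [map_pow, map_one]
    have h2 : b⁻¹ * 1 * b = b⁻¹ * (b * (ψ (cmw y)) ^ n * b⁻¹) * b := by rw [← h1]
    calc ψ (cmw y) ^ n = b⁻¹ * (b * (ψ (cmw y)) ^ n * b⁻¹) * b := by group
      _ = b⁻¹ * 1 * b := h2.symm
      _ = 1 := by group
  have htab : ∀ p : Fin 1782, (ψ (cmw y) p : ℕ) = lk 11 y.1 p := comm_tab (W_chk y hy)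
  obtain ⟨σ, hσ⟩ := exists_aut hb
  rcases W_mv y hy with h5 | ⟨t, ht⟩
  · exact ⟨y, h5, σ, ψ_injective (by rw [hσ]; exact h), htab, hpow⟩
  · exfalso
    have h1 := hpow _ hg
    rw [it_eq htab 2187 t, ← map_pow, h1, map_one] at ht
    exact absurd ht (by
      rw [show ((1 : Equiv.Perm (Fin 1782)) t : ℕ) = t from rfl, Nat.beq_refl]
      decide)

/-- a real element of order 3 -/
theorem real_of {s : ℕ} {w : List ℕ} {P : ℕ} (hs : eqw [s, s] [] = true) :
    el ([s].map gn) * cmw (P, [s], w) * (el ([s].map gn))⁻¹ = (cmw (P, [s], w))⁻¹ := by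
  have h1 : el ([s].map gn) * el ([s].map gn) = 1 := by
    have := eq_of_eqw hs
    rwa [show [s, s] = [s] ++ [s] from rfl, el_append, el_nil] at this
  exact real_comm h1

theorem cube_of {y : ℕ × List ℕ × List ℕ} (htab : ∀ p : Fin 1782, (ψ (cmw y) p : ℕ) = lk 11 y.1 p)
    (h : allN (fun p => Nat.beq (it 11 y.1 3 p) p) 1782 = true) : (cmw y) ^ 3 = 1 := by
  apply ψ_injective
  rw [map_pow, map_one]
  apply Equiv.ext
  intro p
  apply Fin.ext
  rw [← it_eq htab 3 p]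
  exact Nat.eq_of_beq_eq_true ((allN_iff _ _).1 h p p.2)

/-- **the elements of order 3 are real** -/
theorem real_three {g : Suz} (hg : g ^ 3 = 1) : ∃ u, u * g * u⁻¹ = g⁻¹ := by
  obtain ⟨y, hy, σ, rfl, htab, hpow⟩ := cases5 (g := g) (k := 1) (by rw [pow_one]; exact hg)
  have hr : ∀ u : Suz, u * cmw y * u⁻¹ = (cmw y)⁻¹ → ∃ u, u * σ (cmw y) * u⁻¹ = (σ (cmw y))⁻¹ := by
    intro u hu
    refine ⟨σ u, ?_⟩
    rw [← map_inv, ← map_mul, ← map_mul, hu, map_inv]
  simp only [W5, List.mem_cons, List.not_mem_nil, or_false] at hy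
  rcases hy with rfl | rfl | rfl | rfl | rfl
  · refine hr 1 ?_
    have : cmw (p1, [0], [0]) = 1 := by
      unfold cmw
      group
    rw [this]
    group
  · exact hr _ (real_of ck2)
  · exact hr _ (real_of ck1)
  · exfalso
    have h1 := hpow 3 hg
    have h2 := it_eq htab 3 (⟨0, by norm_num⟩ : Fin 1782)
    rw [← map_pow, h1, map_one] at h2
    have h3 : it 11 p20 3 0 = 0 := h2
    have h4 := o20
    rw [h3] at h4
    exact absurd h4 (by decide)
  · exact hr _ (real_of ck3)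

/-- the element of order 9 -/
theorem good_nine : Good (cmw (pn, aw, vw)) := by
  have ha : el (aw.reverse.map gn) = (el (aw.map gn))⁻¹ := by
    have := eq_of_eqw cka
    rw [el_append, el_nil] at this
    exact (inv_eq_of_mul_eq_one_right this).symm
  have hv : el (vw.map gn) ^ 3 = 1 := by
    have := eq_of_eqw ckv
    rw [el_append, el_append, el_nil] at this
    rw [pow_three]
    exact this
  have hc := eq_of_eqw ckc
  simp only [el_append, ha] at hc
  set a := el (aw.map gn) with ha'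
  set v := el (vw.map gn) with hv'
  have hvi : v⁻¹ = v * v := by
    rw [inv_eq_iff_mul_eq_one, ← hv, pow_three]
  refine ⟨a, v, rfl, hv, ?_⟩
  show v * (a * v * a⁻¹ * v * (a * v * a⁻¹)⁻¹) = a * v * a⁻¹ * v * (a * v * a⁻¹)⁻¹ * v
  have h1 : (a * v * a⁻¹)⁻¹ = a * (v * v) * a⁻¹ := by rw [← hvi]; group
  rw [h1]
  simp only [mul_assoc] at hc ⊢
  exact hc

theorem good_twenty : Good (cmw (p20, [6, 5, 3], [2, 1])) := by
  have h9 : ∀ p : Fin 1782, (ψ (cmw (pn, aw, vw)) p : ℕ) = lk 11 pn p := comm_tab ck9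
  obtain ⟨x, hx, r, -, hr, b, hb, h⟩ := suz_cover (ψ (cmw (pn, aw, vw))) ⟨_, rfl⟩
  have hA : b ∈ Aut 1782 row := H763.Ore.SuzTab.A_le_Aut hb
  have h1 := sig_of_chk (K := 11) (row := row) (by norm_num) h9 cks9 rfl
  have h2 := sig_of_chk (K := 11) (row := row) (by norm_num) hr (D_sg x hx) (D_len x hx)
  have h3 : x.2.2 = [432, 0, 432, 0, 324, 0, 0] := by
    rw [← h1, ← h2]
    refine List.map_congr_left fun a _ => ?_
    rw [h, pwc_conj hA]
  have h20 : ((p20, 53, [432, 0, 432, 0, 324, 0, 0]) : ℕ × ℕ × List ℕ) ∈ D :=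
    List.getElem_mem (l := D) (n := 20) (by decide)
  have h4 : x = (p20, 53, [432, 0, 432, 0, 324, 0, 0]) := List.inj_on_of_nodup_map D_nodup hx h20 h3
  rw [h4] at hr
  have h5 : r = ψ (cmw (p20, [6, 5, 3], [2, 1])) := perm_eq_of_tab hr (comm_tab cm20)
  obtain ⟨σ, hσ⟩ := exists_aut (A.inv_mem hb)
  have h6 : cmw (p20, [6, 5, 3], [2, 1]) = σ (cmw (pn, aw, vw)) := by
    apply ψ_injective
    rw [hσ, h, ← h5]
    group
  rw [h6]
  exact Good.map σ good_nine

/-- **the `3`-elements are good** -/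
theorem good_three {g : Suz} {k : ℕ} (hk : g ^ 3 ^ k = 1) : Good g := by
  obtain ⟨y, hy, σ, rfl, htab, -⟩ := cases5 hk
  refine Good.map σ ?_
  simp only [W5, List.mem_cons, List.not_mem_nil, or_false] at hy
  rcases hy with rfl | rfl | rfl | rfl | rfl
  · have : cmw (p1, [0], [0]) = 1 := by
      unfold cmw
      group
    rw [this]
    exact good_of_real (u := 1) (one_pow 3) (by group)
  · exact good_of_real (cube_of htab o4) (real_of ck2)
  · exact good_of_real (cube_of htab o6) (real_of ck1)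
  · exact good_twenty
  · exact good_of_real (cube_of htab o36) (real_of ck3)

theorem good_suz {S : Type*} [Group S] (h : Spor.IsoSuz S) (y : S) (hy : ∃ k, y ^ 3 ^ k = 1) : Good y := by
  obtain ⟨e⟩ := h
  obtain ⟨k, hk⟩ := hy
  have h1 : Good (e y) := good_three (k := k) (by rw [← map_pow, hk, map_one])
  have h2 := Good.map e.symm.toMonoidHom h1
  have h3 : e.symm.toMonoidHom (e y) = y := e.symm_apply_apply y
  rwa [h3] at h2

theorem real_suz {S : Type*} [Group S] (h : Spor.IsoSuz S) {y : S} (hy : y ^ 3 = 1) : ∃ u, u * y * u⁻¹ = y⁻¹ := by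
  obtain ⟨e⟩ := h
  obtain ⟨u, hu⟩ := real_three (g := e y) (by rw [← map_pow, hy, map_one])
  refine ⟨e.symm u, ?_⟩
  apply e.injective
  rw [map_mul, map_mul, map_inv, map_inv, e.apply_symm_apply, hu]

end Cfsg.Agent.H740.OreM.SuzThree
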