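import Cfsg.Agent.H980.Ore.ThLoc
import Cfsg.Agent.H894.ThThree.Main

/-!
# The elements of order 3 of the Thompson group are real (helper740)
-/

set_option autoImplicit false

namespace Cfsg.Agent.H740.OreM.ThReal

open Equiv Equiv.Perm

/-- permutations of nine points -/
abbrev P9 := Perm (Fin 9)

def r1 : P9 := ⟨![1, 2, 0, 3, 4, 5, 6, 7, 8], ![2, 0, 1, 3, 4, 5, 6, 7, 8], by decide, by decide⟩
def r2 : P9 := ⟨![1, 2, 0, 4, 5, 3, 6, 7, 8], ![2, 0, 1, 5, 3, 4, 6, 7, 8], by decide, by decide⟩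
def r3 : P9 := ⟨![1, 2, 0, 4, 5, 3, 7, 8, 6], ![2, 0, 1, 5, 3, 4, 8, 6, 7], by decide, by decide⟩
def t1 : P9 := ⟨![1, 0, 2, 4, 3, 5, 6, 7, 8], ![1, 0, 2, 4, 3, 5, 6, 7, 8], by decide, by decide⟩
def t3 : P9 := ⟨![4, 3, 5, 1, 0, 2, 7, 6, 8], ![4, 3, 5, 1, 0, 2, 7, 6, 8], by decide, by decide⟩

/-- the certificate -/
theorem ok (k : ℕ) (hk : k < 3) : ∃ r t : P9, r.cycleType = Multiset.replicate (k + 1) 3 ∧ sign t = 1 ∧
    t * r * t⁻¹ = r⁻¹ := by
  interval_cases k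
  · exact ⟨r1, t1, by decide +kernel, by decide +kernel, by decide +kernel⟩
  · exact ⟨r2, t1, by decide +kernel, by decide +kernel, by decide +kernel⟩
  · exact ⟨r3, t3, by decide +kernel, by decide +kernel, by decide +kernel⟩

theorem real_nine (g : alternatingGroup (Fin 9)) (hg : g ^ 3 = 1) : ∃ u, u * g * u⁻¹ = g⁻¹ := by
  by_cases h1 : g = 1
  · exact ⟨1, by rw [h1]; group⟩
  have hp : Fact (Nat.Prime 3) := ⟨Nat.prime_three⟩
  have ho : orderOf (g : P9) = 3 := by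
    rw [Subgroup.orderOf_coe]
    exact orderOf_eq_prime hg h1
  obtain ⟨n, hn⟩ := Equiv.Perm.cycleType_prime_order (σ := (g : P9)) (by rw [ho]; exact Nat.prime_three)
  rw [ho] at hn
  have hn3 : n < 3 := by
    have h2 := Equiv.Perm.sum_cycleType (g : P9)
    rw [hn, Multiset.sum_replicate, smul_eq_mul] at h2
    have h3 := Finset.card_le_univ (g : P9).support
    rw [Fintype.card_fin] at h3
    omega
  obtain ⟨r, t, hr, ht, htr⟩ := ok n hn3
  have h2 : IsConj r (g : P9) := Equiv.Perm.isConj_iff_cycleType_eq.2 (by rw [hr, hn])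
  obtain ⟨c, hc⟩ := isConj_iff.1 h2
  refine ⟨⟨c * t * c⁻¹, ?_⟩, ?_⟩
  · rw [Equiv.Perm.mem_alternatingGroup]
    simp [ht]
  · apply Subtype.ext
    show c * t * c⁻¹ * (g : P9) * (c * t * c⁻¹)⁻¹ = (g : P9)⁻¹
    rw [← hc]
    calc c * t * c⁻¹ * (c * r * c⁻¹) * (c * t * c⁻¹)⁻¹ = c * (t * r * t⁻¹) * c⁻¹ := by group
      _ = c * r⁻¹ * c⁻¹ := by rw [htr]
      _ = _ := by group

/-- **lifting reality through a `2`-group** -/
theorem real_of_map {C A : Type*} [Group C] [Finite C] [Group A] (π : C →* A) (hs : Function.Surjective π)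
    (hk : IsPGroup 2 ↥π.ker) {y : C} (hy : y ^ 3 = 1) (hr : ∃ a, a * π y * a⁻¹ = (π y)⁻¹) :
    ∃ u, u * y * u⁻¹ = y⁻¹ := by
  by_cases hy1 : y = 1
  · exact ⟨1, by rw [hy1]; group⟩
  have hp : Fact (Nat.Prime 3) := ⟨Nat.prime_three⟩
  have hyo : orderOf y = 3 := orderOf_eq_prime hy hy1
  obtain ⟨a, ha⟩ := hr
  obtain ⟨u, rfl⟩ := hs a
  -- `π y ≠ 1`
  have hπy : π y ≠ 1 := by
    intro h
    obtain ⟨n, hn⟩ := hk ⟨y, h⟩
    have h1 : y ^ 2 ^ n = 1 := congrArg Subtype.val hn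
    have h2 := orderOf_dvd_of_pow_eq_one h1
    rw [hyo] at h2
    have h3 := Nat.Prime.dvd_of_dvd_pow Nat.prime_three h2
    norm_num at h3
  have hπyo : orderOf (π y) = 3 := orderOf_eq_prime (by rw [← map_pow, hy, map_one]) hπy
  set L : Subgroup C := (Subgroup.zpowers (π y)).comap π with hL
  have hyL : y ∈ L := Subgroup.mem_comap.2 (Subgroup.mem_zpowers _)
  have huL : u * y * u⁻¹ ∈ L := by
    rw [hL, Subgroup.mem_comap, map_mul, map_mul, map_inv, ha]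
    exact Subgroup.inv_mem _ (Subgroup.mem_zpowers _)
  have hcard : Nat.card ↥L = Nat.card ↥π.ker * 3 := by
    let φ : ↥L →* A := π.comp L.subtype
    have h1 : Nat.card ↥L = Nat.card ↥φ.ker * Nat.card ↥φ.range := by
      rw [← φ.ker.card_mul_index, Subgroup.index_ker]
    have h2 : φ.range = Subgroup.zpowers (π y) := by
      rw [MonoidHom.range_comp, Subgroup.range_subtype, hL, Subgroup.map_comap_eq_self_of_surjective hs]
    have h3 : Nat.card ↥φ.ker = Nat.card ↥π.ker := by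
      refine Nat.card_congr
        { toFun := fun t => ⟨((t : ↥L) : C), t.2⟩
          invFun := fun t => ⟨⟨(t : C), Subgroup.mem_comap.2 (by rw [MonoidHom.mem_ker.1 t.2]; exact one_mem _)⟩, t.2⟩
          left_inv := fun t => rfl
          right_inv := fun t => rfl }
    rw [h1, h2, h3, Nat.card_zpowers, hπyo]
  have hfac : (Nat.card ↥L).factorization 3 = 1 := by
    obtain ⟨n, hn⟩ := IsPGroup.iff_card.1 hk
    rw [hcard, hn, Nat.factorization_mul (by positivity) (by norm_num), Finsupp.add_apply, Nat.factorization_pow,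
      Finsupp.smul_apply, Nat.prime_two.factorization, Nat.prime_three.factorization]
    simp
  obtain ⟨g, k, hgk⟩ := Cfsg.Agent.H980.Ore.ThLoc.exists_conj_pow (L := ↥L) (p := 3) (x := ⟨y, hyL⟩)
    (y := ⟨u * y * u⁻¹, huL⟩) hfac (by rw [Subgroup.orderOf_mk, hyo]) (by
      rw [Subgroup.orderOf_mk, ← hyo]
      exact orderOf_injective (MulAut.conj u).toMonoidHom (MulAut.conj u).injective y)
  have h1 : u * y * u⁻¹ = ((g : C) * y * (g : C)⁻¹) ^ k := congrArg Subtype.val hgk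
  rw [conj_pow] at h1
  have h2 : (g : C)⁻¹ * (u * y * u⁻¹) * g = y ^ k := by rw [h1]; group
  -- `y ^ k = y⁻¹`
  have hgπ : π (g : C) * π y = π y * π (g : C) := by
    obtain ⟨i, hi⟩ := Subgroup.mem_zpowers_iff.1 (Subgroup.mem_comap.1 g.2)
    rw [← hi]
    exact ((Commute.refl (π y)).zpow_left i).eq
  have h3 : π (y ^ k) = (π y)⁻¹ := by
    rw [← h2, map_mul, map_mul, map_mul, map_mul, map_inv, map_inv, ha]
    have h4 : Commute (π (g : C)) (π y)⁻¹ := (show Commute (π (g : C)) (π y) from hgπ).inv_right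
    rw [mul_assoc, ← h4.eq, inv_mul_cancel_left]
  have h5 : y ^ k = y⁻¹ := by
    have h6 : π y ^ (k + 1) = 1 := by rw [pow_succ, ← map_pow, h3, inv_mul_cancel]
    have h7 : 3 ∣ k + 1 := by rw [← hπyo]; exact orderOf_dvd_of_pow_eq_one h6
    rw [eq_inv_iff_mul_eq_one, ← pow_succ]
    exact orderOf_dvd_iff_pow_eq_one.1 (by rw [hyo]; exact h7)
  refine ⟨(g : C)⁻¹ * u, ?_⟩
  rw [← h5, ← h2]
  group

/-- **elements of order 3 of the Thompson group are real** -/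
theorem real_Th {x : Cfsg.Spor.Th} (hx : x ^ 3 = 1) : ∃ u, u * x * u⁻¹ = x⁻¹ := by
  have hfin := Cfsg.Agent.H894.ThThree.finite_Th
  obtain ⟨i, hi1, hi2, hi3⟩ := Cfsg.Agent.H894.ThThree.exists_inv_of_three hx
  have hp : Fact (Nat.Prime 2) := ⟨Nat.prime_two⟩
  have hio : orderOf i = 2 := orderOf_eq_prime (by rw [pow_two]; exact hi2) hi1
  obtain ⟨g, hg⟩ := isConj_iff.1 (Cfsg.Agent.MonsterX.ThOneClass.oneClass i (Cfsg.Agent.Th.IndexUpper.gTh 1) hio
    Cfsg.Agent.MonsterX.ThOneClass.orderOf_a)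
  obtain ⟨π, D⟩ := Cfsg.Agent.KFacts.Th.Main.exists_data Cfsg.Agent.KFacts.Th.Main.ctx
  have hC : g * x * g⁻¹ ∈ Subgroup.centralizer ({Cfsg.Agent.Th.IndexUpper.gTh 1} : Set Cfsg.Spor.Th) := by
    refine Subgroup.mem_centralizer_singleton_iff.2 ?_
    rw [← hg]
    calc g * x * g⁻¹ * (g * i * g⁻¹) = g * (x * i) * g⁻¹ := by group
      _ = g * (i * x) * g⁻¹ := by rw [hi3]
      _ = g * i * g⁻¹ * (g * x * g⁻¹) := by group
  obtain ⟨u, hu⟩ := real_of_map π D.surj (by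
    rw [IsPGroup.iff_orderOf]
    rintro ⟨c, hc⟩
    have hcQ := (Cfsg.Agent.H980.Ore.ThLoc.mem_ker D).1 hc
    have h4 : c ^ 4 = 1 := by
      have h2 : (c : Cfsg.Spor.Th) * c = 1 ∨ (c : Cfsg.Spor.Th) * c = Cfsg.Agent.Th.IndexUpper.gTh 1 := D.large.sq _ hcQ
      apply Subtype.ext
      show (c : Cfsg.Spor.Th) ^ 4 = 1
      rw [show 4 = 2 * 2 by norm_num, pow_mul, pow_two (c : Cfsg.Spor.Th)]
      rcases h2 with h2 | h2
      · rw [h2, one_pow]
      · rw [h2, pow_two]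
        exact D.large.z_sq
    rw [Subgroup.orderOf_mk]
    obtain ⟨j, -, hj⟩ := (Nat.dvd_prime_pow Nat.prime_two).1 (show orderOf c ∣ 2 ^ 2 from
      orderOf_dvd_of_pow_eq_one h4)
    exact ⟨j, hj⟩) (y := ⟨g * x * g⁻¹, hC⟩) (Subtype.ext (by
      show (g * x * g⁻¹) ^ 3 = 1
      rw [conj_pow, hx, mul_one, mul_inv_cancel])) (real_nine _ (by
      rw [← map_pow]
      have : (⟨g * x * g⁻¹, hC⟩ : ↥(Subgroup.centralizer ({Cfsg.Agent.Th.IndexUpper.gTh 1} : Set Cfsg.Spor.Th))) ^ 3 = 1 :=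
        Subtype.ext (by
          show (g * x * g⁻¹) ^ 3 = 1
          rw [conj_pow, hx, mul_one, mul_inv_cancel])
      rw [this, map_one]))
  have hu' : (u : Cfsg.Spor.Th) * (g * x * g⁻¹) * (u : Cfsg.Spor.Th)⁻¹ = (g * x * g⁻¹)⁻¹ := congrArg Subtype.val hu
  refine ⟨g⁻¹ * u * g, ?_⟩
  calc g⁻¹ * u * g * x * (g⁻¹ * u * g)⁻¹ = g⁻¹ * (u * (g * x * g⁻¹) * (u : Cfsg.Spor.Th)⁻¹) * g := by group
    _ = g⁻¹ * (g * x * g⁻¹)⁻¹ * g := by rw [hu']
    _ = _ := by group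

theorem real_iso {S : Type*} [Group S] (h : Cfsg.Spor.IsoTh S) {y : S} (hy : y ^ 3 = 1) : ∃ u, u * y * u⁻¹ = y⁻¹ := by
  obtain ⟨e⟩ := h
  obtain ⟨u, hu⟩ := real_Th (x := e y) (by rw [← map_pow, hy, map_one])
  refine ⟨e.symm u, ?_⟩
  apply e.injective
  rw [map_mul, map_mul, map_inv, map_inv, e.apply_symm_apply, hu]

end Cfsg.Agent.H740.OreM.ThReal
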