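import Cfsg.Agent.H740.OreM.Cases
import Cfsg.Agent.H740.OreM.SuzThree
import Cfsg.Agent.H740.OreM.ThReal
import Cfsg.Agent.H31.TwoCyc.MPart
import Cfsg.Agent.H49.Four.ThreeInv

/-!
# S2443, row M: the elements of 3-power order of the Monster are commutators (helper740)

`three_all_of` : from `L11` (a subgroup of order 27 of `C(w)`, `w` of order 11, is not abelian).
-/

set_option autoImplicit false
set_option maxRecDepth 100000

namespace Cfsg.Agent.H740.OreM.Threes

open Cfsg Cfsg.Agent.MonsterX Cfsg.Agent.MonsterX.InstData Cfsg.Agent.MonsterX.MainPack Cfsg.Agent.MonsterU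
open Cfsg.Agent.MonsterP Cfsg.Agent.MonsterN Cfsg.Agent.LThreeMB
open Cfsg.Agent.MonsterX.MainBasic Cfsg.Agent.MonsterX.MainSimple Cfsg.Agent.MonsterX.Model
open Cfsg.Agent.MonsterU.Lam2 Cfsg.Agent.MonsterU.TwoCls
open Cfsg.Agent.BpSpor.MBigModel Cfsg.Agent.H199.NSmMon Cfsg.Agent.H31.TwoCyc.MPart
open Cfsg.Agent.H777.Ore Cfsg.Agent.BpSpor.M5 Cfsg.Agent.H740.OreM.Dich
open Cfsg.Spor (Co1)
open Subgroup (centralizer zpowers mem_centralizer_singleton_iff)

/-- a subgroup of order 27 of `C(w)`, `w` of order 11, is not abelian -/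
def L11 : Prop := ∀ w : MG, orderOf w = 11 → w * zz = zz * w → ∀ B : Subgroup MG, B ≤ centralizer ({w} : Set MG) →
  Nat.card ↥B = 27 → ∃ a ∈ B, ∃ b ∈ B, a * b ≠ b * a

theorem cube_eq {G : Type*} [Group G] {x : G} (hx : orderOf x = 3) : x ^ 3 = 1 := by rw [← hx, pow_orderOf_eq_one]

/-- all elements of fixed rank 0 are 3-central -/
theorem full_of {x : centralizer ({zz} : Set MG)} (hx : orderOf x = 3) (hfr : fr (pi x) = 1) : Full 3 (x : MG) := by
  have := finite
  obtain ⟨x₁, hx₁, hfr₁, hf⟩ := exists_full3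
  obtain ⟨s, hs⟩ := LThreeCo1.Ranks.zero (pi x₁) (pi x) (orderOf_pi chart hx₁) (orderOf_pi chart hx) hfr₁ hfr
  obtain ⟨c, hc⟩ := Cfsg.Agent.LThreeMB.exists_conj_of_conj chart (x := x₁) (y := x) (cube_eq hx₁) (cube_eq hx) hs
  have h1 := hf.conj (c : MG)
  have h2 : (c : MG) * x₁ * (c : MG)⁻¹ = x := congrArg Subtype.val hc
  rwa [h2] at h1

/-- **the structure of `C(x)`** -/
theorem exists_D (hL : L11) {x : centralizer ({zz} : Set MG)} (hx : orderOf x = 3) (hfr : fr (pi x) = 1) :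
    ∃ N : Subgroup ↥(centralizer ({(x : MG)} : Set MG)), Rad 3 (zD x) (self (x : MG)) N (toXX pi x) ∧
      Cen (self (x : MG)) N ∧ IsSimpleGroup (XX (pi x)) ∧ ¬ Group.IsSolvable (XX (pi x)) := by
  have := finite
  have hp : Fact (Nat.Prime 3) := ⟨Nat.prime_three⟩
  obtain ⟨⟨N, hN⟩, hc⟩ := rd3 hx hfr
  have hs := hN.simple
  refine ⟨N, hN.rad, ?_, hs, hN.ns⟩
  obtain ⟨k, hk⟩ := hN.sq
  -- `|N| = 3 ^ 13`
  have hcard : Nat.card ↥N = 3 ^ 13 := by
    obtain ⟨m, hm, hcm⟩ := hN.rad.card_N_mul hN.ns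
    rw [hc] at hcm
    have h1 := Cfsg.Agent.H199.AbMon.three_zero' hx hfr
    have h2 : Nat.card ↥N ∣ 3 ^ 13 * 2 := by
      have h3 : Nat.card ↥N * m * 448345497600 ∣ 3 ^ 13 * 2 * 448345497600 := by
        rw [show Nat.card ↥N * m * 448345497600 = Nat.card ↥N * (448345497600 * m) by ring, ← hcm]
        exact h1.trans (by norm_num)
      exact (dvd_mul_right _ m).trans (Nat.dvd_of_mul_dvd_mul_right (by norm_num) h3)
    have h3 : Nat.card ↥N ∣ 3 ^ 13 := by
      refine Nat.Coprime.dvd_of_dvd_mul_right ?_ h2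
      rw [Nat.coprime_two_right]
      exact hN.rad.oN
    obtain ⟨j, hj, hjc⟩ := (Nat.dvd_prime_pow Nat.prime_three).1 h3
    have hj13 : j = 13 := by
      by_contra hcon
      have hj12 : j ≤ 12 := by omega
      have h4 := full_of hx hfr 20 (by rw [card_M]; norm_num)
      rw [hcm, hjc] at h4
      have h5 : 3 ^ 20 ∣ 3 ^ 12 * (448345497600 * 2) :=
        h4.trans (mul_dvd_mul (pow_dvd_pow 3 hj12) (mul_dvd_mul_left _ hm))
      norm_num at h5
    rw [hjc, hj13]
  -- an element of order 11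
  have h11 : 11 ∣ Nat.card ↥(centralizer ({zD x} : Set ↥(centralizer ({(x : MG)} : Set MG)))) := by
    have h1 := Subgroup.card_dvd_of_surjective (toXX pi x) hN.rad.surj
    rw [hc] at h1
    exact Dvd.dvd.trans (by norm_num) h1
  have hp11 : Fact (Nat.Prime 11) := ⟨by norm_num⟩
  obtain ⟨w, hw⟩ := exists_prime_orderOf_dvd_card' 11 h11
  have hwo : orderOf ((w : ↥(centralizer ({(x : MG)} : Set MG))) : MG) = 11 := by
    rw [Subgroup.orderOf_coe, Subgroup.orderOf_coe, hw]
  have hwz : ((w : ↥(centralizer ({(x : MG)} : Set MG))) : MG) * zz = zz * (w : ↥(centralizer ({(x : MG)} : Set MG))) :=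
    congrArg Subtype.val (mem_centralizer_singleton_iff.1 w.2)
  have hle : (centralizer ({(w : ↥(centralizer ({(x : MG)} : Set MG)))} : Set ↥(centralizer ({(x : MG)} : Set MG)))).map
      (centralizer ({(x : MG)} : Set MG)).subtype ≤
      centralizer ({((w : ↥(centralizer ({(x : MG)} : Set MG))) : MG)} : Set MG) := by
    rintro _ ⟨g, hg, rfl⟩
    exact mem_centralizer_singleton_iff.2 (congrArg Subtype.val (mem_centralizer_singleton_iff.1 hg))
  refine Nondeg.cen_of hN.rad hN.ns hk hcard (by rw [hc]; norm_num) hw ?_ ?_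
  · intro h81
    have h1 := Subgroup.card_dvd_of_le hle
    rw [Subgroup.card_map_of_injective (Subgroup.subtype_injective _)] at h1
    have h2 := Cfsg.Agent.H199.AbMon.eleven hwo ⟨1, by rw [one_mul, inv_one, mul_one]; exact hwz.symm⟩
    rw [h2] at h1
    have h3 := h81.trans h1
    norm_num at h3
  · intro B hB h27
    obtain ⟨a, ⟨a', ha', haa⟩, b, ⟨b', hb', hbb⟩, hab⟩ := hL _ hwo hwz
      (B.map (centralizer ({(x : MG)} : Set MG)).subtype) ((Subgroup.map_mono hB).trans hle) (by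
        rw [Subgroup.card_map_of_injective (Subgroup.subtype_injective _), h27])
    refine ⟨a', ha', b', hb', fun h1 => hab ?_⟩
    rw [← haa, ← hbb]
    exact congrArg Subtype.val h1

/-- a `3`-element of `C(x)` -/
theorem step (hL : L11) {x : centralizer ({zz} : Set MG)} (hx : orderOf x = 3) (hfr : fr (pi x) = 1) {g : MG}
    (hgx : g * (x : MG) = x * g) {e : ℕ} (hg : g ^ 3 ^ e = 1) :
    IsC g ∨ ∃ m : MG, m * (x : MG) = x * m ∧ g * (m * zz * m⁻¹) = m * zz * m⁻¹ * g := by
  have := finite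
  obtain ⟨N, hN, hcen, hs, hns⟩ := exists_D hL hx hfr
  have hsuz := CoOneFin.coOne.suz (pi x) (orderOf_pi chart hx) hfr
  rcases Cases.isC_or hN hcen (SuzThree.good_suz hsuz) (g := ⟨g, mem_centralizer_singleton_iff.2 hgx⟩) (e := e)
    (Subtype.ext hg) with h | ⟨m, hm⟩
  · exact Or.inl (IsC.of_sub _ _ h)
  · exact Or.inr ⟨m, mem_centralizer_singleton_iff.1 m.2, congrArg Subtype.val hm⟩

/-- a root of `x` -/
theorem case_one (hL : L11) {x : centralizer ({zz} : Set MG)} (hx : orderOf x = 3) (hfr : fr (pi x) = 1) {g : MG}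
    {k : ℕ} (hgk : g ^ 3 ^ (k + 1) = x) : IsC g := by
  have := finite
  have hxo : orderOf (x : MG) = 3 := by rw [Subgroup.orderOf_coe, hx]
  have hgx : g * (x : MG) = x * g := by
    rw [← hgk]
    exact ((Commute.refl g).pow_right _).eq
  have hg : g ^ 3 ^ (k + 2) = 1 := by
    rw [pow_succ 3 (k + 1), pow_mul, hgk, cube_eq hxo]
  rcases step hL hx hfr hgx hg with h | ⟨m, hmx, hm⟩
  · exact h
  · exfalso
    obtain ⟨N, hN, hcen, hs, hns⟩ := exists_D hL hx hfr
    have hsuz := CoOneFin.coOne.suz (pi x) (orderOf_pi chart hx) hfr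
    set g' := m⁻¹ * g * m with hg'
    have hz : g' * zz = zz * g' := by
      calc g' * zz = m⁻¹ * (g * (m * zz * m⁻¹)) * m := by rw [hg']; group
        _ = m⁻¹ * (m * zz * m⁻¹ * g) * m := by rw [hm]
        _ = _ := by rw [hg']; group
    have hgk' : g' ^ 3 ^ (k + 1) = x := by
      have h1 : g' ^ 3 ^ (k + 1) = m⁻¹ * g ^ 3 ^ (k + 1) * m := by
        rw [hg']
        have := conj_pow (i := 3 ^ (k + 1)) (a := m⁻¹) (b := g)
        rwa [inv_inv] at this
      rw [h1, hgk, mul_assoc, ← hmx]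
      group
    set h := g' ^ 3 ^ k with hh
    have hh3 : h ^ 3 = x := by rw [hh, ← pow_mul, ← pow_succ, hgk']
    have hhz : h * zz = zz * h := ((show Commute g' zz from hz).pow_left _).eq
    have hhx : h * (x : MG) = x * h := by
      rw [← hh3]
      exact ((Commute.refl h).pow_right _).eq
    have h1 := Cases.no_root hN hns (fun y hy => SuzThree.real_suz hsuz hy)
      (g := ⟨h, mem_centralizer_singleton_iff.2 hhx⟩) (Subtype.ext hhz) (j := 1) (by
        rw [zpow_one]
        exact Subtype.ext hh3)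
    rw [zpow_one] at h1
    have h2 : (x : MG) = 1 := congrArg Subtype.val h1
    rw [h2, orderOf_one] at hxo
    norm_num at hxo

/-- no cube root of `s` if the elements of order 3 of `C(s)/⟨s⟩` are real -/
theorem no_root_XX {s h : MG} (hs : orderOf s = 3) (hh : h ^ 3 = s)
    (hreal : ∀ y : XX s, y ^ 3 = 1 → ∃ u, u * y * u⁻¹ = y⁻¹) : False := by
  have hc : h * s = s * h := by
    rw [← hh]
    exact ((Commute.refl h).pow_right _).eq
  have hi : h⁻¹ * s = s * h⁻¹ := ((show Commute h s from hc).inv_left).eq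
  have h3 : h ^ 3 * s = s * h ^ 3 := by rw [hh]
  have hy : mk s hc ^ 3 = 1 := by
    have h4 : mk s hc ^ 3 = mk s h3 := rfl
    rw [h4, mk_eq_one]
    exact ⟨1, by rw [zpow_one, hh]⟩
  obtain ⟨u, hu⟩ := hreal _ hy
  obtain ⟨v, hv, rfl⟩ := exists_mk u
  have hvh : (v * h * v⁻¹) * s = s * (v * h * v⁻¹) := LThreeMB.conj_comm hv hc
  have h4 : mk s hvh = mk s hi := hu
  obtain ⟨i, hi'⟩ := (mk_eq_mk hvh hi).1 h4
  -- `v h v⁻¹ s ^ i = h⁻¹`
  have h5 : (v * h * v⁻¹ * s ^ i) ^ 3 = (h⁻¹) ^ 3 := by rw [hi']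
  have hcm : Commute (v * h * v⁻¹) (s ^ i) := (show Commute (v * h * v⁻¹) s from hvh).zpow_right i
  have hsi : (s ^ i) ^ 3 = 1 := by
    rw [← zpow_natCast, ← zpow_mul, mul_comm, zpow_mul, zpow_natCast, cube_eq hs, one_zpow]
  rw [hcm.mul_pow, hsi, mul_one, conj_pow, inv_pow, hh, hv, mul_inv_cancel_right] at h5
  have h6 : s ^ 2 = 1 := by rw [pow_two]; nth_rewrite 1 [h5]; exact inv_mul_cancel s
  have h7 := orderOf_dvd_of_pow_eq_one h6
  rw [hs] at h7
  norm_num at h7

theorem real_fi {S : Type*} [Group S] (h : Spor.IsoFi24' S) {y : S} (hy : y ^ 3 = 1) : ∃ u, u * y * u⁻¹ = y⁻¹ := by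
  obtain ⟨e⟩ := h
  obtain ⟨u, -, hu⟩ := Cfsg.Agent.H49.Four.ThreeInv.three_inv (s := e y) (by rw [← map_pow, hy, map_one])
  refine ⟨e.symm u, ?_⟩
  apply e.injective
  rw [map_mul, map_mul, map_inv, map_inv, e.apply_symm_apply, hu]

theorem fr_inv (s : Co1) : fr s⁻¹ = fr s := by
  unfold fr
  refine Nat.card_congr (Equiv.subtypeEquivRight fun v => ?_)
  rw [inv_smul_eq_iff, eq_comm]

/-- **elements of order 3 commuting with `z` are real** -/
theorem real_in {x : centralizer ({zz} : Set MG)} (hx : orderOf x = 3) : ∃ c : centralizer ({zz} : Set MG),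
    c * x * c⁻¹ = x⁻¹ := by
  have I := CoOneFin.coOne
  have key : ∀ n, ClassOf n → fr (pi x) = n → ∃ c : centralizer ({zz} : Set MG), c * x * c⁻¹ = x⁻¹ := by
    intro n hn hfr
    have hxi : orderOf x⁻¹ = 3 := by rw [orderOf_inv, hx]
    obtain ⟨s, hs⟩ := hn (pi x) (pi x⁻¹) (orderOf_pi chart hx) (orderOf_pi chart hxi) hfr (by
      rw [map_inv, fr_inv, hfr])
    exact Cfsg.Agent.LThreeMB.exists_conj_of_conj chart (x := x) (y := x⁻¹) (cube_eq hx) (cube_eq hxi) hs
  rcases I.ranks (pi x) (orderOf_pi chart hx) with h1 | h1 | h1 | h1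
  · exact key _ LThreeCo1.Ranks.zero h1
  · exact key _ I.six h1
  · exact key _ I.eight h1
  · exact key _ I.twelve h1

/-- **`3`-elements commuting with `z`** -/
theorem isC_in (hL : L11) {g : MG} (hgz : g * zz = zz * g) {e : ℕ} (hg : g ^ 3 ^ e = 1) : IsC g := by
  have := finite
  have := simple
  have I := CoOneFin.coOne
  have htr := KPair.trNe KDone.lft LThreeB.Row.cent (LThreeMBTr.traceNe KDone.lft LThreeMBTr.TensK.tens)
  obtain ⟨n, -, hn⟩ := (Nat.dvd_prime_pow Nat.prime_three).1 (orderOf_dvd_of_pow_eq_one hg)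
  rcases n with _ | _ | k
  · rw [pow_zero, orderOf_eq_one_iff] at hn
    rw [hn]
    exact isC_one
  · -- order 3
    have hn3 : orderOf g = 3 := by rw [hn]; norm_num
    obtain ⟨c, hc⟩ := real_in (x := ⟨g, mem_centralizer_singleton_iff.2 hgz⟩) (by rw [Subgroup.orderOf_mk, hn3])
    exact isC_of_real_odd (a := g) (b := c) (congrArg Subtype.val hc) (by rw [hn3]; decide)
  · -- order at least 9
    set s := g ^ 3 ^ (k + 1) with hs
    have hso : orderOf s = 3 := by
      rw [hs, orderOf_pow_of_dvd (by positivity) (by rw [hn]; exact pow_dvd_pow 3 (by omega)), hn,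
        show k + 1 + 1 = (k + 1) + 1 from rfl, pow_succ, Nat.mul_div_cancel_left _ (by positivity)]
    have hsz : s * zz = zz * s := ((show Commute g zz from hgz).pow_left _).eq
    set h := g ^ 3 ^ k with hh
    have hh3 : h ^ 3 = s := by rw [hh, hs, ← pow_mul, ← pow_succ]
    let x : centralizer ({zz} : Set MG) := ⟨s, mem_centralizer_singleton_iff.2 hsz⟩
    have hx : orderOf x = 3 := by
      show orderOf (⟨s, _⟩ : centralizer ({zz} : Set MG)) = 3
      rw [Subgroup.orderOf_mk, hso]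
    rcases I.ranks (pi x) (orderOf_pi chart hx) with h1 | h1 | h1 | h1
    · exact case_one hL hx h1 (k := k) rfl
    · obtain ⟨x₀, u, g₁, hx₀, hfr₀, huz, hux, hne, hg₁⟩ :=
        KPair.hasPair KDone.lft LThreeB.Row.cent PreUniq.MonRow.second COct.octPair
      obtain ⟨c, hc⟩ := conj_six chart htr I.ranks I.six
        (fun x hx h2 => ⟨(good_of_inputs chart I hx h2 : Good.{0} _).simple, (good_of_inputs chart I hx h2 : Good.{0} _).nc⟩)
        hx₀ hfr₀ huz hux hne hg₁ hx h1
      refine IsC.of_conj c (case_one hL hx₀ hfr₀ (k := k) ?_)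
      rw [conj_pow, ← hc]
    · exfalso
      exact no_root_XX hso hh3 (fun y hy => ThReal.real_iso (LThreeB.isoTh_of_inputs chart I hx h1) hy)
    · exfalso
      exact no_root_XX hso hh3 (fun y hy => real_fi (LThreeB.isoFi_of_inputs chart I hx h1) hy)

/-- conjugating a `p`-element into the centralizer of a `p`-central element -/
theorem exists_conj_in_cent {G : Type*} [Group G] [Finite G] {p : ℕ} [hp : Fact p.Prime] {x : G}
    (hfull : ∀ k, p ^ k ∣ Nat.card G → p ^ k ∣ Nat.card ↥(centralizer ({x} : Set G))) {g : G} {a : ℕ}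
    (hg : g ^ p ^ a = 1) : ∃ c : G, c * g * c⁻¹ ∈ centralizer ({x} : Set G) := by
  obtain ⟨S⟩ : Nonempty (Sylow p ↥(centralizer ({x} : Set G))) := inferInstance
  set T : Subgroup G := (S : Subgroup ↥(centralizer ({x} : Set G))).map (centralizer ({x} : Set G)).subtype with hT
  have hTp : IsPGroup p ↥T := S.isPGroup'.map _
  obtain ⟨P, hP⟩ := hTp.exists_le_sylow
  have hTP : T = P := by
    refine Subgroup.eq_of_le_of_card_ge hP ?_
    obtain ⟨b, hb⟩ := IsPGroup.iff_card.1 P.isPGroup'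
    rw [hT, Subgroup.card_map_of_injective (Subgroup.subtype_injective _), hb]
    refine Nat.le_of_dvd Nat.card_pos (S.pow_dvd_card_of_pow_dvd_card (hfull b ?_))
    rw [← hb]
    exact Subgroup.card_subgroup_dvd_card _
  obtain ⟨j, -, hj⟩ := (Nat.dvd_prime_pow hp.out).1 (orderOf_dvd_of_pow_eq_one hg)
  have hgp : IsPGroup p ↥(zpowers g) := IsPGroup.of_card (n := j) (by rw [Nat.card_zpowers, hj])
  obtain ⟨R, hR⟩ := hgp.exists_le_sylow
  obtain ⟨c, hc⟩ := MulAction.exists_smul_eq G R P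
  have h1 : c * g * c⁻¹ ∈ (P : Subgroup G) := by
    rw [← hc]
    exact Subgroup.smul_mem_pointwise_smul g (MulAut.conj c) (R : Subgroup G) (hR (Subgroup.mem_zpowers g))
  rw [← hTP] at h1
  exact ⟨c, Subgroup.map_subtype_le _ h1⟩

/-- **The elements of `3`-power order of the Monster are commutators.** -/
theorem three_all_of (hL : L11) {g : MG} {e : ℕ} (hg : g ^ 3 ^ e = 1) : IsC g := by
  have := finite
  have hp : Fact (Nat.Prime 3) := ⟨Nat.prime_three⟩
  obtain ⟨x, hx, hfr, hf⟩ := exists_full3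
  obtain ⟨c, hc⟩ := exists_conj_in_cent hf hg
  refine IsC.of_conj c ?_
  have hg' : (c * g * c⁻¹) ^ 3 ^ e = 1 := by rw [conj_pow, hg, mul_one, mul_inv_cancel]
  generalize c * g * c⁻¹ = g₁ at hc hg'
  rcases step hL hx hfr (mem_centralizer_singleton_iff.1 hc) hg' with h | ⟨m, -, hm⟩
  · exact h
  · refine IsC.of_conj m⁻¹ (isC_in hL (e := e) ?_ ?_)
    · rw [inv_inv]
      calc m⁻¹ * g₁ * m * zz = m⁻¹ * (g₁ * (m * zz * m⁻¹)) * m := by group
        _ = m⁻¹ * (m * zz * m⁻¹ * g₁) * m := by rw [hm]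
        _ = _ := by group
    · rw [conj_pow, hg', mul_one, mul_inv_cancel]

end Cfsg.Agent.H740.OreM.Threes
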