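import Cfsg.Agent.H740.OreM.Cases

/-!
# The situation `Rad`, `p = 3`: the second factor of the commutator (helper740)

As in `Lift` and `Cases`, with a property `P` of the element `b` of `g x ^ i = a b a⁻¹ b⁻¹`.
-/

set_option autoImplicit false
set_option linter.unusedSectionVars false

namespace Cfsg.Agent.H740.OreM.InvB

open Subgroup Cfsg Cfsg.Agent.BpSpor.M5 Cfsg.Agent.H777.Ore
open Cfsg.Agent.H740.OreM.Dich Cfsg.Agent.H740.OreM.Lift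

universe u v

variable {D : Type u} [Group D] [Finite D] {z x : D} {N : Subgroup D} {A : Type v} [Group A]
    {f : ↥(centralizer ({z} : Set D)) →* A}

/-- lifting a good commutator, with a given lift of order 3 -/
theorem exists_lift_of (h : Rad 3 z x N f) {c a₀ b₁ : ↥(centralizer ({z} : Set D))} {k : ℕ} (hk : c ^ 3 ^ k = 1)
    (hb3 : b₁ ^ 3 = 1) (hab : f a₀ * f b₁ * (f a₀)⁻¹ * (f b₁)⁻¹ = f c)
    (hcm : Commute (f b₁) (f a₀ * f b₁ * (f a₀)⁻¹ * f b₁ * (f a₀ * f b₁ * (f a₀)⁻¹)⁻¹)) :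
    ∃ i : ℤ, (c : D) = a₀ * (b₁ * z) * (a₀ : D)⁻¹ * (b₁ * z)⁻¹ * x ^ i := by
  have hp : Fact (Nat.Prime 3) := ⟨Nat.prime_three⟩
  have hzc : ∀ d : ↥(centralizer ({z} : Set D)), (d : D) * z = z * d := fun d => mem_centralizer_singleton_iff.1 d.2
  set p' := a₀ * b₁ * a₀⁻¹ with hp'
  have hp3 : p' ^ 3 = 1 := by rw [hp', conj_pow, hb3, mul_one, mul_inv_cancel]
  have hfp : f p' = f a₀ * f b₁ * (f a₀)⁻¹ := by rw [hp', map_mul, map_mul, map_inv]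
  -- the commutator of `b₁` and its conjugate
  set q := p' * b₁ * p'⁻¹ with hq
  set κ := b₁ * q * b₁⁻¹ * q⁻¹ with hκ
  have hκf : f κ = 1 := by
    have h1 : f q = f a₀ * f b₁ * (f a₀)⁻¹ * f b₁ * (f a₀ * f b₁ * (f a₀)⁻¹)⁻¹ := by
      rw [hq, map_mul, map_mul, map_inv, hfp]
    rw [hκ, map_mul, map_mul, map_mul, map_inv, map_inv, h1, hcm.eq]
    group
  have hκc : ∀ d : ↥(centralizer ({z} : Set D)), Commute d κ := by
    intro d
    apply Subtype.ext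
    show (d : D) * κ = κ * d
    obtain ⟨i, hi | hi⟩ := h.ker κ hκf
    · rw [hi, h.xzc]
    · rw [hi, ← mul_assoc, h.xzc, mul_assoc, hzc, mul_assoc]
  have hκ3 : κ ^ 3 = 1 := by
    have h1 : b₁ * q * b₁⁻¹ = κ * q := by rw [hκ]; group
    have h2 := conj_pow_mul (hκc b₁) h1 3
    rw [hb3, one_mul, inv_one, mul_one] at h2
    exact (mul_eq_right.1 h2.symm)
  obtain ⟨l, hl⟩ := ker_three h hκf (k := 1) (by rw [pow_one]; exact congrArg Subtype.val hκ3)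
  -- in `D / ⟨x⟩`
  have hZ : (zpowers x).Normal := h.normalZ
  set π := QuotientGroup.mk' (zpowers x) with hπ
  have hπx : ∀ i : ℤ, π (x ^ i) = 1 := fun i => (QuotientGroup.eq_one_iff _).2 (zpow_mem (mem_zpowers x) i)
  have h9 : (π (p' : D) * (π (b₁ : D))⁻¹) ^ 9 = 1 := by
    refine pow_nine ?_ ?_ ?_
    · rw [← map_pow, show (b₁ : D) ^ 3 = 1 from congrArg Subtype.val hb3, map_one]
    · rw [← map_pow, show (p' : D) ^ 3 = 1 from congrArg Subtype.val hp3, map_one]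
    · show π (b₁ : D) * (π (p' : D) * π (b₁ : D) * (π (p' : D))⁻¹) = (π (p' : D) * π (b₁ : D) * (π (p' : D))⁻¹) * π (b₁ : D)
      have h1 : (b₁ : D) * q * (b₁ : D)⁻¹ * (q : D)⁻¹ = x ^ l := hl
      have h2 : π ((b₁ : D) * q * (b₁ : D)⁻¹ * (q : D)⁻¹) = 1 := by rw [h1, hπx]
      rw [map_mul, map_mul, map_mul, map_inv, map_inv, mul_inv_eq_one, mul_inv_eq_iff_eq_mul] at h2
      have h3 : π (q : D) = π (p' : D) * π (b₁ : D) * (π (p' : D))⁻¹ := by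
        rw [← map_inv, ← map_mul, ← map_mul]
        rfl
      rw [← h3]
      exact h2
  set t := p' * b₁⁻¹ with ht
  have ht27 : (t : D) ^ 3 ^ 3 = 1 := by
    have h1 : π ((t : D) ^ 9) = 1 := by
      rw [map_pow, ← h9, ← map_inv, ← map_mul]
      rfl
    obtain ⟨i, hi⟩ := mem_zpowers_iff.1 ((QuotientGroup.eq_one_iff _).1 h1)
    rw [show 3 ^ 3 = 9 * 3 by norm_num, pow_mul, ← hi, cube h]
  have hft : f t = f c := by
    rw [ht, map_mul, map_inv, hfp, hab]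
  -- `c = t x ^ i`
  have hct : ∃ i : ℤ, (c : D) = t * x ^ i := by
    have h1 : f (t⁻¹ * c) = 1 := by rw [map_mul, map_inv, hft, inv_mul_cancel]
    obtain ⟨i, hi | hi⟩ := h.ker _ h1
    · refine ⟨i, ?_⟩
      have hi' : (t : D)⁻¹ * c = x ^ i := hi
      rw [← hi']
      group
    · exfalso
      have hi' : (t : D)⁻¹ * c = x ^ i * z := hi
      have h2 : (c : D) = t * (x ^ i * z) := by rw [← hi']; group
      have hcx : Commute (t : D) (x ^ i * z) := by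
        show (t : D) * (x ^ i * z) = x ^ i * z * t
        rw [← mul_assoc, h.xzc, mul_assoc, hzc, mul_assoc]
      have h3 : (c : D) ^ 3 ^ (3 + k + 1) = 1 := by
        have : (c : D) ^ 3 ^ k = 1 := congrArg Subtype.val hk
        rw [show 3 ^ (3 + k + 1) = 3 ^ k * 3 ^ 4 by ring, pow_mul, this, one_pow]
      have h1' : Commute (x ^ i) z := (h.xzc i z).symm
      rw [h2, hcx.mul_pow, h1'.mul_pow, show 3 ^ (3 + k + 1) = 3 ^ 3 * 3 ^ (k + 1) by ring, pow_mul, ht27, one_pow,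
        one_mul, show 3 ^ 3 * 3 ^ (k + 1) = 3 * 3 ^ (k + 3) by ring, pow_mul (x ^ i), cube h, one_pow, one_mul] at h3
      obtain ⟨m, hm⟩ := (show Odd (3 * 3 ^ (k + 3)) from Odd.mul (by decide) (Odd.pow (by decide)))
      rw [hm, pow_succ, pow_mul, pow_two, h.zz, one_pow, one_mul] at h3
      exact h.z1 h3
  obtain ⟨i, hi⟩ := hct
  refine ⟨i, ?_⟩
  rw [hi]
  have h2 : (a₀ : D) * (b₁ * z) * (a₀ : D)⁻¹ * (b₁ * z)⁻¹ = t := by
    have h3 : (a₀ : D)⁻¹ * z = z * (a₀ : D)⁻¹ := ((show Commute (a₀ : D) z from hzc a₀).inv_left).eq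
    calc (a₀ : D) * (b₁ * z) * (a₀ : D)⁻¹ * (b₁ * z)⁻¹ = a₀ * b₁ * (z * (a₀ : D)⁻¹) * z⁻¹ * (b₁ : D)⁻¹ := by group
      _ = a₀ * b₁ * ((a₀ : D)⁻¹ * z) * z⁻¹ * (b₁ : D)⁻¹ := by rw [h3]
      _ = a₀ * b₁ * (a₀ : D)⁻¹ * (b₁ : D)⁻¹ := by group
      _ = t := rfl
  rw [h2]

/-- **commutators modulo `⟨x⟩`**, with a property of the second factor -/
theorem exists_comm (h : Rad 3 z x N f) (hgood : ∀ y : A, (∃ k, y ^ 3 ^ k = 1) → Good y) {P : D → Prop}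
    (hP : ∀ b : ↥(centralizer ({z} : Set D)), f b ^ 3 = 1 →
      ∃ b₁ : ↥(centralizer ({z} : Set D)), f b₁ = f b ∧ b₁ ^ 3 = 1 ∧ P ((b₁ : D) * z)) {g : D} {e : ℕ}
    (hg : g ^ 3 ^ e = 1) : ∃ a b : D, ∃ i : ℤ, P b ∧ g * x ^ i = a * b * a⁻¹ * b⁻¹ := by
  obtain ⟨n, hn, c, ⟨k, hk⟩, hgc⟩ := exists_three h hg
  obtain ⟨a, b, hab, hb3, hcm⟩ := hgood (f c) ⟨k, by rw [← map_pow, hk, map_one]⟩
  obtain ⟨a₀, rfl⟩ := h.surj a
  obtain ⟨b₀, rfl⟩ := h.surj b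
  obtain ⟨b₁, hfb, hb₁, hPb⟩ := hP b₀ hb3
  rw [← hfb] at hab hb3 hcm
  obtain ⟨i, hi⟩ := exists_lift_of h hk hb₁ hab hcm
  have hb9 : ((b₁ : D) * z) ^ 9 = z := by
    have h1 : Commute (b₁ : D) z := mem_centralizer_singleton_iff.1 b₁.2
    have h2 : (b₁ : D) ^ 3 = 1 := congrArg Subtype.val hb₁
    rw [h1.mul_pow, show (b₁ : D) ^ 9 = 1 by rw [show 9 = 3 * 3 by norm_num, pow_mul, h2, one_pow], one_mul,
      show 9 = 2 * 4 + 1 by norm_num, pow_succ, pow_mul, pow_two, h.zz, one_pow, one_mul]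
  obtain ⟨n₁, -, j, hj⟩ := exists_comm_of h (mem_centralizer_singleton_iff.1 a₀.2) hb9 hn
  refine ⟨n₁ * a₀, (b₁ : D) * z, -(j + i), hPb, ?_⟩
  rw [hgc, hi, ← mul_assoc, hj]
  calc n₁ * a₀ * (b₁ * z) * (n₁ * a₀)⁻¹ * (b₁ * z)⁻¹ * x ^ j * x ^ i * x ^ (-(j + i))
      = n₁ * a₀ * (b₁ * z) * (n₁ * a₀)⁻¹ * (b₁ * z)⁻¹ * (x ^ j * x ^ i * x ^ (-(j + i))) := by group
    _ = _ := by
      rw [← zpow_add, ← zpow_add, show j + i + -(j + i) = 0 by ring, zpow_zero, mul_one]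

/-- **`3`-elements of `D`** -/
theorem comm_or (h : Rad 3 z x N f) (hcen : Cen x N) (hgood : ∀ y : A, (∃ k, y ^ 3 ^ k = 1) → Good y) {P : D → Prop}
    (hP : ∀ b : ↥(centralizer ({z} : Set D)), f b ^ 3 = 1 →
      ∃ b₁ : ↥(centralizer ({z} : Set D)), f b₁ = f b ∧ b₁ ^ 3 = 1 ∧ P ((b₁ : D) * z)) {g : D} {e : ℕ}
    (hg : g ^ 3 ^ e = 1) :
    (∃ s a b : D, P b ∧ s * g * s⁻¹ = a * b * a⁻¹ * b⁻¹) ∨ ∃ m : D, g * (m * z * m⁻¹) = m * z * m⁻¹ * g := by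
  have hp : Fact (Nat.Prime 3) := ⟨Nat.prime_three⟩
  rcases dich h (by norm_num) hcen g with ⟨m, -, hm⟩ | hc
  · exact Or.inr ⟨m, hm⟩
  · left
    obtain ⟨a, b, i, hb, hi⟩ := exists_comm h hgood hP hg
    obtain ⟨s, -, hs⟩ := hc i
    exact ⟨s, a, b, hb, by rw [hs, hi]⟩

/-- a lift of order 3 -/
theorem exists_lift3 [IsSimpleGroup A] (h : Rad 3 z x N f) (hns : ¬ Group.IsSolvable A)
    (hreal : ∀ y : A, y ^ 3 = 1 → ∃ u, u * y * u⁻¹ = y⁻¹) {b : ↥(centralizer ({z} : Set D))} (hb : f b ^ 3 = 1) :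
    ∃ b₂ : ↥(centralizer ({z} : Set D)), f b₂ = f b ∧ b₂ ^ 3 = 1 := by
  have hp : Fact (Nat.Prime 3) := ⟨Nat.prime_three⟩
  have h18 : b ^ 18 = 1 := by
    have h1 : f (b ^ 3) = 1 := by rw [map_pow, hb]
    apply Subtype.ext
    show ((b : D)) ^ 18 = 1
    have h2 : ((b : D) ^ 3) ^ 6 = 1 := by
      obtain ⟨i, hi | hi⟩ := h.ker _ h1
      · have hi' : (b : D) ^ 3 = x ^ i := hi
        rw [hi', show 6 = 3 * 2 by norm_num, pow_mul, Lift.cube h, one_pow]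
      · have hi' : (b : D) ^ 3 = x ^ i * z := hi
        have h1 : Commute (x ^ i) z := (h.xzc i z).symm
        rw [hi', h1.mul_pow, show 6 = 3 * 2 by norm_num, pow_mul, Lift.cube h, one_pow, one_mul, mul_comm 3 2,
          pow_mul, pow_two, h.zz, one_pow]
    rw [← h2, ← pow_mul]
  have hb9 : (b ^ 10) ^ 9 = 1 := by
    rw [← pow_mul, show 10 * 9 = 18 * 5 by norm_num, pow_mul, h18, one_pow]
  have hfb : f (b ^ 10) = f b := by
    rw [map_pow, show 10 = 3 * 3 + 1 by norm_num, pow_succ, pow_mul, hb, one_pow, one_mul]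
  refine ⟨b ^ 10, hfb, ?_⟩
  generalize b ^ 10 = b₂ at hb9 hfb
  obtain ⟨j, hj⟩ : ∃ i : ℤ, ((b₂ ^ 3 : ↥(centralizer ({z} : Set D))) : D) = x ^ i := by
    refine ker_three h (by rw [map_pow, hfb, hb]) (k := 1) ?_
    have h1 : ((b₂ ^ 3) ^ 3 : ↥(centralizer ({z} : Set D))) = 1 := by rw [← pow_mul]; exact hb9
    rw [pow_one]
    exact congrArg Subtype.val h1
  have hj' : (b₂ : D) ^ 3 = x ^ j := hj
  apply Subtype.ext
  show (b₂ : D) ^ 3 = 1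
  rw [hj']
  exact Cases.no_root h hns hreal (mem_centralizer_singleton_iff.1 b₂.2) hj'

/-- another lift of order 3 -/
theorem mul_pow_x [IsSimpleGroup A] (h : Rad 3 z x N f) (hns : ¬ Group.IsSolvable A)
    {b : ↥(centralizer ({z} : Set D))} (hb : b ^ 3 = 1) (i : ℕ) :
    ∃ b₁ : ↥(centralizer ({z} : Set D)), (b₁ : D) = b * x ^ i ∧ f b₁ = f b ∧ b₁ ^ 3 = 1 := by
  have hp : Fact (Nat.Prime 3) := ⟨Nat.prime_three⟩
  have hxi : ∀ g : D, g * x ^ i = x ^ i * g := fun g => by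
    have := h.xzc (i : ℤ) g
    rwa [zpow_natCast] at this
  let c : ↥(centralizer ({z} : Set D)) := ⟨x ^ i, mem_centralizer_singleton_iff.2 (hxi z).symm⟩
  have hfc : f c = 1 := h.f_central hns fun d => Subtype.ext (hxi d)
  refine ⟨b * c, rfl, by rw [map_mul, hfc, mul_one], ?_⟩
  apply Subtype.ext
  show ((b : D) * x ^ i) ^ 3 = 1
  have h1 : Commute (b : D) (x ^ i) := hxi b
  rw [h1.mul_pow, show (b : D) ^ 3 = 1 from congrArg Subtype.val hb, one_mul]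
  have := Lift.cube h (i : ℤ)
  rwa [zpow_natCast] at this

end Cfsg.Agent.H740.OreM.InvB
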