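import Cfsg.Agent.H740.OreM.Threes
import Cfsg.Agent.H692.Mon.LEleven

/-!
# Row M of S2443, MP6: every 3-element of `M` is a commutator (helper740)
-/

namespace Cfsg.Agent.H740.OreM.ThreeAll

open Cfsg Cfsg.Agent.BpSpor.MBigModel Cfsg.Agent.H199.NSmMon
open Cfsg.Agent.H777.Ore

/-- In the centralizer of an element of order 11 of `MG` no subgroup of order 27 is abelian. -/
theorem l11 : Threes.L11 := by
  intro w hw hz B hB hc
  exact H692.Mon.l11 hw hz hB hc

/-- **Every 3-element of `MG` is a commutator.** -/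
theorem three_all {g : MG} (hg : ∃ k, g ^ 3 ^ k = 1) : IsC g := by
  obtain ⟨k, hk⟩ := hg
  exact Threes.three_all_of l11 hk

end Cfsg.Agent.H740.OreM.ThreeAll
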