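import Cfsg.Agent.H740.OreM.InvA
import Cfsg.Agent.H740.OreM.InvB
import Cfsg.Agent.H740.OreM.ThreeAll

/-!
# S4171, row M: the elements of 3-power order of the Monster are products of four involutions (helper740)

`three_i4` : if the elements of order 3 commuting with an involution are inverted by an involution, then every
element of 3-power order of `MG` is a product of four elements with square one.
-/

set_option autoImplicit false
set_option maxRecDepth 100000

namespace Cfsg.Agent.H740.OreM.ThreeFour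

open Cfsg Cfsg.Agent.MonsterX Cfsg.Agent.MonsterX.InstData Cfsg.Agent.MonsterX.MainPack Cfsg.Agent.MonsterU
open Cfsg.Agent.MonsterP Cfsg.Agent.MonsterN Cfsg.Agent.LThreeMB
open Cfsg.Agent.MonsterX.MainBasic Cfsg.Agent.MonsterX.MainSimple Cfsg.Agent.MonsterX.Model
open Cfsg.Agent.MonsterU.Lam2 Cfsg.Agent.MonsterU.TwoCls
open Cfsg.Agent.BpSpor.MBigModel Cfsg.Agent.H199.NSmMon Cfsg.Agent.H31.TwoCyc.MPart
open Cfsg.Agent.H777.Ore Cfsg.Agent.BpSpor.M5 Cfsg.Agent.H740.OreM.Dich Cfsg.Agent.H740.OreM.Threes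
open Cfsg.Spor (Co1)
open Subgroup (centralizer zpowers mem_centralizer_singleton_iff)

/-- `g` is inverted by an element with square one -/
def SR {G : Type*} [Group G] (g : G) : Prop := ∃ t : G, t * t = 1 ∧ t * g * t⁻¹ = g⁻¹

section gen

variable {G : Type*} [Group G]

theorem I4.conj {g : G} (h : I4 g) (x : G) : I4 (x * g * x⁻¹) := by
  obtain ⟨a, b, c, d, ha, hb, hc, hd, rfl⟩ := h
  have key : ∀ a : G, a * a = 1 → x * a * x⁻¹ * (x * a * x⁻¹) = 1 := by
    intro a ha
    calc x * a * x⁻¹ * (x * a * x⁻¹) = x * (a * a) * x⁻¹ := by group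
      _ = 1 := by rw [ha]; group
  exact ⟨x * a * x⁻¹, x * b * x⁻¹, x * c * x⁻¹, x * d * x⁻¹, key a ha, key b hb, key c hc, key d hd, by group⟩

theorem I4.of_conj {g : G} (x : G) (h : I4 (x * g * x⁻¹)) : I4 g := by
  have := I4.conj h x⁻¹
  rwa [show x⁻¹ * (x * g * x⁻¹) * x⁻¹⁻¹ = g by group] at this

theorem SR.sq {g t : G} (ht : t * t = 1) (h : t * g * t⁻¹ = g⁻¹) : t * g * (t * g) = 1 := by
  have hti : t⁻¹ = t := inv_eq_of_mul_eq_one_left ht
  rw [hti] at h
  calc t * g * (t * g) = (t * g * t) * g := by group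
    _ = 1 := by rw [h]; group

theorem SR.i4 {g : G} (h : SR g) : I4 g := by
  obtain ⟨t, ht, hg⟩ := h
  refine ⟨t, t * g, 1, 1, ht, SR.sq ht hg, one_mul 1, one_mul 1, ?_⟩
  rw [mul_one, mul_one, ← mul_assoc, ht, one_mul]

theorem SR.comm {b : G} (h : SR b) (a : G) : I4 (a * b * a⁻¹ * b⁻¹) := by
  obtain ⟨t, ht, hg⟩ := h
  have hti : t⁻¹ = t := inv_eq_of_mul_eq_one_left ht
  have hs := SR.sq ht hg
  have hsi : (t * b)⁻¹ = t * b := inv_eq_of_mul_eq_one_left hs
  refine ⟨a * t * a⁻¹, a * (t * b) * a⁻¹, t * b, t, ?_, ?_, hs, ht, ?_⟩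
  · calc a * t * a⁻¹ * (a * t * a⁻¹) = a * (t * t) * a⁻¹ := by group
      _ = 1 := by rw [ht]; group
  · calc a * (t * b) * a⁻¹ * (a * (t * b) * a⁻¹) = a * (t * b * (t * b)) * a⁻¹ := by group
      _ = 1 := by rw [hs]; group
  · have h1 : b⁻¹ = t * b * t := by
      calc b⁻¹ = (t * b)⁻¹ * t := by group
        _ = t * b * t := by rw [hsi]
    calc a * b * a⁻¹ * b⁻¹ = a * b * a⁻¹ * (t * b * t) := by rw [← h1]
      _ = a * ((t * t) * b) * a⁻¹ * (t * b) * t := by rw [ht, one_mul]; group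
      _ = _ := by group

end gen

/-- the hypothesis: elements of order 3 commuting with an involution -/
def H3 : Prop := ∀ U : MG, orderOf U = 3 → (∃ t : MG, orderOf t = 2 ∧ t * U = U * t) → SR U

theorem order_zz : orderOf (zz : MG) = 2 := by
  refine orderOf_eq_prime (by rw [pow_two]; exact chart.large.z_sq) chart.large.z_ne

/-- **the second factor** -/
theorem exists_P (h3 : H3) {x : centralizer ({zz} : Set MG)} (hx : orderOf x = 3) (hfr : fr (pi x) = 1)
    (b : ↥(centralizer ({zD x} : Set ↥(centralizer ({(x : MG)} : Set MG))))) (hb : toXX pi x b ^ 3 = 1) :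
    ∃ b₁ : ↥(centralizer ({zD x} : Set ↥(centralizer ({(x : MG)} : Set MG)))), toXX pi x b₁ = toXX pi x b ∧
      b₁ ^ 3 = 1 ∧ SR (((b₁ : ↥(centralizer ({(x : MG)} : Set MG))) * zD x : ↥(centralizer ({(x : MG)} : Set MG))) : MG) := by
  have := finite
  have hp : Fact (Nat.Prime 3) := ⟨Nat.prime_three⟩
  obtain ⟨N, hN, hcen, hs, hns⟩ := exists_D ThreeAll.l11 hx hfr
  have hsuz := CoOneFin.coOne.suz (pi x) (orderOf_pi chart hx) hfr
  by_cases h1 : toXX pi x b = 1
  · refine ⟨1, by rw [map_one, h1], one_pow 3, 1, one_mul 1, ?_⟩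
    show 1 * (1 * zz) * 1⁻¹ = (1 * zz : MG)⁻¹
    rw [one_mul, one_mul, inv_one, mul_one, inv_eq_of_mul_eq_one_left chart.large.z_sq]
  · obtain ⟨b₂, hfb, hb3⟩ := InvB.exists_lift3 hN hns (fun y hy => SuzThree.real_suz hsuz hy) hb
    -- in `C(z)`
    obtain ⟨β, hβ⟩ : ∃ β : centralizer ({zz} : Set MG), (β : MG) = ((b₂ : ↥(centralizer ({(x : MG)} : Set MG))) : MG) :=
      ⟨⟨_, mem_centralizer_singleton_iff.2
        (congrArg Subtype.val (mem_centralizer_singleton_iff.1 b₂.2))⟩, rfl⟩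
    have hβx : β * x = x * β := Subtype.ext (by
      show (β : MG) * x = x * β
      rw [hβ]
      exact mem_centralizer_singleton_iff.1 (b₂ : ↥(centralizer ({(x : MG)} : Set MG))).2)
    have hβ3 : β ^ 3 = 1 := by
      apply Subtype.ext
      rw [Subgroup.coe_pow, hβ, ← Subgroup.coe_pow, ← Subgroup.coe_pow, hb3]
      rfl
    have hx3 : x ^ 3 = 1 := by rw [← hx, pow_orderOf_eq_one]
    have hmk : toXX pi x b₂ = mk (pi x) (g := pi β) (by rw [← map_mul, ← map_mul, hβx]) := by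
      have h2 : β = ⟨((b₂ : ↥(centralizer ({(x : MG)} : Set MG))) : MG), mem_centralizer_singleton_iff.2
        (congrArg Subtype.val (mem_centralizer_singleton_iff.1 b₂.2))⟩ := Subtype.ext hβ
      subst h2
      rfl
    have hsp : pi β ∉ zpowers (pi x) := by
      intro hmem
      obtain ⟨i, hi⟩ := Subgroup.mem_zpowers_iff.1 hmem
      apply h1
      rw [← hfb, hmk, mk_eq_one]
      exact ⟨i, hi⟩
    obtain ⟨i, hi⟩ := InvA.exists_rank (s := pi β) (y := pi x) (by rw [← map_pow, hβ3, map_one])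
      (by rw [← map_pow, hx3, map_one]) (by rw [← map_mul, ← map_mul, hβx]) hfr hsp
    rw [← map_pow, ← map_mul] at hi
    have hord : orderOf (β * x ^ i) = 3 := by
      have hc : Commute β x := hβx
      refine orderOf_eq_prime ?_ ?_
      · rw [(hc.pow_right i).mul_pow, hβ3, ← pow_mul, mul_comm, pow_mul, hx3, one_pow, one_mul]
      · intro h2
        apply hsp
        rw [eq_inv_of_mul_eq_one_left h2, map_inv, map_pow]
        exact inv_mem (pow_mem (Subgroup.mem_zpowers _) i)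
    obtain ⟨b₁, hb₁, hfb₁, hb₁3⟩ := InvB.mul_pow_x hN hns hb3 i
    refine ⟨b₁, by rw [hfb₁, hfb], hb₁3, ?_⟩
    have h2 := InvA.sr_z hord hi (h3 _ (by rw [Subgroup.orderOf_coe, hord]) ⟨zz, order_zz,
        (mem_centralizer_singleton_iff.1 (β * x ^ i).2).symm⟩)
    have h4 : ((β * x ^ i : centralizer ({zz} : Set MG)) : MG) * zz =
        (((b₁ : ↥(centralizer ({(x : MG)} : Set MG))) * zD x : ↥(centralizer ({(x : MG)} : Set MG))) : MG) := by
      rw [hb₁, Subgroup.coe_mul, Subgroup.coe_mul, Subgroup.coe_mul, Subgroup.coe_pow, Subgroup.coe_pow, hβ]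
      rfl
    rw [h4] at h2
    exact h2

/-- a `3`-element of `C(x)` -/
theorem step (h3 : H3) {x : centralizer ({zz} : Set MG)} (hx : orderOf x = 3) (hfr : fr (pi x) = 1) {g : MG}
    (hgx : g * (x : MG) = x * g) {e : ℕ} (hg : g ^ 3 ^ e = 1) :
    I4 g ∨ ∃ m : MG, m * (x : MG) = x * m ∧ g * (m * zz * m⁻¹) = m * zz * m⁻¹ * g := by
  have := finite
  obtain ⟨N, hN, hcen, hs, hns⟩ := exists_D ThreeAll.l11 hx hfr
  have hsuz := CoOneFin.coOne.suz (pi x) (orderOf_pi chart hx) hfr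
  rcases InvB.comm_or hN hcen (SuzThree.good_suz hsuz)
    (P := fun b => SR (b : MG)) (fun b hb => exists_P h3 hx hfr b hb)
    (g := ⟨g, mem_centralizer_singleton_iff.2 hgx⟩) (e := e) (Subtype.ext hg) with ⟨s, a, b, hb, h⟩ | ⟨m, hm⟩
  · left
    have h1 : (s : MG) * g * (s : MG)⁻¹ = a * b * (a : MG)⁻¹ * (b : MG)⁻¹ := congrArg Subtype.val h
    refine I4.of_conj (s : MG) ?_
    rw [h1]
    exact SR.comm hb _
  · exact Or.inr ⟨m, mem_centralizer_singleton_iff.1 m.2, congrArg Subtype.val hm⟩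

/-- a root of `x` -/
theorem case_one (h3 : H3) {x : centralizer ({zz} : Set MG)} (hx : orderOf x = 3) (hfr : fr (pi x) = 1) {g : MG}
    {k : ℕ} (hgk : g ^ 3 ^ (k + 1) = x) : I4 g := by
  have := finite
  have hxo : orderOf (x : MG) = 3 := by rw [Subgroup.orderOf_coe, hx]
  have hgx : g * (x : MG) = x * g := by
    rw [← hgk]
    exact ((Commute.refl g).pow_right _).eq
  have hg : g ^ 3 ^ (k + 2) = 1 := by
    rw [pow_succ 3 (k + 1), pow_mul, hgk, cube_eq hxo]
  rcases step h3 hx hfr hgx hg with h | ⟨m, hmx, hm⟩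
  · exact h
  · exfalso
    obtain ⟨N, hN, hcen, hs, hns⟩ := exists_D ThreeAll.l11 hx hfr
    have hsuz := CoOneFin.coOne.suz (pi x) (orderOf_pi chart hx) hfr
    set g' := m⁻¹ * g * m with hg'
    have hz : g' * zz = zz * g' := by
      calc g' * zz = m⁻¹ * (g * (m * zz * m⁻¹)) * m := by rw [hg']; group
        _ = m⁻¹ * (m * zz * m⁻¹ * g) * m := by rw [hm]
        _ = _ := by rw [hg']; group
    have hgk' : g' ^ 3 ^ (k + 1) = x := by
      have h1 : g' ^ 3 ^ (k + 1) = m⁻¹ * g ^ 3 ^ (k + 1) * m := by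
        rw [hg']
        have := conj_pow (i := 3 ^ (k + 1)) (a := m⁻¹) (b := g)
        rwa [inv_inv] at this
      rw [h1, hgk, mul_assoc, ← hmx]
      group
    set h := g' ^ 3 ^ k with hh
    have hh3 : h ^ 3 = x := by rw [hh, ← pow_mul, ← pow_succ, hgk']
    have hhz : h * zz = zz * h := ((show Commute g' zz from hz).pow_left _).eq
    have hhx : h * (x : MG) = x * h := by
      rw [← hh3]
      exact ((Commute.refl h).pow_right _).eq
    have h1 := Cases.no_root hN hns (fun y hy => SuzThree.real_suz hsuz hy)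
      (g := ⟨h, mem_centralizer_singleton_iff.2 hhx⟩) (Subtype.ext hhz) (j := 1) (by
        rw [zpow_one]
        exact Subtype.ext hh3)
    rw [zpow_one] at h1
    have h2 : (x : MG) = 1 := congrArg Subtype.val h1
    rw [h2, orderOf_one] at hxo
    norm_num at hxo

/-- **`3`-elements commuting with `z`** -/
theorem i4_in (h3 : H3) {g : MG} (hgz : g * zz = zz * g) {e : ℕ} (hg : g ^ 3 ^ e = 1) : I4 g := by
  have := finite
  have := simple
  have I := CoOneFin.coOne
  have htr := KPair.trNe KDone.lft LThreeB.Row.cent (LThreeMBTr.traceNe KDone.lft LThreeMBTr.TensK.tens)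
  obtain ⟨n, -, hn⟩ := (Nat.dvd_prime_pow Nat.prime_three).1 (orderOf_dvd_of_pow_eq_one hg)
  rcases n with _ | _ | k
  · rw [pow_zero, orderOf_eq_one_iff] at hn
    rw [hn]
    exact ⟨1, 1, 1, 1, one_mul 1, one_mul 1, one_mul 1, one_mul 1, by rw [one_mul, one_mul, one_mul]⟩
  · -- order 3
    have hn3 : orderOf g = 3 := by rw [hn]; norm_num
    exact SR.i4 (h3 g hn3 ⟨zz, order_zz, hgz.symm⟩)
  · -- order at least 9
    set s := g ^ 3 ^ (k + 1) with hs
    have hso : orderOf s = 3 := by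
      rw [hs, orderOf_pow_of_dvd (by positivity) (by rw [hn]; exact pow_dvd_pow 3 (by omega)), hn,
        show k + 1 + 1 = (k + 1) + 1 from rfl, pow_succ, Nat.mul_div_cancel_left _ (by positivity)]
    have hsz : s * zz = zz * s := ((show Commute g zz from hgz).pow_left _).eq
    set h := g ^ 3 ^ k with hh
    have hh3 : h ^ 3 = s := by rw [hh, hs, ← pow_mul, ← pow_succ]
    let x : centralizer ({zz} : Set MG) := ⟨s, mem_centralizer_singleton_iff.2 hsz⟩
    have hx : orderOf x = 3 := by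
      show orderOf (⟨s, _⟩ : centralizer ({zz} : Set MG)) = 3
      rw [Subgroup.orderOf_mk, hso]
    rcases I.ranks (pi x) (orderOf_pi chart hx) with h1 | h1 | h1 | h1
    · exact case_one h3 hx h1 (k := k) rfl
    · obtain ⟨x₀, u, g₁, hx₀, hfr₀, huz, hux, hne, hg₁⟩ :=
        KPair.hasPair KDone.lft LThreeB.Row.cent PreUniq.MonRow.second COct.octPair
      obtain ⟨c, hc⟩ := conj_six chart htr I.ranks I.six
        (fun x hx h2 => ⟨(good_of_inputs chart I hx h2 : Good.{0} _).simple, (good_of_inputs chart I hx h2 : Good.{0} _).nc⟩)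
        hx₀ hfr₀ huz hux hne hg₁ hx h1
      refine I4.of_conj c (case_one h3 hx₀ hfr₀ (k := k) ?_)
      rw [conj_pow, ← hc]
    · exfalso
      exact no_root_XX hso hh3 (fun y hy => ThReal.real_iso (LThreeB.isoTh_of_inputs chart I hx h1) hy)
    · exfalso
      exact no_root_XX hso hh3 (fun y hy => real_fi (LThreeB.isoFi_of_inputs chart I hx h1) hy)

/-- **The elements of `3`-power order of the Monster are products of four involutions.** -/
theorem three_i4 (h3 : ∀ U : MG, orderOf U = 3 → (∃ t : MG, orderOf t = 2 ∧ t * U = U * t) →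
    ∃ t : MG, t * t = 1 ∧ t * U * t⁻¹ = U⁻¹) {g : MG} (hg : ∃ k, g ^ 3 ^ k = 1) : I4 g := by
  have := finite
  have hp : Fact (Nat.Prime 3) := ⟨Nat.prime_three⟩
  obtain ⟨e, hg⟩ := hg
  obtain ⟨x, hx, hfr, hf⟩ := exists_full3
  obtain ⟨c, hc⟩ := exists_conj_in_cent hf hg
  refine I4.of_conj c ?_
  have hg' : (c * g * c⁻¹) ^ 3 ^ e = 1 := by rw [conj_pow, hg, mul_one, mul_inv_cancel]
  generalize c * g * c⁻¹ = g₁ at hc hg'
  rcases step h3 hx hfr (mem_centralizer_singleton_iff.1 hc) hg' with h | ⟨m, -, hm⟩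
  · exact h
  · refine I4.of_conj m⁻¹ (i4_in h3 (e := e) ?_ ?_)
    · rw [inv_inv]
      calc m⁻¹ * g₁ * m * zz = m⁻¹ * (g₁ * (m * zz * m⁻¹)) * m := by group
        _ = m⁻¹ * (m * zz * m⁻¹ * g₁) * m := by rw [hm]
        _ = _ := by group
    · rw [conj_pow, hg', mul_one, mul_inv_cancel]

end Cfsg.Agent.H740.OreM.ThreeFour
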