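import Cfsg.Agent.H740.OreM.Three
import Cfsg.Agent.H777.Ore.Base

/-!
# S2443, row M, piece MP3 (helper740)

`card_cent_le` : `|C(g)| ≤ K` for `g` not a 2-element with a `2A`-involution among its powers, `K ≥ 774741019852800` a bound for
the orders of the centralizers of the elements of prime order `≥ 5`; `case_t` : these elements are commutators.
-/

set_option autoImplicit false

namespace Cfsg.Agent.H740.OreM

open Subgroup Cfsg
open Cfsg.Agent.BpSpor.MBigModel (MG)
open Cfsg.Agent.H777.Ore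

/-- an odd prime divisor -/
theorem exists_odd_prime {n : ℕ} (h0 : n ≠ 0) (h : ∀ k, n ≠ 2 ^ k) : ∃ p : ℕ, p.Prime ∧ p ≠ 2 ∧ p ∣ n := by
  by_contra hcon
  push Not at hcon
  apply h n.primeFactorsList.length
  exact Nat.eq_prime_pow_of_unique_prime_dvd h0 fun {d} hd hdn => by
    by_contra hne
    exact hcon d hd hne hdn

theorem card_cent_le {K : ℕ} (hK : 774741019852800 ≤ K)
    (hB : ∀ {x : MG} {q : ℕ}, q.Prime → 5 ≤ q → orderOf x = q → Nat.card ↥(centralizer ({x} : Set MG)) ≤ K)
    {v g : MG} (hv : LThreeB.Row.TA v) (hvg : v ∈ zpowers g) (h2 : ∀ k, orderOf g ≠ 2 ^ k) :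
    Nat.card ↥(centralizer ({g} : Set MG)) ≤ K := by
  have hfin : Finite MG := BpSpor.MBigModel.finite
  obtain ⟨p, hp, hp2, hpg⟩ := exists_odd_prime (orderOf_pos g).ne' h2
  obtain ⟨m, hm⟩ := hpg
  have hm0 : m ≠ 0 := by
    rintro rfl
    exact (orderOf_pos g).ne' (by rw [hm, mul_zero])
  have ho : orderOf (g ^ m) = p := by
    rw [orderOf_pow_of_dvd hm0 ⟨p, by rw [hm, mul_comm]⟩, hm]
    exact Nat.mul_div_cancel p (Nat.pos_of_ne_zero hm0)
  have hle1 : centralizer ({g} : Set MG) ≤ centralizer ({g ^ m} : Set MG) := by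
    intro c hc
    have hc' : Commute c g := mem_centralizer_singleton_iff.1 hc
    exact mem_centralizer_singleton_iff.2 (hc'.pow_right m).eq
  have hle2 : centralizer ({g} : Set MG) ≤ centralizer ({v} : Set MG) := by
    intro c hc
    have hc' : Commute c g := mem_centralizer_singleton_iff.1 hc
    obtain ⟨k, hk⟩ := hvg
    have hk' : g ^ k = v := hk
    rw [← hk']
    exact mem_centralizer_singleton_iff.2 (hc'.zpow_right k).eq
  by_cases h3 : p = 3
  · subst h3
    have hcomm : g ^ m * v = v * g ^ m := by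
      obtain ⟨k, hk⟩ := hvg
      have hk' : g ^ k = v := hk
      rw [← hk']
      exact (((Commute.refl g).pow_left m).zpow_right k).eq
    exact (Subgroup.card_le_of_le (le_inf hle1 hle2)).trans ((card_three ho hv hcomm).trans hK)
  · have h5 : 5 ≤ p := by
      have h2' := hp.two_le
      by_contra hcon
      interval_cases p
      · exact hp2 rfl
      · exact h3 rfl
      · norm_num at hp
    exact (Subgroup.card_le_of_le hle1).trans (hB hp h5 ho)

/-- **MP3**, for an arbitrary bound `K`. -/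
theorem case_t {K : ℕ} (hK : 774741019852800 ≤ K)
    (hB : ∀ {x : MG} {q : ℕ}, q.Prime → 5 ≤ q → orderOf x = q → Nat.card ↥(centralizer ({x} : Set MG)) ≤ K)
    (hS : ∀ g : MG, Nat.card ↥(centralizer ({g} : Set MG)) ≤ K → IsC g) (v g : MG) (hv : LThreeB.Row.TA v)
    (hvg : v ∈ zpowers g) (h2 : ∀ k, orderOf g ≠ 2 ^ k) : IsC g :=
  hS g (card_cent_le hK hB hv hvg h2)

end Cfsg.Agent.H740.OreM
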