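import Cfsg.Agent.H740.OreM.Bd
import Cfsg.Agent.H740.OreM.ThreeAll

/-!
# The Monster: centralizers of 3-elements (helper740, for row M of S2453 / S2465)

* `nine` : a 3-element of order at least 9 has `|C(g)| ≤ |C(x)| / 54`, or a power of order 3 commuting with no involution;
* `three_part` : for `g` of order 3 commuting with no involution, `3 ^ 19 ∤ |C(g)|` or a conjugate of `g` lies in
  `O_3(C(x))`, `x` 3-central.
-/

set_option autoImplicit false
set_option maxRecDepth 100000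

namespace Cfsg.Agent.H740.OreM.ThreeBd

open Cfsg Cfsg.Agent.MonsterX Cfsg.Agent.MonsterX.InstData Cfsg.Agent.MonsterX.MainPack Cfsg.Agent.MonsterU
open Cfsg.Agent.MonsterP Cfsg.Agent.MonsterN Cfsg.Agent.LThreeMB
open Cfsg.Agent.MonsterX.MainBasic Cfsg.Agent.MonsterX.MainSimple Cfsg.Agent.MonsterX.Model
open Cfsg.Agent.MonsterU.Lam2 Cfsg.Agent.MonsterU.TwoCls
open Cfsg.Agent.BpSpor.MBigModel Cfsg.Agent.H199.NSmMon Cfsg.Agent.H31.TwoCyc.MPart
open Cfsg.Agent.H777.Ore Cfsg.Agent.BpSpor.M5 Cfsg.Agent.H740.OreM.Dich Cfsg.Agent.H740.OreM.Threes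
open Cfsg.Spor (Co1)
open Subgroup (centralizer zpowers mem_centralizer_singleton_iff)

/-- the structure of `C(x)`, `x` of order 3 and fixed rank 0 -/
structure SD (x : centralizer ({zz} : Set MG)) (N : Subgroup ↥(centralizer ({(x : MG)} : Set MG))) : Prop where
  rad : Rad 3 (zD x) (self (x : MG)) N (toXX pi x)
  cen : Cen (self (x : MG)) N
  simple : IsSimpleGroup (XX (pi x))
  ns : ¬ Group.IsSolvable (XX (pi x))
  cardA : Nat.card (XX (pi x)) = 448345497600
  cardN : Nat.card ↥N = 3 ^ 13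
  sq : ∃ k : ↥(centralizer ({zD x} : Set ↥(centralizer ({(x : MG)} : Set MG)))),
    (k : ↥(centralizer ({(x : MG)} : Set MG))) * k = zD x

theorem exists_SD {x : centralizer ({zz} : Set MG)} (hx : orderOf x = 3) (hfr : fr (pi x) = 1) :
    ∃ N : Subgroup ↥(centralizer ({(x : MG)} : Set MG)), SD x N := by
  have := finite
  have hp : Fact (Nat.Prime 3) := ⟨Nat.prime_three⟩
  obtain ⟨⟨N, hN⟩, hc⟩ := rd3 hx hfr
  have hs := hN.simple
  refine ⟨N, ?_⟩
  obtain ⟨k, hk⟩ := hN.sq
  -- `|N| = 3 ^ 13`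
  have hcard : Nat.card ↥N = 3 ^ 13 := by
    obtain ⟨m, hm, hcm⟩ := hN.rad.card_N_mul hN.ns
    rw [hc] at hcm
    have h1 := Cfsg.Agent.H199.AbMon.three_zero' hx hfr
    have h2 : Nat.card ↥N ∣ 3 ^ 13 * 2 := by
      have h3 : Nat.card ↥N * m * 448345497600 ∣ 3 ^ 13 * 2 * 448345497600 := by
        rw [show Nat.card ↥N * m * 448345497600 = Nat.card ↥N * (448345497600 * m) by ring, ← hcm]
        exact h1.trans (by norm_num)
      exact (dvd_mul_right _ m).trans (Nat.dvd_of_mul_dvd_mul_right (by norm_num) h3)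
    have h3 : Nat.card ↥N ∣ 3 ^ 13 := by
      refine Nat.Coprime.dvd_of_dvd_mul_right ?_ h2
      rw [Nat.coprime_two_right]
      exact hN.rad.oN
    obtain ⟨j, hj, hjc⟩ := (Nat.dvd_prime_pow Nat.prime_three).1 h3
    have hj13 : j = 13 := by
      by_contra hcon
      have hj12 : j ≤ 12 := by omega
      have h4 := full_of hx hfr 20 (by rw [card_M]; norm_num)
      rw [hcm, hjc] at h4
      have h5 : 3 ^ 20 ∣ 3 ^ 12 * (448345497600 * 2) :=
        h4.trans (mul_dvd_mul (pow_dvd_pow 3 hj12) (mul_dvd_mul_left _ hm))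
      norm_num at h5
    rw [hjc, hj13]
  -- an element of order 11
  have h11 : 11 ∣ Nat.card ↥(centralizer ({zD x} : Set ↥(centralizer ({(x : MG)} : Set MG)))) := by
    have h1 := Subgroup.card_dvd_of_surjective (toXX pi x) hN.rad.surj
    rw [hc] at h1
    exact Dvd.dvd.trans (by norm_num) h1
  have hp11 : Fact (Nat.Prime 11) := ⟨by norm_num⟩
  obtain ⟨w, hw⟩ := exists_prime_orderOf_dvd_card' 11 h11
  have hwo : orderOf ((w : ↥(centralizer ({(x : MG)} : Set MG))) : MG) = 11 := by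
    rw [Subgroup.orderOf_coe, Subgroup.orderOf_coe, hw]
  have hwz : ((w : ↥(centralizer ({(x : MG)} : Set MG))) : MG) * zz = zz * (w : ↥(centralizer ({(x : MG)} : Set MG))) :=
    congrArg Subtype.val (mem_centralizer_singleton_iff.1 w.2)
  have hle : (centralizer ({(w : ↥(centralizer ({(x : MG)} : Set MG)))} : Set ↥(centralizer ({(x : MG)} : Set MG)))).map
      (centralizer ({(x : MG)} : Set MG)).subtype ≤
      centralizer ({((w : ↥(centralizer ({(x : MG)} : Set MG))) : MG)} : Set MG) := by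
    rintro _ ⟨g, hg, rfl⟩
    exact mem_centralizer_singleton_iff.2 (congrArg Subtype.val (mem_centralizer_singleton_iff.1 hg))
  refine ⟨hN.rad, ?_, hs, hN.ns, hc, hcard, ⟨k, hk⟩⟩
  refine Nondeg.cen_of hN.rad hN.ns hk hcard (by rw [hc]; norm_num) hw ?_ ?_
  · intro h81
    have h1 := Subgroup.card_dvd_of_le hle
    rw [Subgroup.card_map_of_injective (Subgroup.subtype_injective _)] at h1
    have h2 := Cfsg.Agent.H199.AbMon.eleven hwo ⟨1, by rw [one_mul, inv_one, mul_one]; exact hwz.symm⟩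
    rw [h2] at h1
    have h3 := h81.trans h1
    norm_num at h3
  · intro B hB h27
    obtain ⟨a, ⟨a', ha', haa⟩, b, ⟨b', hb', hbb⟩, hab⟩ := ThreeAll.l11 _ hwo hwz
      (B.map (centralizer ({(x : MG)} : Set MG)).subtype) ((Subgroup.map_mono hB).trans hle) (by
        rw [Subgroup.card_map_of_injective (Subgroup.subtype_injective _), h27])
    refine ⟨a', ha', b', hb', fun h1 => hab ?_⟩
    rw [← haa, ← hbb]
    exact congrArg Subtype.val h1

/-- a cube root of `x` does not lie in `N` and commutes with no conjugate of `z` under `C(x)` -/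
theorem root_ne {x : centralizer ({zz} : Set MG)} (hx : orderOf x = 3) (hfr : fr (pi x) = 1)
    {N : Subgroup ↥(centralizer ({(x : MG)} : Set MG))} (hD : SD x N) {h : ↥(centralizer ({(x : MG)} : Set MG))}
    (hh : h ^ 3 = self (x : MG)) : h ∉ N ∧ ¬ h * zD x = zD x * h := by
  have := finite
  have := hD.simple
  have hp : Fact (Nat.Prime 3) := ⟨Nat.prime_three⟩
  have hsuz := CoOneFin.coOne.suz (pi x) (orderOf_pi chart hx) hfr
  have hx1 : self (x : MG) ≠ 1 := by
    intro h1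
    have h2 := hD.rad.ox
    rw [h1, orderOf_one] at h2
    norm_num at h2
  constructor
  · intro hN
    obtain ⟨i, hi⟩ := hD.rad.inv (by norm_num) hN
    have h1 : (zD x * h * (zD x)⁻¹) ^ 3 = (h⁻¹ * self (x : MG) ^ i) ^ 3 := by rw [hi]
    have hc : Commute h⁻¹ (self (x : MG) ^ i) := hD.rad.xzc i h⁻¹
    rw [conj_pow, hc.mul_pow, Lift.cube hD.rad, mul_one, inv_pow, hh] at h1
    have h2 := hD.rad.xzc 1 (zD x)
    rw [zpow_one] at h2
    rw [h2, mul_inv_cancel_right] at h1
    apply hx1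
    have h3 : self (x : MG) * self (x : MG) = 1 := by
      nth_rewrite 1 [h1]
      exact inv_mul_cancel _
    have := hD.rad.sq_one (i := 1) (by norm_num) (by rw [zpow_one]; exact h3)
    rwa [zpow_one] at this
  · intro hz
    apply hx1
    have h1 := Cases.no_root hD.rad hD.ns (fun y hy => SuzThree.real_suz hsuz hy) (g := h) hz (j := 1)
      (by rw [zpow_one]; exact hh)
    rwa [zpow_one] at h1

/-- **a root of `x`** -/
theorem root_bound {x : centralizer ({zz} : Set MG)} (hx : orderOf x = 3) (hfr : fr (pi x) = 1) {g : MG}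
    {k : ℕ} (hgk : g ^ 3 ^ (k + 1) = x) : Nat.card ↥(centralizer ({g} : Set MG)) ≤ 26489012826931200 := by
  have := finite
  have hp : Fact (Nat.Prime 3) := ⟨Nat.prime_three⟩
  obtain ⟨N, hD⟩ := exists_SD hx hfr
  have := hD.simple
  obtain ⟨q, hq⟩ := hD.sq
  have hxo : orderOf (x : MG) = 3 := by rw [Subgroup.orderOf_coe, hx]
  have hgx : g * (x : MG) = x * g := by
    rw [← hgk]
    exact ((Commute.refl g).pow_right _).eq
  set gD : ↥(centralizer ({(x : MG)} : Set MG)) := ⟨g, mem_centralizer_singleton_iff.2 hgx⟩ with hgD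
  have hgk' : gD ^ 3 ^ (k + 1) = self (x : MG) := Subtype.ext hgk
  have hg : gD ^ 3 ^ (k + 2) = 1 := by
    rw [pow_succ 3 (k + 1), pow_mul, hgk', ← hD.rad.ox, pow_orderOf_eq_one]
  have hh : (gD ^ 3 ^ k) ^ 3 = self (x : MG) := by rw [← pow_mul, ← pow_succ, hgk']
  have hgN : gD ∉ N := fun h => (root_ne hx hfr hD hh).1 (N.pow_mem h _)
  have hsec : ∀ j : ℤ, ∃ s ∈ N, s * gD * s⁻¹ = gD * self (x : MG) ^ j := by
    rcases dich hD.rad (by norm_num) hD.cen gD with ⟨m, -, hm⟩ | hc
    · exfalso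
      have h1 : m⁻¹ * gD * m * zD x = zD x * (m⁻¹ * gD * m) := by
        calc m⁻¹ * gD * m * zD x = m⁻¹ * (gD * (m * zD x * m⁻¹)) * m := by group
          _ = m⁻¹ * (m * zD x * m⁻¹ * gD) * m := by rw [hm]
          _ = _ := by group
      have h2 : ((m⁻¹ * gD * m) ^ 3 ^ k) ^ 3 = self (x : MG) := by
        have h3 : (m⁻¹ * gD * m) ^ 3 ^ (k + 1) = m⁻¹ * gD ^ 3 ^ (k + 1) * m := by
          have := conj_pow (i := 3 ^ (k + 1)) (a := m⁻¹) (b := gD)
          rwa [inv_inv] at this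
        have h4 := hD.rad.xzc 1 m⁻¹
        rw [zpow_one] at h4
        rw [← pow_mul, ← pow_succ, h3, hgk', h4, inv_mul_cancel_right]
      exact (root_ne hx hfr hD h2).2 (((show Commute (m⁻¹ * gD * m) (zD x) from h1).pow_left _).eq)
    · exact hc
  have h1 := Bd.card_cent hD.rad hD.ns (by rw [hD.cardA]; norm_num) hq hD.cardN hg hgN hsec
  rw [hD.cardA] at h1
  have h2 : Nat.card ↥(centralizer ({g} : Set MG)) ≤ Nat.card ↥(centralizer ({gD} : Set ↥(centralizer ({(x : MG)} : Set MG)))) := by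
    have hle : ∀ c : ↥(centralizer ({g} : Set MG)), (c : MG) ∈ centralizer ({(x : MG)} : Set MG) := by
      intro c
      rw [mem_centralizer_singleton_iff, ← hgk]
      exact ((show Commute (c : MG) g from mem_centralizer_singleton_iff.1 c.2).pow_right _).eq
    refine Nat.card_le_card_of_injective (fun c => ⟨⟨c, hle c⟩, mem_centralizer_singleton_iff.2
      (Subtype.ext (mem_centralizer_singleton_iff.1 c.2))⟩) fun a b hab => ?_
    exact Subtype.ext (congrArg (fun t : ↥(centralizer ({gD} : Set ↥(centralizer ({(x : MG)} : Set MG)))) =>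
      ((t : ↥(centralizer ({(x : MG)} : Set MG))) : MG)) hab)
  norm_num at h1
  omega

/-- **The elements of order at least 9.** -/
theorem nine {g : MG} (hg : ∃ k, g ^ 3 ^ k = 1) (h3 : g ^ 3 ≠ 1) :
    Nat.card ↥(centralizer ({g} : Set MG)) ≤ 26489012826931200 ∨
      ∃ y ∈ zpowers g, orderOf y = 3 ∧ ∀ t : MG, orderOf t = 2 → t * y ≠ y * t := by
  have := finite
  have := simple
  have I := CoOneFin.coOne
  have htr := KPair.trNe KDone.lft LThreeB.Row.cent (LThreeMBTr.traceNe KDone.lft LThreeMBTr.TensK.tens)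
  obtain ⟨e, hg⟩ := hg
  obtain ⟨n, -, hn⟩ := (Nat.dvd_prime_pow Nat.prime_three).1 (orderOf_dvd_of_pow_eq_one hg)
  rcases n with _ | _ | k
  · rw [pow_zero, orderOf_eq_one_iff] at hn
    exact absurd (by rw [hn, one_pow]) h3
  · exact absurd (by rw [← pow_one 3, show (3 : ℕ) ^ 1 = 3 ^ (0 + 1) by norm_num, ← hn, pow_orderOf_eq_one]) h3
  set y := g ^ 3 ^ (k + 1) with hy
  have hyo : orderOf y = 3 := by
    rw [hy, orderOf_pow_of_dvd (by positivity) (by rw [hn]; exact pow_dvd_pow 3 (by omega)), hn,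
      show k + 1 + 1 = (k + 1) + 1 from rfl, pow_succ, Nat.mul_div_cancel_left _ (by positivity)]
  by_cases hev : ∃ t : MG, orderOf t = 2 ∧ t * y = y * t
  · left
    obtain ⟨t, ht, hty⟩ := hev
    have ht2 : t * t = 1 := by rw [← pow_two, ← ht, pow_orderOf_eq_one]
    have ht1 : t ≠ 1 := by
      intro h1
      rw [h1, orderOf_one] at ht
      norm_num at ht
    obtain ⟨m, hm⟩ := Cfsg.Agent.LThreeM.FiRow.exists_z_of_comm (x := y) (v := t) (by rw [← hyo, pow_orderOf_eq_one])
      ht2 ht1 hty.symm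
    have hm' : (m * zz * m⁻¹) * y = y * (m * zz * m⁻¹) := hm
    -- conjugate
    set g' := m⁻¹ * g * m with hg'
    have hcard : Nat.card ↥(centralizer ({g} : Set MG)) = Nat.card ↥(centralizer ({g'} : Set MG)) :=
      (BpSpor.card_cent_of_conj (u := g) (v := g') (c := m⁻¹) (by rw [hg', inv_inv])).symm
    rw [hcard]
    have hyk : g' ^ 3 ^ (k + 1) = m⁻¹ * y * m := by
      have := conj_pow (i := 3 ^ (k + 1)) (a := m⁻¹) (b := g)
      rw [inv_inv] at this
      rw [hg', this]
    have hyz : (m⁻¹ * y * m) * zz = zz * (m⁻¹ * y * m) := by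
      calc (m⁻¹ * y * m) * zz = m⁻¹ * (y * (m * zz * m⁻¹)) * m := by group
        _ = m⁻¹ * ((m * zz * m⁻¹) * y) * m := by rw [hm']
        _ = _ := by group
    have hyo' : orderOf (m⁻¹ * y * m) = 3 := by
      rw [← hyo]
      have := MulEquiv.orderOf_eq (MulAut.conj m⁻¹) y
      rw [MulAut.conj_apply, inv_inv] at this
      exact this
    generalize m⁻¹ * y * m = s at hyk hyz hyo'
    generalize g' = g₀ at hyk hcard
    have hh3 : (g₀ ^ 3 ^ k) ^ 3 = s := by rw [← hyk, ← pow_mul, ← pow_succ]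
    let x : centralizer ({zz} : Set MG) := ⟨s, mem_centralizer_singleton_iff.2 hyz⟩
    have hx : orderOf x = 3 := by
      show orderOf (⟨s, _⟩ : centralizer ({zz} : Set MG)) = 3
      rw [Subgroup.orderOf_mk, hyo']
    rcases I.ranks (pi x) (orderOf_pi chart hx) with h1 | h1 | h1 | h1
    · exact root_bound hx h1 (k := k) hyk
    · obtain ⟨x₀, u, g₁, hx₀, hfr₀, huz, hux, hne, hg₁⟩ :=
        KPair.hasPair KDone.lft LThreeB.Row.cent PreUniq.MonRow.second COct.octPair
      obtain ⟨c, hc⟩ := conj_six chart htr I.ranks I.six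
        (fun x hx h2 => ⟨(good_of_inputs chart I hx h2 : Good.{0} _).simple, (good_of_inputs chart I hx h2 : Good.{0} _).nc⟩)
        hx₀ hfr₀ huz hux hne hg₁ hx h1
      rw [← BpSpor.card_cent_of_conj (c := c) (rfl : c * g₀ * c⁻¹ = c * g₀ * c⁻¹)]
      refine root_bound hx₀ hfr₀ (k := k) ?_
      rw [conj_pow, ← hc, hyk]
    · exfalso
      exact no_root_XX hyo' hh3 (fun y hy => ThReal.real_iso (LThreeB.isoTh_of_inputs chart I hx h1) hy)
    · exfalso
      exact no_root_XX hyo' hh3 (fun y hy => real_fi (LThreeB.isoFi_of_inputs chart I hx h1) hy)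
  · right
    push Not at hev
    exact ⟨y, Subgroup.pow_mem _ (Subgroup.mem_zpowers g) _, hyo, hev⟩

/-- conjugating a `p`-subgroup into the centralizer of a `p`-central element -/
theorem exists_conj_le {G : Type*} [Group G] [Finite G] {p : ℕ} [hp : Fact p.Prime] {x : G}
    (hfull : ∀ k, p ^ k ∣ Nat.card G → p ^ k ∣ Nat.card ↥(centralizer ({x} : Set G))) {T : Subgroup G}
    (hTp : IsPGroup p ↥T) : ∃ c : G, ∀ t ∈ T, c * t * c⁻¹ ∈ centralizer ({x} : Set G) := by
  obtain ⟨S⟩ : Nonempty (Sylow p ↥(centralizer ({x} : Set G))) := inferInstance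
  set U : Subgroup G := (S : Subgroup ↥(centralizer ({x} : Set G))).map (centralizer ({x} : Set G)).subtype with hU
  have hUp : IsPGroup p ↥U := S.isPGroup'.map _
  obtain ⟨P, hP⟩ := hUp.exists_le_sylow
  have hUP : U = P := by
    refine Subgroup.eq_of_le_of_card_ge hP ?_
    obtain ⟨b, hb⟩ := IsPGroup.iff_card.1 P.isPGroup'
    rw [hU, Subgroup.card_map_of_injective (Subgroup.subtype_injective _), hb]
    refine Nat.le_of_dvd Nat.card_pos (S.pow_dvd_card_of_pow_dvd_card (hfull b ?_))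
    rw [← hb]
    exact Subgroup.card_subgroup_dvd_card _
  obtain ⟨R, hR⟩ := hTp.exists_le_sylow
  obtain ⟨c, hc⟩ := MulAction.exists_smul_eq G R P
  refine ⟨c, fun t ht => ?_⟩
  have h1 : c * t * c⁻¹ ∈ (P : Subgroup G) := by
    rw [← hc]
    exact Subgroup.smul_mem_pointwise_smul t (MulAut.conj c) (R : Subgroup G) (hR ht)
  rw [← hUP] at h1
  exact Subgroup.map_subtype_le _ h1

/-- **The elements of order 3 commuting with no involution.** -/
theorem three_part {g : MG} (hg : orderOf g = 3) (ho : ∀ t : MG, orderOf t = 2 → t * g ≠ g * t) :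
    ¬ 3 ^ 19 ∣ Nat.card ↥(centralizer ({g} : Set MG)) ∨
      ∃ (c : MG) (x : centralizer ({zz} : Set MG)) (N : Subgroup ↥(centralizer ({(x : MG)} : Set MG)))
        (n : ↥(centralizer ({(x : MG)} : Set MG))), orderOf x = 3 ∧ fr (pi x) = 1 ∧ SD x N ∧ n ∈ N ∧
        c * g * c⁻¹ = n := by
  have := finite
  have hp : Fact (Nat.Prime 3) := ⟨Nat.prime_three⟩
  rw [or_iff_not_imp_left, not_not]
  intro h19
  -- a Sylow subgroup of `C(g)`
  obtain ⟨S⟩ : Nonempty (Sylow 3 ↥(centralizer ({g} : Set MG))) := inferInstance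
  have hSc : 3 ^ 19 ∣ Nat.card ↥(S : Subgroup ↥(centralizer ({g} : Set MG))) := S.pow_dvd_card_of_pow_dvd_card h19
  have hgS : self g ∈ (S : Subgroup ↥(centralizer ({g} : Set MG))) := by
    have hn : (zpowers (self g)).Normal := Zx_normal g
    have h1 : IsPGroup 3 ↥(zpowers (self g)) := IsPGroup.of_card (n := 1) (by
      rw [Nat.card_zpowers, self, Subgroup.orderOf_mk, hg, pow_one])
    have h2 : IsPGroup 3 ↥((S : Subgroup ↥(centralizer ({g} : Set MG))) ⊔ zpowers (self g)) :=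
      S.isPGroup'.to_sup_of_normal_right h1
    have h3 := S.is_maximal' h2 le_sup_left
    exact h3.le (Subgroup.mem_sup_right (Subgroup.mem_zpowers _))
  set T : Subgroup MG := (S : Subgroup ↥(centralizer ({g} : Set MG))).map (centralizer ({g} : Set MG)).subtype with hT
  have hTp : IsPGroup 3 ↥T := S.isPGroup'.map _
  have hTc : 3 ^ 19 ∣ Nat.card ↥T := by
    rw [hT, Subgroup.card_map_of_injective (Subgroup.subtype_injective _)]
    exact hSc
  have hTg : ∀ t ∈ T, t * g = g * t := fun t ht => mem_centralizer_singleton_iff.1 (Subgroup.map_subtype_le _ ht)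
  have hgT : g ∈ T := ⟨self g, hgS, rfl⟩
  obtain ⟨x, hx, hfr, hf⟩ := exists_full3
  obtain ⟨c, hc⟩ := exists_conj_le hf hTp
  obtain ⟨N, hD⟩ := exists_SD hx hfr
  have := hD.simple
  obtain ⟨q, hq⟩ := hD.sq
  by_cases hgN : (⟨c * g * c⁻¹, hc g hgT⟩ : ↥(centralizer ({(x : MG)} : Set MG))) ∈ N
  · exact ⟨c, x, N, _, hx, hfr, hD, hgN, rfl⟩
  exfalso
  set gD : ↥(centralizer ({(x : MG)} : Set MG)) := ⟨c * g * c⁻¹, hc g hgT⟩ with hgD
  have hg3 : gD ^ 3 ^ 1 = 1 := by
    apply Subtype.ext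
    show (c * g * c⁻¹) ^ 3 ^ 1 = 1
    rw [pow_one, conj_pow, ← hg, pow_orderOf_eq_one, mul_one, mul_inv_cancel]
  have hsec : ∀ j : ℤ, ∃ s ∈ N, s * gD * s⁻¹ = gD * self (x : MG) ^ j := by
    rcases dich hD.rad (by norm_num) hD.cen gD with ⟨m, -, hm⟩ | hcc
    · exfalso
      have h1 : (c * g * c⁻¹) * ((m : MG) * zz * (m : MG)⁻¹) = (m : MG) * zz * (m : MG)⁻¹ * (c * g * c⁻¹) :=
        congrArg Subtype.val hm
      have h2 : orderOf (c⁻¹ * m * zz * (c⁻¹ * m)⁻¹) = 2 := by
        have := MulEquiv.orderOf_eq (MulAut.conj (c⁻¹ * (m : MG))) (zz : MG)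
        rw [MulAut.conj_apply] at this
        rw [this]
        exact orderOf_eq_prime (by rw [pow_two]; exact chart.large.z_sq) chart.large.z_ne
      refine ho _ h2 ?_
      calc c⁻¹ * m * zz * (c⁻¹ * m)⁻¹ * g = c⁻¹ * ((m : MG) * zz * (m : MG)⁻¹ * (c * g * c⁻¹)) * c := by group
        _ = c⁻¹ * ((c * g * c⁻¹) * ((m : MG) * zz * (m : MG)⁻¹)) * c := by rw [h1]
        _ = _ := by group
    · exact hcc
  -- the image of `T`
  set T' : Subgroup ↥(centralizer ({(x : MG)} : Set MG)) :=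
    (T.map (MulAut.conj c).toMonoidHom).subgroupOf (centralizer ({(x : MG)} : Set MG)) with hT'
  have hTle : T.map (MulAut.conj c).toMonoidHom ≤ centralizer ({(x : MG)} : Set MG) := by
    rintro _ ⟨t, ht, rfl⟩
    exact hc t ht
  have hT'c : Nat.card ↥T' = Nat.card ↥T := by
    rw [hT', Nat.card_congr (Subgroup.subgroupOfEquivOfLe hTle).toEquiv]
    exact Subgroup.card_map_of_injective (MulAut.conj c).injective
  have hT'g : T' ≤ centralizer ({gD} : Set ↥(centralizer ({(x : MG)} : Set MG))) := by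
    intro d hd
    obtain ⟨t, ht, htd⟩ := Subgroup.mem_subgroupOf.1 hd
    have htd' : c * t * c⁻¹ = (d : MG) := htd
    rw [mem_centralizer_singleton_iff]
    apply Subtype.ext
    show (d : MG) * (c * g * c⁻¹) = c * g * c⁻¹ * (d : MG)
    rw [← htd']
    calc c * t * c⁻¹ * (c * g * c⁻¹) = c * (t * g) * c⁻¹ := by group
      _ = c * (g * t) * c⁻¹ := by rw [hTg t ht]
      _ = _ := by group
  have h1 := Bd.card_three hD.rad hD.ns hq hD.cardN hg3 hgN hsec hT'g
  rw [hT'c, hD.cardA] at h1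
  have h2 := hTc.trans h1
  norm_num at h2

end Cfsg.Agent.H740.OreM.ThreeBd
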