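import Mathlib.GroupTheory.FiniteAbelian.Duality
import Mathlib.RingTheory.RootsOfUnity.AlgebraicallyClosed
import Mathlib.Analysis.Complex.Polynomial.Basic

/-!
# Groups of class two with cyclic center: duality (helper740)

`exists_perp` : `G / Z` abelian, `Z` the center, of prime order, `c` an endomorphism of `G` fixing `Z`: if `n` is not of
the form `m (c m)⁻¹ z` then some `s` commutes with the elements `m (c m)⁻¹` and not with `n`.
-/

set_option autoImplicit false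

namespace Cfsg.Agent.H740.OreM.Dual

universe u

theorem exists_dual {E : Type u} [CommGroup E] [Finite E] (T : E →* E) (β : E →* (E →* ℂˣ))
    (hβ : Function.Injective β) {e : E} (he : e ∉ T.range) : ∃ s, (∀ m, β s (T m) = 1) ∧ β s e ≠ 1 := by
  have hc : Nat.card (E →* ℂˣ) = Nat.card E := CommGroup.card_monoidHom_of_hasEnoughRootsOfUnity E ℂ
  have : Finite (E →* ℂˣ) := Nat.finite_of_card_ne_zero (by rw [hc]; exact Nat.card_pos.ne')
  have hs : Function.Surjective β := (Function.Injective.bijective_of_nat_card_le hβ hc.le).2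
  have he' : (QuotientGroup.mk e : E ⧸ T.range) ≠ 1 := fun h => he ((QuotientGroup.eq_one_iff e).1 h)
  obtain ⟨χ, hχ⟩ := CommGroup.exists_apply_ne_one_of_hasEnoughRootsOfUnity (E ⧸ T.range) ℂ he'
  obtain ⟨s, hs⟩ := hs (χ.comp (QuotientGroup.mk' T.range))
  refine ⟨s, fun m => ?_, ?_⟩
  · rw [hs, MonoidHom.comp_apply, show QuotientGroup.mk' T.range (T m) = 1 from
      (QuotientGroup.eq_one_iff _).2 ⟨m, rfl⟩, map_one]
  · rw [hs, MonoidHom.comp_apply]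
    exact hχ

variable {G : Type u} [Group G]

/-- the commutator -/
def cm (Z : Subgroup G) (hc : ∀ s m : G, s * m * s⁻¹ * m⁻¹ ∈ Z) (s m : G) : ↥Z := ⟨s * m * s⁻¹ * m⁻¹, hc s m⟩

theorem cm_mul_left {Z : Subgroup G} {hc : ∀ s m : G, s * m * s⁻¹ * m⁻¹ ∈ Z} (hZ : ∀ z ∈ Z, ∀ g, g * z = z * g)
    (s t m : G) : cm Z hc (s * t) m = cm Z hc s m * cm Z hc t m := by
  apply Subtype.ext
  show s * t * m * (s * t)⁻¹ * m⁻¹ = s * m * s⁻¹ * m⁻¹ * (t * m * t⁻¹ * m⁻¹)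
  have h := hZ _ (hc t m) (s * m * s⁻¹ * m⁻¹)
  have h' := hZ _ (hc t m) s
  rw [h]
  calc s * t * m * (s * t)⁻¹ * m⁻¹ = (s * (t * m * t⁻¹ * m⁻¹)) * m * s⁻¹ * m⁻¹ := by group
    _ = _ := by rw [h']; group

theorem cm_inv {Z : Subgroup G} {hc : ∀ s m : G, s * m * s⁻¹ * m⁻¹ ∈ Z} (s m : G) :
    cm Z hc s m = (cm Z hc m s)⁻¹ := by
  apply Subtype.ext
  show s * m * s⁻¹ * m⁻¹ = (m * s * m⁻¹ * s⁻¹)⁻¹
  group

theorem cm_mul_right {Z : Subgroup G} {hc : ∀ s m : G, s * m * s⁻¹ * m⁻¹ ∈ Z} (hZ : ∀ z ∈ Z, ∀ g, g * z = z * g)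
    (s m t : G) : cm Z hc s (m * t) = cm Z hc s m * cm Z hc s t := by
  rw [cm_inv, cm_mul_left hZ, cm_inv s m, cm_inv s t, mul_inv_rev]
  apply Subtype.ext
  exact hZ _ (SetLike.coe_mem _) _

theorem cm_eq_one {Z : Subgroup G} {hc : ∀ s m : G, s * m * s⁻¹ * m⁻¹ ∈ Z} {s m : G} :
    cm Z hc s m = 1 ↔ s * m = m * s := by
  constructor
  · intro h
    have h1 : s * m * s⁻¹ * m⁻¹ = 1 := congrArg Subtype.val h
    rw [mul_inv_eq_one, mul_inv_eq_iff_eq_mul] at h1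
    exact h1
  · intro h
    apply Subtype.ext
    show s * m * s⁻¹ * m⁻¹ = 1
    rw [h]; group

/-- the pairing with values in `ℂˣ` -/
def phi (Z : Subgroup G) (hc : ∀ s m : G, s * m * s⁻¹ * m⁻¹ ∈ Z) (hZ : ∀ z ∈ Z, ∀ g, g * z = z * g)
    (χ : ↥Z →* ℂˣ) (s : G) : G →* ℂˣ where
  toFun m := χ (cm Z hc s m)
  map_one' := by
    rw [show cm Z hc s 1 = 1 from cm_eq_one.2 (by simp), map_one]
  map_mul' m t := by rw [cm_mul_right hZ, map_mul]

theorem exists_perp [Finite G] (Z : Subgroup G) (hc : ∀ s m : G, s * m * s⁻¹ * m⁻¹ ∈ Z)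
    (hZ : ∀ z ∈ Z, ∀ g, g * z = z * g) (hcen : ∀ s : G, (∀ m, s * m = m * s) → s ∈ Z)
    (hp : (Nat.card ↥Z).Prime) (c : G →* G) (hcZ : ∀ z ∈ Z, c z ∈ Z) {n : G}
    (hn : ∀ m : G, ∀ z ∈ Z, n ≠ m * (c m)⁻¹ * z) :
    ∃ s : G, (∀ m : G, s * (m * (c m)⁻¹) = m * (c m)⁻¹ * s) ∧ s * n ≠ n * s := by
  have hZn : Z.Normal := ⟨fun z hz g => by rw [hZ z hz g, mul_inv_cancel_right]; exact hz⟩
  let _ : CommGroup ↥Z := { (inferInstance : Group ↥Z) with
    mul_comm := fun a b => Subtype.ext (hZ b b.2 a) }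
  have hcomm : ∀ a b : G ⧸ Z, a * b = b * a := by
    intro a b
    obtain ⟨s, rfl⟩ := QuotientGroup.mk_surjective a
    obtain ⟨m, rfl⟩ := QuotientGroup.mk_surjective b
    rw [← QuotientGroup.mk_mul, ← QuotientGroup.mk_mul, QuotientGroup.eq]
    have h1 := hc s⁻¹ m⁻¹
    have h2 : (s * m)⁻¹ * (m * s) = m⁻¹ * s⁻¹ * m⁻¹⁻¹ * s⁻¹⁻¹ := by group
    rw [h2]
    exact hc m⁻¹ s⁻¹
  let _ : CommGroup (G ⧸ Z) := { (inferInstance : Group (G ⧸ Z)) with mul_comm := hcomm }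
  -- a faithful character of `Z`
  obtain ⟨χ, hχ⟩ : ∃ χ : ↥Z →* ℂˣ, ∀ z, χ z = 1 → z = 1 := by
    have : Nontrivial ↥Z := by
      rw [← Finite.one_lt_card_iff_nontrivial]
      exact hp.one_lt
    obtain ⟨z₀, hz₀⟩ := exists_ne (1 : ↥Z)
    obtain ⟨χ, hχ⟩ := CommGroup.exists_apply_ne_one_of_hasEnoughRootsOfUnity ↥Z ℂ hz₀
    refine ⟨χ, fun z hz => ?_⟩
    by_contra hz1
    have : Fact (Nat.card ↥Z).Prime := ⟨hp⟩
    have h1 : z₀ ∈ Subgroup.zpowers z := mem_zpowers_of_prime_card rfl hz1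
    obtain ⟨i, hi⟩ := Subgroup.mem_zpowers_iff.1 h1
    apply hχ
    rw [← hi, map_zpow, hz, one_zpow]
  -- the pairing
  let Φ : G →* (G ⧸ Z →* ℂˣ) :=
    { toFun := fun s => QuotientGroup.lift Z (phi Z hc hZ χ s) (by
        intro z hz
        show χ (cm Z hc s z) = 1
        rw [cm_eq_one.2 (hZ z hz s), map_one])
      map_one' := by
        apply MonoidHom.ext
        intro a
        obtain ⟨m, rfl⟩ := QuotientGroup.mk_surjective a
        show χ (cm Z hc 1 m) = 1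
        rw [cm_eq_one.2 (by simp), map_one]
      map_mul' := fun s t => by
        apply MonoidHom.ext
        intro a
        obtain ⟨m, rfl⟩ := QuotientGroup.mk_surjective a
        show χ (cm Z hc (s * t) m) = χ (cm Z hc s m) * χ (cm Z hc t m)
        rw [cm_mul_left hZ, map_mul] }
  have hΦ : ∀ s m : G, Φ s (QuotientGroup.mk m) = χ (cm Z hc s m) := fun s m => rfl
  let β : G ⧸ Z →* (G ⧸ Z →* ℂˣ) := QuotientGroup.lift Z Φ (by
    intro z hz
    apply MonoidHom.ext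
    intro a
    obtain ⟨m, rfl⟩ := QuotientGroup.mk_surjective a
    rw [hΦ, cm_eq_one.2 (hZ z hz m).symm, map_one]
    rfl)
  have hβ : ∀ s m : G, β (QuotientGroup.mk s) (QuotientGroup.mk m) = χ (cm Z hc s m) := fun s m => rfl
  have hinj : Function.Injective β := by
    rw [injective_iff_map_eq_one]
    intro a ha
    obtain ⟨s, rfl⟩ := QuotientGroup.mk_surjective a
    rw [QuotientGroup.eq_one_iff]
    refine hcen s fun m => ?_
    rw [← cm_eq_one (hc := hc)]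
    apply hχ
    rw [← hβ, ha]
    rfl
  have hcm : Z ≤ Z.comap c := fun z hz => hcZ z hz
  obtain ⟨C, hC⟩ : ∃ C : G ⧸ Z →* G ⧸ Z, ∀ m : G, C (QuotientGroup.mk m) = QuotientGroup.mk (c m) :=
    ⟨QuotientGroup.map Z Z c hcm, fun m => rfl⟩
  let T : G ⧸ Z →* G ⧸ Z :=
    { toFun := fun a => a * (C a)⁻¹
      map_one' := by rw [map_one, inv_one, mul_one]
      map_mul' := fun a b => by
        rw [map_mul, mul_inv_rev, hcomm (C b)⁻¹ (C a)⁻¹]
        calc a * b * ((C a)⁻¹ * (C b)⁻¹) = a * (b * (C a)⁻¹) * (C b)⁻¹ := by simp only [mul_assoc]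
          _ = _ := by rw [hcomm b]; simp only [mul_assoc] }
  have hT : ∀ m : G, T (QuotientGroup.mk m) = QuotientGroup.mk (m * (c m)⁻¹) := fun m => by
    show (QuotientGroup.mk m : G ⧸ Z) * (C (QuotientGroup.mk m))⁻¹ = _
    rw [hC]
    rfl
  have he : (QuotientGroup.mk n : G ⧸ Z) ∉ T.range := by
    rintro ⟨a, ha⟩
    obtain ⟨m, rfl⟩ := QuotientGroup.mk_surjective a
    rw [hT, QuotientGroup.eq] at ha
    exact hn m _ ha (by group)
  obtain ⟨a, h1, h2⟩ := exists_dual T β hinj he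
  obtain ⟨s, rfl⟩ := QuotientGroup.mk_surjective a
  refine ⟨s, fun m => ?_, fun h => h2 ?_⟩
  · rw [← cm_eq_one (hc := hc)]
    apply hχ
    rw [← hβ, ← hT]
    exact h1 _
  · rw [hβ, cm_eq_one.2 h, map_one]

end Cfsg.Agent.H740.OreM.Dual
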