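import Cfsg.Agent.BpSpor.MFiveAbs
import Cfsg.Agent.H740.OreM.Dual

/-!
# The situation `Rad`: conjugacy in a coset of `N` (helper740)

`D = N C(z)`, `C_N(z) = ⟨x⟩` the center of `N`.

* `dich` : an element `g` of `D` commutes with a conjugate of `z`, or is conjugate to all `g x ^ j`.
-/

set_option autoImplicit false
set_option linter.unusedSectionVars false

namespace Cfsg.Agent.H740.OreM.Dich

open Subgroup Cfsg Cfsg.Agent.BpSpor.M5

universe u v

variable {D : Type u} [Group D] [Finite D] {p : ℕ} [hp : Fact p.Prime] {z x : D} {N : Subgroup D}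
    {A : Type v} [Group A] {f : ↥(centralizer ({z} : Set D)) →* A}

/-- the center of `N` is `⟨x⟩` -/
def Cen (x : D) (N : Subgroup D) : Prop := ∀ s ∈ N, (∀ m ∈ N, s * m = m * s) → s ∈ zpowers x

/-- **conjugates of `g` in `g ⟨x⟩`** -/
theorem dich (h : Rad p z x N f) (hp2 : p ≠ 2) (hcen : Cen x N) (g : D) :
    (∃ m ∈ N, g * (m * z * m⁻¹) = m * z * m⁻¹ * g) ∨ ∀ j : ℤ, ∃ s ∈ N, s * g * s⁻¹ = g * x ^ j := by
  have hN := h.nN
  obtain ⟨n, hn, c, hc, rfl⟩ := h.sup g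
  by_cases hcase : ∃ m ∈ N, ∃ i : ℤ, n = m * (c * m * c⁻¹)⁻¹ * x ^ i
  · left
    obtain ⟨m, hm, i, hi⟩ := hcase
    refine ⟨m, hm, ?_⟩
    have h1 : n * c = m * c * m⁻¹ * x ^ i := by
      rw [hi]
      calc m * (c * m * c⁻¹)⁻¹ * x ^ i * c = m * c * m⁻¹ * c⁻¹ * (x ^ i * c) := by group
        _ = m * c * m⁻¹ * c⁻¹ * (c * x ^ i) := by rw [h.xzc]
        _ = _ := by group
    rw [h1]
    calc m * c * m⁻¹ * x ^ i * (m * z * m⁻¹) = m * c * m⁻¹ * (x ^ i * (m * z * m⁻¹)) := by group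
      _ = m * c * m⁻¹ * ((m * z * m⁻¹) * x ^ i) := by rw [h.xzc]
      _ = m * (c * z) * m⁻¹ * x ^ i := by group
      _ = m * (z * c) * m⁻¹ * x ^ i := by rw [hc]
      _ = _ := by group
  · right
    push Not at hcase
    set Z : Subgroup ↥N := (zpowers x).subgroupOf N with hZdef
    have hcomm : ∀ s m : ↥N, s * m * s⁻¹ * m⁻¹ ∈ Z := by
      intro s m
      rw [hZdef, mem_subgroupOf]
      obtain ⟨i, hi⟩ := h.comm hp2 s.2 m.2
      show (s : D) * m * (s : D)⁻¹ * (m : D)⁻¹ ∈ zpowers x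
      rw [hi, h.xzc, mul_inv_cancel_right]
      exact zpow_mem (mem_zpowers x) i
    have hZc : ∀ w ∈ Z, ∀ g : ↥N, g * w = w * g := by
      intro w hw g
      rw [hZdef, mem_subgroupOf] at hw
      obtain ⟨i, hi⟩ := mem_zpowers_iff.1 hw
      apply Subtype.ext
      show (g : D) * w = w * g
      rw [← hi, h.xzc]
    have hcen' : ∀ s : ↥N, (∀ m, s * m = m * s) → s ∈ Z := by
      intro s hs
      rw [hZdef, mem_subgroupOf]
      exact hcen s s.2 fun m hm => congrArg Subtype.val (hs ⟨m, hm⟩)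
    have hprime : (Nat.card ↥Z).Prime := by
      rw [hZdef, Nat.card_congr (subgroupOfEquivOfLe (by rw [zpowers_le]; exact h.xN)).toEquiv, Nat.card_zpowers, h.ox]
      exact hp.out
    let C : ↥N →* ↥N := (MulAut.conjNormal c : MulAut ↥N).toMonoidHom
    have hC : ∀ m : ↥N, ((C m : ↥N) : D) = c * m * c⁻¹ := fun m => MulAut.conjNormal_apply c m
    have hCZ : ∀ w ∈ Z, C w ∈ Z := by
      intro w hw
      rw [hZdef, mem_subgroupOf] at hw ⊢
      obtain ⟨i, hi⟩ := mem_zpowers_iff.1 hw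
      rw [hC, ← hi, h.xzc, mul_inv_cancel_right]
      exact zpow_mem (mem_zpowers x) i
    obtain ⟨s, hs1, hs2⟩ := Dual.exists_perp Z hcomm hZc hcen' hprime C hCZ (n := ⟨n, hn⟩) (by
      intro m w hw hmw
      rw [hZdef, mem_subgroupOf] at hw
      obtain ⟨i, hi⟩ := mem_zpowers_iff.1 hw
      refine hcase m m.2 i ?_
      have h1 : n = (m : D) * ((C m : ↥N) : D)⁻¹ * w := congrArg Subtype.val hmw
      rw [h1, hC, ← hi])
    have hsN : (s : D) ∈ N := s.2
    generalize hs0 : (s : D) = s0 at hsN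
    have hsn : s0 * n ≠ n * s0 := by
      intro h1
      apply hs2
      apply Subtype.ext
      show (s : D) * n = n * s
      rw [hs0, h1]
    have hsm : ∀ m ∈ N, s0 * (m * (c * m * c⁻¹)⁻¹) = m * (c * m * c⁻¹)⁻¹ * s0 := by
      intro m hm
      have h1 : (s : D) * ((⟨m, hm⟩ : ↥N) * ((C ⟨m, hm⟩ : ↥N) : D)⁻¹) = (⟨m, hm⟩ : ↥N) * ((C ⟨m, hm⟩ : ↥N) : D)⁻¹ * s :=
        congrArg Subtype.val (hs1 ⟨m, hm⟩)
      rw [hC, hs0] at h1
      exact h1
    -- `c` commutes with `s`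
    have hsc : c⁻¹ * s0 * c = s0 := by
      have hN1 : c⁻¹ * s0 * c ∈ N := by
        have := hN.conj_mem s0 hsN c⁻¹
        rwa [inv_inv] at this
      have hk : s0⁻¹ * (c⁻¹ * s0 * c) ∈ zpowers x := by
        refine hcen _ (N.mul_mem (N.inv_mem hsN) hN1) fun m hm => ?_
        have hm' : c * m * c⁻¹ ∈ N := hN.conj_mem m hm c
        obtain ⟨i, hi⟩ := h.comm hp2 hsN hm
        obtain ⟨i', hi'⟩ := h.comm hp2 hsN hm'
        have h1 : x ^ i = x ^ i' := by
          have h2 : s0 * (m * (c * m * c⁻¹)⁻¹) * s0⁻¹ = m * (c * m * c⁻¹)⁻¹ := by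
            rw [hsm m hm, mul_inv_cancel_right]
          have h3 : s0 * (m * (c * m * c⁻¹)⁻¹) * s0⁻¹ = (s0 * m * s0⁻¹) * (s0 * (c * m * c⁻¹) * s0⁻¹)⁻¹ := by group
          rw [h3, hi, hi', mul_inv_rev] at h2
          have h4 : m * (x ^ i * (x ^ i')⁻¹ * (c * m * c⁻¹)⁻¹) = m * (c * m * c⁻¹)⁻¹ := by
            rw [← h2]
            group
          have h5 := mul_left_cancel h4
          rw [mul_eq_right, mul_inv_eq_one] at h5
          exact h5
        have h5 : (c⁻¹ * s0 * c) * m * (c⁻¹ * s0 * c)⁻¹ = m * x ^ i := by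
          calc (c⁻¹ * s0 * c) * m * (c⁻¹ * s0 * c)⁻¹ = c⁻¹ * (s0 * (c * m * c⁻¹) * s0⁻¹) * c := by group
            _ = c⁻¹ * ((c * m * c⁻¹) * x ^ i') * c := by rw [hi']
            _ = m * c⁻¹ * (x ^ i' * c) := by group
            _ = m * c⁻¹ * (c * x ^ i') := by rw [h.xzc]
            _ = m * x ^ i' := by group
            _ = _ := by rw [h1]
        have h6 : s0⁻¹ * (c⁻¹ * s0 * c) * m * (s0⁻¹ * (c⁻¹ * s0 * c))⁻¹ = m := by
          calc s0⁻¹ * (c⁻¹ * s0 * c) * m * (s0⁻¹ * (c⁻¹ * s0 * c))⁻¹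
              = s0⁻¹ * ((c⁻¹ * s0 * c) * m * (c⁻¹ * s0 * c)⁻¹) * s0 := by group
            _ = s0⁻¹ * (s0 * m * s0⁻¹) * s0 := by rw [h5, hi]
            _ = m := by group
        rwa [mul_inv_eq_iff_eq_mul] at h6
      obtain ⟨k, hk⟩ := mem_zpowers_iff.1 hk
      have h1 : c⁻¹ * s0 * c⁻¹⁻¹ = s0 * x ^ k := by rw [hk]; group
      have h2 := h.cent_of_z hp2 hsN (c := c⁻¹) ((show Commute c z from hc).inv_left) h1
      rw [h2, mul_one, inv_inv] at h1
      exact h1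
    have hsc' : c * s0⁻¹ = s0⁻¹ * c := by
      have h1 : s0 * c = c * s0 := by
        calc s0 * c = c * (c⁻¹ * s0 * c) := by group
          _ = _ := by rw [hsc]
      exact ((show Commute s0 c from h1).inv_left).symm.eq
    obtain ⟨i, hi⟩ := h.comm hp2 hsN hn
    have hx1 : x ^ i ≠ 1 := by
      intro h1
      rw [h1, mul_one, mul_inv_eq_iff_eq_mul] at hi
      exact hsn hi
    have hg : ∀ k : ℕ, ∃ s ∈ N, s * (n * c) * s⁻¹ = n * c * (x ^ i) ^ k := by
      intro k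
      induction k with
      | zero => exact ⟨1, N.one_mem, by group⟩
      | succ k ih =>
        obtain ⟨t, ht, htk⟩ := ih
        refine ⟨s0 * t, N.mul_mem hsN ht, ?_⟩
        calc s0 * t * (n * c) * (s0 * t)⁻¹ = s0 * (t * (n * c) * t⁻¹) * s0⁻¹ := by group
          _ = s0 * (n * c * (x ^ i) ^ k) * s0⁻¹ := by rw [htk]
          _ = s0 * (n * c) * ((x ^ i) ^ k * s0⁻¹) := by group
          _ = s0 * (n * c) * (s0⁻¹ * (x ^ i) ^ k) := by
            rw [← zpow_natCast, ← zpow_mul, h.xzc]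
          _ = s0 * n * (c * s0⁻¹) * (x ^ i) ^ k := by group
          _ = (s0 * n * s0⁻¹) * c * (x ^ i) ^ k := by rw [hsc']; group
          _ = n * x ^ i * c * (x ^ i) ^ k := by rw [hi]
          _ = n * (c * x ^ i) * (x ^ i) ^ k := by rw [h.xzc i c]; group
          _ = _ := by rw [pow_succ']; group
    intro j
    have hord : orderOf (x ^ i) = p := by
      refine orderOf_eq_prime ?_ hx1
      rw [← zpow_natCast, ← zpow_mul, mul_comm, zpow_mul, zpow_natCast, ← h.ox, pow_orderOf_eq_one, one_zpow]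
    have hz : zpowers (x ^ i) = zpowers x := by
      refine Subgroup.eq_of_le_of_card_ge (by rw [zpowers_le]; exact zpow_mem (mem_zpowers x) i) ?_
      rw [Nat.card_zpowers, Nat.card_zpowers, hord, h.ox]
    have hj : x ^ j ∈ zpowers (x ^ i) := by rw [hz]; exact zpow_mem (mem_zpowers x) j
    rw [← mem_powers_iff_mem_zpowers] at hj
    obtain ⟨k, hk⟩ := hj
    obtain ⟨s, hs, hsk⟩ := hg k
    refine ⟨s, hs, ?_⟩
    rw [hsk]
    congr 1

end Cfsg.Agent.H740.OreM.Dich
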