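import Cfsg.Agent.LThreeBX.Main
import Cfsg.Agent.LThreeB.FromM

/-!
# S2443, row M, piece MP3: a group with an isolated involution whose centralizer is an extension of `Suz` (helper740)

`D` finite, `z` isolated, `f : C(z) → Suz` onto. Then `D = N C(z)`, and the order of the odd normal subgroup `N` is a
`{3, 5}`-number if the order of `D` divides the order of the Monster; so the centralizer of an involution `t ≠ z` is small.
-/

set_option autoImplicit false
set_option linter.unusedSectionVars false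

namespace Cfsg.Agent.H740.OreM.Abs

open Subgroup Cfsg Cfsg.Agent.LThreeBX.Abs

universe u v

/-- two involutions whose product has odd order -/
theorem conj_of_odd {G : Type*} [Group G] {a b : G} (ha : a * a = 1) (hb : b * b = 1) {m : ℕ}
    (hm : (a * b) ^ (2 * m + 1) = 1) : ∃ g : G, g * b * g⁻¹ = a := by
  refine ⟨b * (a * b) ^ m, ?_⟩
  have hai : a⁻¹ = a := inv_eq_of_mul_eq_one_left ha
  have hbi : b⁻¹ = b := inv_eq_of_mul_eq_one_left hb
  have h1 : b * ((a * b) ^ m)⁻¹ * b = (a * b) ^ m := by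
    have h2 : b * (a * b)⁻¹ * b⁻¹ = a * b := by
      rw [mul_inv_rev, hai, hbi]
      calc b * (b * a) * b = (b * b) * a * b := by group
        _ = a * b := by rw [hb, one_mul]
    calc b * ((a * b) ^ m)⁻¹ * b = b * ((a * b)⁻¹) ^ m * b⁻¹ := by rw [inv_pow, hbi]
      _ = (b * (a * b)⁻¹ * b⁻¹) ^ m := by rw [conj_pow]
      _ = (a * b) ^ m := by rw [h2]
  have h3 : (a * b) ^ m * b * ((a * b) ^ m)⁻¹ = (a * b) ^ m * (a * b) ^ m * b := by
    calc (a * b) ^ m * b * ((a * b) ^ m)⁻¹ = (a * b) ^ m * (b * ((a * b) ^ m)⁻¹ * b) * b⁻¹ := by group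
      _ = (a * b) ^ m * (a * b) ^ m * b := by rw [h1, hbi]
  have h4 : (a * b) ^ m * (a * b) ^ m = b * a := by
    have h5 : (a * b) ^ m * (a * b) ^ m * (a * b) = 1 := by
      rw [← pow_add, ← pow_succ, ← two_mul]; exact hm
    rw [mul_eq_one_iff_eq_inv.1 h5, mul_inv_rev, hai, hbi]
  calc b * (a * b) ^ m * b * (b * (a * b) ^ m)⁻¹ = b * ((a * b) ^ m * b * ((a * b) ^ m)⁻¹) * b⁻¹ := by group
    _ = b * (b * a * b) * b := by rw [h3, h4, hbi]
    _ = (b * b) * a * (b * b) := by group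
    _ = a := by rw [hb, one_mul, mul_one]

variable {D : Type u} [Group D] [Finite D] {z : D} {S : Type v} [Group S]

/-- The decomposition `D = N C(z)` and the homomorphism `F : D → S`. -/
structure Hyp (z : D) (f : ↥(centralizer ({z} : Set D)) →* S) (N : Subgroup D) (F : D →* S) : Prop where
  zz : z * z = 1
  nor : N.Normal
  odd : Odd (Nat.card ↥N)
  FN : ∀ n ∈ N, F n = 1
  Fc : ∀ c : ↥(centralizer ({z} : Set D)), F c = f c
  dec : ∀ d : D, ∃ n ∈ N, ∃ c : ↥(centralizer ({z} : Set D)), d = n * c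
  ker : ∀ k : ↥(centralizer ({z} : Set D)), f k = 1 → (k : D) ∈ N ∨ (k : D) * z ∈ N

theorem exists_hyp (hz : orderOf z = 2)
    (hiso : ∀ d : D, (d * z * d⁻¹) * z = z * (d * z * d⁻¹) → d * z * d⁻¹ = z)
    [hS : IsSimpleGroup S] (hev : Even (Nat.card S)) (f : ↥(centralizer ({z} : Set D)) →* S)
    (hf : Function.Surjective f) (Z : Subgroup D) (hZ : Z ≤ center D) (hZo : Odd (Nat.card ↥Z))
    (hk : ∀ k : ↥(centralizer ({z} : Set D)), f k = 1 → (k : D) ∈ Z ∨ (k : D) * z ∈ Z) :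
    ∃ (N : Subgroup D) (F : D →* S), Hyp z f N F := by
  obtain ⟨N₀, hN₀, hN₀o, hsup₀⟩ := Cfsg.Agent.LThreeMB.ZStar.exists_core hz hiso
  have hZn : Z.Normal := ⟨fun a ha g => by
    rw [mem_center_iff.1 (hZ ha) g, mul_inv_cancel_right]; exact ha⟩
  let N := N₀ ⊔ Z
  have hN : N.Normal := inferInstance
  have hNo : Odd (Nat.card ↥N) := by
    have h1 : Nat.card ↥N ∣ Nat.card ↥N₀ * Nat.card ↥Z := by
      have h2 : N₀.relIndex N ∣ Nat.card ↥Z := by
        show N₀.relIndex (N₀ ⊔ Z) ∣ _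
        rw [Subgroup.relIndex_sup_left]
        exact Subgroup.relIndex_dvd_card N₀ Z
      have h3 : Nat.card ↥N₀ * N₀.relIndex N = Nat.card ↥N := by
        rw [← Subgroup.relIndex_bot_left N₀, ← Subgroup.relIndex_bot_left N]
        exact Subgroup.relIndex_mul_relIndex _ _ _ bot_le le_sup_left
      rw [← h3]
      exact Nat.mul_dvd_mul_left _ h2
    exact (hN₀o.mul hZo).of_dvd_nat h1
  have hsup : N ⊔ centralizer ({z} : Set D) = ⊤ := by
    rw [eq_top_iff, ← hsup₀]
    exact sup_le_sup_right le_sup_left _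
  let α : ↥(centralizer ({z} : Set D)) →* D ⧸ N := (QuotientGroup.mk' N).comp (centralizer ({z} : Set D)).subtype
  have hα : Function.Surjective α := by
    intro y
    obtain ⟨g, rfl⟩ := QuotientGroup.mk'_surjective N y
    have hg : g ∈ N ⊔ centralizer ({z} : Set D) := by rw [hsup]; trivial
    obtain ⟨n, hn, c, hc, rfl⟩ := mem_sup_of_normal_left.1 hg
    refine ⟨⟨c, hc⟩, ?_⟩
    show QuotientGroup.mk' N c = QuotientGroup.mk' N (n * c)
    rw [map_mul, show QuotientGroup.mk' N n = 1 from (QuotientGroup.eq_one_iff _).2 hn, one_mul]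
  have hαk : α.ker = N.subgroupOf (centralizer ({z} : Set D)) := by
    ext x
    rw [MonoidHom.mem_ker, mem_subgroupOf]
    exact QuotientGroup.eq_one_iff _
  have hSf : Finite S := Finite.of_surjective f hf
  have hle : α.ker ≤ f.ker := by
    rw [hαk]
    have h1 : ((N.subgroupOf (centralizer ({z} : Set D))).map f).Normal := Subgroup.Normal.map inferInstance f hf
    have h2 : Nat.card ↥((N.subgroupOf (centralizer ({z} : Set D))).map f) ∣ Nat.card ↥N := by
      refine (card_map_dvd _ f).trans ?_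
      have h3 : Nat.card ↥(N.subgroupOf (centralizer ({z} : Set D))) =
          Nat.card ↥((N.subgroupOf (centralizer ({z} : Set D))).map (centralizer ({z} : Set D)).subtype) :=
        (card_map_of_injective (Subgroup.subtype_injective _)).symm
      rw [h3, subgroupOf_map_subtype]
      exact card_dvd_of_le inf_le_left
    rcases h1.eq_bot_or_eq_top with h | h
    · exact (Subgroup.map_eq_bot_iff _).1 h
    · exfalso
      rw [h, card_top] at h2
      exact (Nat.not_even_iff_odd.2 (hNo.of_dvd_nat h2)) hev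
  obtain ⟨ρ, hρ⟩ := Cfsg.Agent.LThreeMB.exists_fac α hα f (fun a ha => hle ha)
  refine ⟨N, ρ.comp (QuotientGroup.mk' N), ?_, hN, hNo, ?_, ?_, ?_, ?_⟩
  · rw [← pow_two, ← hz, pow_orderOf_eq_one]
  · intro n hn
    show ρ (QuotientGroup.mk' N n) = 1
    rw [show QuotientGroup.mk' N n = 1 from (QuotientGroup.eq_one_iff _).2 hn, map_one]
  · intro c
    exact hρ c
  · intro d
    have hg : d ∈ N ⊔ centralizer ({z} : Set D) := by rw [hsup]; trivial
    obtain ⟨n, hn, c, hc, rfl⟩ := mem_sup_of_normal_left.1 hg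
    exact ⟨n, hn, ⟨c, hc⟩, rfl⟩
  · intro k h
    rcases hk k h with h1 | h1
    · exact Or.inl ((le_sup_right : Z ≤ N) h1)
    · exact Or.inr ((le_sup_right : Z ≤ N) h1)

variable {f : ↥(centralizer ({z} : Set D)) →* S} {N : Subgroup D} {F : D →* S}

theorem Hyp.cube (H : Hyp z f N F) (hK : Ker f) {k : D} (hk : k ∈ N) (hkz : k * z = z * k) : k ^ 3 = 1 := by
  have h1 : f ⟨k, mem_centralizer_singleton_iff.2 hkz⟩ = 1 := by
    rw [← H.Fc]; exact H.FN k hk
  have h2 := hK.six _ h1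
  have h3 : k ^ 6 = 1 := congrArg Subtype.val h2
  have h4 : orderOf k ∣ 6 := orderOf_dvd_of_pow_eq_one h3
  have h5 : Odd (orderOf k) := by
    have h6 : orderOf (⟨k, hk⟩ : ↥N) ∣ Nat.card ↥N := orderOf_dvd_natCard _
    rw [Subgroup.orderOf_mk] at h6
    exact H.odd.of_dvd_nat h6
  have h7 : orderOf k ∣ 3 := by
    have h8 : (orderOf k).Coprime 2 := Nat.coprime_two_right.2 h5
    exact h8.dvd_of_dvd_mul_left (by norm_num; exact h4)
  exact orderOf_dvd_iff_pow_eq_one.1 h7

/-- elements with `F = 1` -/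
theorem Hyp.of_F (H : Hyp z f N F) {d : D} (hd : F d = 1) : d ∈ N ∨ ∃ n ∈ N, d = n * z := by
  obtain ⟨n, hn, c, rfl⟩ := H.dec d
  rw [map_mul, H.FN n hn, one_mul, H.Fc] at hd
  rcases H.ker c hd with h | h
  · exact Or.inl (mul_mem hn h)
  · refine Or.inr ⟨n * (c * z), mul_mem hn h, ?_⟩
    rw [mul_assoc, mul_assoc, H.zz, mul_one]

theorem Hyp.F_z (H : Hyp z f N F) (hf1 : f zA = 1) : F z = 1 := by
  rw [← hf1, ← H.Fc]
  rfl

/-- an element of `N z` centralizing a `q`-subgroup of `N`, `q ≠ 3` -/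
theorem Hyp.not_cent (H : Hyp z f N F) (hK : Ker f) {q : ℕ} [hq : Fact q.Prime] (hq3 : q ≠ 3) {R : Subgroup D}
    (hR : IsPGroup q ↥R) (hRN : R ≤ N) {c n : D} (hn : n ∈ N) (hc : c = n * z) (hcR : c ∈ centralizer (R : Set D)) :
    R = ⊥ := by
  have hN := H.nor
  obtain ⟨m, hm⟩ := H.odd
  -- `c ^ |N|`
  have h2 : ∀ k : ℕ, ∃ n' ∈ N, c ^ (2 * k + 1) = n' * z := by
    intro k
    have h1 : c ^ 2 ∈ N := by
      rw [hc, pow_two]
      have : n * z * (n * z) = n * (z * n * z⁻¹) * (z * z) := by group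
      rw [this, H.zz, mul_one]
      exact mul_mem hn (hN.conj_mem n hn z)
    refine ⟨(c ^ 2) ^ k * n, mul_mem (pow_mem h1 k) hn, ?_⟩
    rw [pow_succ, pow_mul, mul_assoc, ← hc]
  obtain ⟨n', hn', h3⟩ := h2 m
  have h4 : c ^ (2 * m + 1) * c ^ (2 * m + 1) = 1 := by
    have h1 : c ^ 2 ∈ N := by
      rw [hc, pow_two]
      have : n * z * (n * z) = n * (z * n * z⁻¹) * (z * z) := by group
      rw [this, H.zz, mul_one]
      exact mul_mem hn (hN.conj_mem n hn z)
    have h5 : (c ^ 2) ^ (Nat.card ↥N) = 1 := by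
      have := congrArg Subtype.val (pow_card_eq_one' (x := (⟨c ^ 2, h1⟩ : ↥N)))
      exact this
    rw [← pow_add, ← two_mul, pow_mul, ← hm]
    exact h5
  -- conjugate to `z`
  have h5 : (c ^ (2 * m + 1) * z) ^ (2 * m + 1) = 1 := by
    rw [h3, mul_assoc, H.zz, mul_one, ← hm]
    have := congrArg Subtype.val (pow_card_eq_one' (x := (⟨n', hn'⟩ : ↥N)))
    exact this
  obtain ⟨d, hd⟩ := conj_of_odd h4 H.zz h5
  rw [eq_bot_iff]
  intro r hr
  have h6 : Commute r (c ^ (2 * m + 1)) := by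
    have : Commute r c := mem_centralizer_iff.1 hcR r hr
    exact this.pow_right _
  rw [← hd] at h6
  have h7 : (d⁻¹ * r * d) * z = z * (d⁻¹ * r * d) := by
    calc (d⁻¹ * r * d) * z = d⁻¹ * (r * (d * z * d⁻¹)) * d := by group
      _ = d⁻¹ * ((d * z * d⁻¹) * r) * d := by rw [h6.eq]
      _ = _ := by group
  have h8 : d⁻¹ * r * d ∈ N := by
    have := hN.conj_mem r (hRN hr) d⁻¹
    rwa [inv_inv] at this
  have h9 := H.cube hK h8 h7
  have h10 : r ^ 3 = 1 := by
    have h11 : (d⁻¹ * r * d⁻¹⁻¹) ^ 3 = 1 := by rw [inv_inv]; exact h9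
    rw [conj_pow] at h11
    calc r ^ 3 = d * (d⁻¹ * r ^ 3 * d⁻¹⁻¹) * d⁻¹ := by group
      _ = 1 := by rw [h11]; group
  rw [mem_bot]
  obtain ⟨k, hk⟩ := hR ⟨r, hr⟩
  have h12 : r ^ q ^ k = 1 := congrArg Subtype.val hk
  have h13 : orderOf r ∣ Nat.gcd 3 (q ^ k) := Nat.dvd_gcd (orderOf_dvd_of_pow_eq_one h10) (orderOf_dvd_of_pow_eq_one h12)
  have h14 : Nat.gcd 3 (q ^ k) = 1 := Nat.Coprime.pow_right _ ((Nat.coprime_primes Nat.prime_three hq.out).2 hq3.symm)
  rw [h14, Nat.dvd_one, orderOf_eq_one_iff] at h13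
  exact h13

/-- an element of `C_D(R)` with `F d ^ m = 1`: a power of it in `C(z)` -/
theorem Hyp.lift (H : Hyp z f N F) (hK : Ker f) {q : ℕ} [hq : Fact q.Prime] (hq3 : q ≠ 3) {R : Subgroup D}
    (hR : IsPGroup q ↥R) (hRN : R ≤ N) (hR1 : R ≠ ⊥) {d : D} (hd : d ∈ centralizer (R : Set D)) {m : ℕ}
    (hm : F d ^ m = 1) : ∃ c : ↥(centralizer ({z} : Set D)), c ^ m = 1 ∧ f c = F d ^ 3 := by
  have hN := H.nor
  obtain ⟨n, hn, c, hdc⟩ := H.dec d
  have h1 : d ^ m ∈ N := by
    rcases H.of_F (d := d ^ m) (by rw [map_pow, hm]) with h | ⟨n', hn', h⟩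
    · exact h
    · exact absurd (H.not_cent hK hq3 hR hRN hn' h (pow_mem hd m)) hR1
  have h2 : (c : D) ^ m ∈ N := by
    have h3 : (QuotientGroup.mk' N) (d ^ m) = 1 := (QuotientGroup.eq_one_iff _).2 h1
    rw [map_pow, hdc, map_mul, show QuotientGroup.mk' N n = 1 from (QuotientGroup.eq_one_iff _).2 hn, one_mul,
      ← map_pow] at h3
    exact (QuotientGroup.eq_one_iff _).1 h3
  have h3 : (c : D) ^ m * z = z * (c : D) ^ m :=
    ((show Commute (c : D) z from mem_centralizer_singleton_iff.1 c.2).pow_left m).eq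
  have h4 := H.cube hK h2 h3
  refine ⟨c ^ 3, ?_, ?_⟩
  · apply Subtype.ext
    show ((c : D) ^ 3) ^ m = 1
    rw [← pow_mul, mul_comm, pow_mul]
    exact h4
  · rw [map_pow, ← H.Fc, hdc, map_mul, H.FN n hn, one_mul]

/-- **`F` does not map `C_D(R)` onto `Suz`.** -/
theorem Hyp.not_top (H : Hyp z f N F) (hK : Ker f) (e : S ≃* Spor.Suz)
    (h7 : ∀ t g : ↥(centralizer ({z} : Set D)), t * t = 1 → f t ≠ 1 → g ^ 7 = 1 → g * t = t * g → g = 1)
    {q : ℕ} [hq : Fact q.Prime] (hq3 : q ≠ 3) {R : Subgroup D} (hR : IsPGroup q ↥R) (hRN : R ≤ N) (hR1 : R ≠ ⊥) :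
    (centralizer (R : Set D)).map F ≠ ⊤ := by
  intro htop
  have hfin : Finite Spor.Suz := CTwoTab.Suz.finSuz
  have : Fact (Nat.Prime 7) := ⟨by norm_num⟩
  have hd : 7 ∣ Nat.card ↥KFacts.SuzTwoB.CE := by rw [KFacts.SuzTwoB.card_CE]; norm_num
  obtain ⟨⟨y, hyC⟩, hy⟩ := exists_prime_orderOf_dvd_card' 7 hd
  have hyo : orderOf y = 7 := by rwa [Subgroup.orderOf_mk] at hy
  have hyc : y * KFacts.SuzLFour.e0 = KFacts.SuzLFour.e0 * y := KFacts.SuzTwoB.mem_CE.1 hyC
  have he1 : KFacts.SuzLFour.e0 ≠ 1 := by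
    intro h
    have h1 := KFacts.SuzTwoB.card_CE
    have h2 : KFacts.SuzTwoB.CE = ⊤ := by
      rw [eq_top_iff]
      intro g _
      rw [KFacts.SuzTwoB.mem_CE, h, one_mul, mul_one]
    have h3 := Cfsg.Agent.S1694.result.2
    rw [h2, card_top] at h1
    rw [h1] at h3
    norm_num at h3
  obtain ⟨d1, hd1, hF1⟩ : e.symm KFacts.SuzLFour.e0 ∈ (centralizer (R : Set D)).map F := by rw [htop]; trivial
  obtain ⟨d7, hd7, hF7⟩ : e.symm y ∈ (centralizer (R : Set D)).map F := by rw [htop]; trivial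
  obtain ⟨t, ht, hft⟩ := H.lift hK hq3 hR hRN hR1 hd1 (m := 2) (by
    rw [hF1, ← map_pow, pow_two, KFacts.SuzLFour.e0_sq, map_one])
  obtain ⟨g, hg, hfg⟩ := H.lift hK hq3 hR hRN hR1 hd7 (m := 7) (by
    rw [hF7, ← map_pow, ← hyo, pow_orderOf_eq_one, map_one])
  have he3 : KFacts.SuzLFour.e0 ^ 3 = KFacts.SuzLFour.e0 := by
    rw [pow_succ, pow_two, KFacts.SuzLFour.e0_sq, one_mul]
  rw [hF1, ← map_pow, he3] at hft
  rw [hF7, ← map_pow] at hfg
  have htt : t * t = 1 := by rw [← pow_two]; exact ht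
  have hft1 : f t ≠ 1 := by
    rw [hft]
    intro h
    exact he1 (e.symm.injective (by rw [h, map_one]))
  have hcomm : f g * f t = f t * f g := by
    rw [hfg, hft, ← map_mul, ← map_mul]
    congr 1
    exact (show Commute y KFacts.SuzLFour.e0 from hyc).pow_left 3
  have hsq := comm_sq f hK H.zz htt hcomm
  have hgt : g * t = t * g := by
    have h1 : Commute (g * g) t := hsq
    have h2 := (h1.pow_left 4).eq
    have h3 : (g * g) ^ 4 = g := by
      rw [← pow_two, ← pow_mul]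
      calc g ^ (2 * 4) = g ^ 7 * g := by rw [← pow_succ]
        _ = g := by rw [hg, one_mul]
    rw [h3] at h2
    exact h2
  have hg1 := h7 t g htt hft1 hg hgt
  rw [hg1, map_one] at hfg
  have h8 : y ^ 3 = 1 := e.symm.injective (by rw [← hfg, map_one])
  have h9 := orderOf_dvd_of_pow_eq_one h8
  rw [hyo] at h9
  norm_num at h9

/-- counting fixed points -/
theorem modEq_of_act {A : Type*} [Group A] {r q k : ℕ} [hr : Fact r.Prime] [hq : Fact q.Prime] (hrq : r ≠ q)
    (hA : IsPGroup r A) (R : Type*) [Group R] [Finite R] (φ : A →* MulAut R) (hc : Nat.card R = q ^ k)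
    (hne : ∃ a x, φ a x ≠ x) : ∃ j, 1 ≤ j ∧ j ≤ k ∧ r ∣ q ^ j - 1 := by
  let _ : MulAction A R := MulAction.compHom R φ
  have h1 : Nat.card R ≡ Nat.card (MulAction.fixedPoints A R) [MOD r] := hA.card_modEq_card_fixedPoints R
  let P : Subgroup R :=
    { carrier := MulAction.fixedPoints A R
      one_mem' := fun a => (φ a).map_one
      mul_mem' := fun {x y} hx hy a => by
        show φ a (x * y) = x * y
        rw [map_mul, show φ a x = x from hx a, show φ a y = y from hy a]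
      inv_mem' := fun {x} hx a => by
        show φ a x⁻¹ = x⁻¹
        rw [map_inv, show φ a x = x from hx a] }
  have h2 : Nat.card (MulAction.fixedPoints A R) = Nat.card ↥P := rfl
  obtain ⟨i, hi, hPi⟩ := (Nat.dvd_prime_pow hq.out).1 (hc ▸ Subgroup.card_subgroup_dvd_card P)
  have hik : i ≠ k := by
    rintro rfl
    obtain ⟨a, x, hax⟩ := hne
    apply hax
    have h3 : P = ⊤ := Subgroup.eq_top_of_card_eq P (by rw [hPi, hc])
    have h4 : x ∈ P := by rw [h3]; trivial
    exact h4 a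
  refine ⟨k - i, by omega, by omega, ?_⟩
  rw [h2, hPi, hc] at h1
  have h3 : r ∣ q ^ k - q ^ i := (Nat.modEq_iff_dvd' (Nat.pow_le_pow_right hq.out.pos hi)).1 h1.symm
  have h4 : q ^ k - q ^ i = q ^ i * (q ^ (k - i) - 1) := by
    rw [Nat.mul_sub, mul_one, ← pow_add, Nat.add_sub_cancel' hi]
  rw [h4] at h3
  rcases hr.out.dvd_mul.1 h3 with h5 | h5
  · exact absurd ((Nat.prime_dvd_prime_iff_eq hr.out hq.out).1 (hr.out.dvd_of_dvd_pow h5)) hrq
  · exact h5

/-- **The prime divisors of `|N|`.** -/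
theorem Hyp.prime (H : Hyp z f N F) (hK : Ker f) (hf : Function.Surjective f) (e : S ≃* Spor.Suz)
    (h7 : ∀ t g : ↥(centralizer ({z} : Set D)), t * t = 1 → f t ≠ 1 → g ^ 7 = 1 → g * t = t * g → g = 1)
    {q : ℕ} (hq : q.Prime) (hq3 : q ≠ 3) (hqN : q ∣ Nat.card ↥N) : ∃ k, q ^ k ∣ Nat.card ↥N ∧
      ∀ r : ℕ, r.Prime → r ≠ q → r ∣ Nat.card Spor.Suz → ∃ j, 1 ≤ j ∧ j ≤ k ∧ r ∣ q ^ j - 1 := by
  have hN := H.nor
  have : Fact q.Prime := ⟨hq⟩
  have hfin : Finite Spor.Suz := CTwoTab.Suz.finSuz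
  have hfS : Finite S := Finite.of_equiv _ e.symm.toEquiv
  have hSuz : IsSimpleGroup Spor.Suz := Cfsg.Agent.S1694.result.1
  have hS : IsSimpleGroup S := (MulEquiv.isSimpleGroup_congr e).2 hSuz
  obtain ⟨P⟩ : Nonempty (Sylow q ↥N) := inferInstance
  let R : Subgroup D := (P : Subgroup ↥N).map N.subtype
  have hfrat : normalizer (R : Set D) ⊔ N = ⊤ := Sylow.normalizer_sup_eq_top P
  have hRN : R ≤ N := map_subtype_le _
  have hRq : IsPGroup q ↥R := P.isPGroup'.map _
  obtain ⟨k, hk⟩ := IsPGroup.iff_card.1 hRq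
  have hkN : q ^ k ∣ Nat.card ↥N := by rw [← hk]; exact card_dvd_of_le hRN
  have hR1 : R ≠ ⊥ := by
    intro h
    have h1 : (P : Subgroup ↥N) = ⊥ := (Subgroup.map_eq_bot_iff_of_injective _ N.subtype_injective).1 h
    have h2 := P.dvd_card_of_dvd_card hqN
    rw [h1, card_bot] at h2
    exact hq.one_lt.ne' (Nat.dvd_one.1 h2)
  refine ⟨k, hkN, fun r hr hrq hrS => ?_⟩
  have : Fact r.Prime := ⟨hr⟩
  -- `F` maps the normalizer onto `S`
  have hFn : (normalizer (R : Set D)).map F = ⊤ := by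
    have h1 : (normalizer (R : Set D) ⊔ N).map F = ⊤ := by
      rw [hfrat, ← MonoidHom.range_eq_map, MonoidHom.range_eq_top]
      intro s
      obtain ⟨c, rfl⟩ := hf s
      exact ⟨c, H.Fc c⟩
    rw [Subgroup.map_sup] at h1
    have h2 : N.map F = ⊥ := by
      rw [eq_bot_iff]
      rintro _ ⟨n, hn, rfl⟩
      exact H.FN n hn
    rwa [h2, sup_bot_eq] at h1
  have hFc : (centralizer (R : Set D)).map F = ⊥ := by
    have h1 : ((centralizer (R : Set D)).map F).Normal := by
      refine ⟨?_⟩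
      rintro _ ⟨c, hc, rfl⟩ s
      obtain ⟨g, hg, rfl⟩ : s ∈ (normalizer (R : Set D)).map F := by rw [hFn]; trivial
      refine ⟨g * c * g⁻¹, ?_, by rw [map_mul, map_mul, map_inv]⟩
      rw [SetLike.mem_coe, mem_centralizer_iff]
      intro x hx
      have h2 : g⁻¹ * x * g ∈ R := by
        have := (mem_normalizer_iff.1 (inv_mem hg) x).1 hx
        rwa [inv_inv] at this
      have h3 : (g⁻¹ * x * g) * c = c * (g⁻¹ * x * g) := mem_centralizer_iff.1 hc _ h2
      calc x * (g * c * g⁻¹) = g * ((g⁻¹ * x * g) * c) * g⁻¹ := by group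
        _ = g * (c * (g⁻¹ * x * g)) * g⁻¹ := by rw [h3]
        _ = g * c * g⁻¹ * x := by group
    rcases h1.eq_bot_or_eq_top with h | h
    · exact h
    · exact absurd h (H.not_top hK e h7 hq3 hRq hRN hR1)
  -- an element of order `r`
  obtain ⟨s, hs⟩ := exists_prime_orderOf_dvd_card' (G := S) r (by rw [Nat.card_congr e.toEquiv]; exact hrS)
  obtain ⟨g, hg, hgs⟩ : s ∈ (normalizer (R : Set D)).map F := by rw [hFn]; trivial
  obtain ⟨a, m, hm, hgo⟩ : ∃ a m : ℕ, ¬ r ∣ m ∧ orderOf g = r ^ a * m :=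
    Nat.exists_eq_pow_mul_and_not_dvd (orderOf_pos g).ne' r hr.ne_one
  let g' : ↥(normalizer (R : Set D)) := ⟨g ^ m, pow_mem hg m⟩
  have hg' : g' ^ r ^ a = 1 := by
    apply Subtype.ext
    show (g ^ m) ^ r ^ a = 1
    rw [← pow_mul, mul_comm, ← hgo, pow_orderOf_eq_one]
  have hA : IsPGroup r ↥(zpowers g') := by
    intro x
    obtain ⟨i, hi⟩ := x.2
    refine ⟨a, Subtype.ext ?_⟩
    show (x : ↥(normalizer (R : Set D))) ^ r ^ a = 1
    have hi' : g' ^ i = (x : ↥(normalizer (R : Set D))) := hi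
    rw [← hi', ← zpow_natCast, ← zpow_mul, mul_comm, zpow_mul, zpow_natCast, hg', one_zpow]
  refine modEq_of_act hrq hA ↥R (R.normalizerMonoidHom.comp (zpowers g').subtype) hk ?_
  by_contra hcon
  push Not at hcon
  have h1 : g ^ m ∈ centralizer (R : Set D) := by
    rw [mem_centralizer_iff]
    intro x hx
    have h2 := congrArg Subtype.val (hcon ⟨g', mem_zpowers g'⟩ ⟨x, hx⟩)
    have h3 : g ^ m * x * (g ^ m)⁻¹ = x := h2
    rw [mul_inv_eq_iff_eq_mul] at h3
    exact h3.symm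
  have h2 : F (g ^ m) = 1 := by
    have : F (g ^ m) ∈ (centralizer (R : Set D)).map F := ⟨_, h1, rfl⟩
    rw [hFc] at this
    exact this
  rw [map_pow, hgs] at h2
  have h3 := orderOf_dvd_of_pow_eq_one h2
  rw [hs] at h3
  exact hm h3

theorem mem_primes {q : ℕ} (hq : q.Prime) (h : q ∣ 808017424794512875886459904961710757005754368000000000) :
    q ∈ [2, 3, 5, 7, 11, 13, 17, 19, 23, 29, 31, 41, 47, 59, 71] := by
  have key : q ∣ 2 ^ 46 * 3 ^ 20 * 5 ^ 9 * 7 ^ 6 * 11 ^ 2 * 13 ^ 3 * 17 * 19 * 23 * 29 * 31 * 41 * 47 * 59 * 71 := by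
    norm_num
    exact h
  have e : ∀ {p k : ℕ}, p.Prime → q ∣ p ^ k → q = p := fun hp hk =>
    (Nat.prime_dvd_prime_iff_eq hq hp).1 (hq.dvd_of_dvd_pow hk)
  have e1 : ∀ {p : ℕ}, p.Prime → q ∣ p → q = p := fun hp hk => (Nat.prime_dvd_prime_iff_eq hq hp).1 hk
  simp only [hq.dvd_mul] at key
  simp only [List.mem_cons, List.not_mem_nil, or_false]
  rcases key with (((((((((((((h | h) | h) | h) | h) | h) | h) | h) | h) | h) | h) | h) | h) | h) | h
  · exact Or.inl (e (by norm_num) h)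
  · have := e (by norm_num) h; tauto
  · have := e (by norm_num) h; tauto
  · have := e (by norm_num) h; tauto
  · have := e (by norm_num) h; tauto
  · have := e (by norm_num) h; tauto
  · have := e1 (by norm_num) h; tauto
  · have := e1 (by norm_num) h; tauto
  · have := e1 (by norm_num) h; tauto
  · have := e1 (by norm_num) h; tauto
  · have := e1 (by norm_num) h; tauto
  · have := e1 (by norm_num) h; tauto
  · have := e1 (by norm_num) h; tauto
  · have := e1 (by norm_num) h; tauto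
  · have := e1 (by norm_num) h; tauto

/-- the numbers -/
theorem num {q k : ℕ} (hq : q ∈ [7, 11, 13, 17, 19, 23, 29, 31, 41, 47, 59, 71])
    (hk : q ^ k * 448345497600 ∣ 808017424794512875886459904961710757005754368000000000)
    (h11 : q ≠ 11 → ∃ j, 1 ≤ j ∧ j ≤ k ∧ 11 ∣ q ^ j - 1) (h13 : q ≠ 13 → ∃ j, 1 ≤ j ∧ j ≤ k ∧ 13 ∣ q ^ j - 1) :
    False := by
  have bd : ∀ b : ℕ, ¬ q ^ (b + 1) * 448345497600 ∣ 808017424794512875886459904961710757005754368000000000 → k ≤ b := by
    intro b hb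
    by_contra hcon
    exact hb ((Nat.mul_dvd_mul_right (pow_dvd_pow q (by omega : b + 1 ≤ k)) _).trans hk)
  simp only [List.mem_cons, List.not_mem_nil, or_false] at hq
  rcases hq with rfl | rfl | rfl | rfl | rfl | rfl | rfl | rfl | rfl | rfl | rfl | rfl
  · have h1 := bd 5 (by norm_num)
    obtain ⟨j, h2, h3, h4⟩ := h11 (by norm_num)
    have h5 : j ≤ 5 := h3.trans h1
    interval_cases j <;> norm_num at h4
  · have h1 := bd 1 (by norm_num)
    obtain ⟨j, h2, h3, h4⟩ := h13 (by norm_num)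
    have h5 : j ≤ 1 := h3.trans h1
    interval_cases j; norm_num at h4
  · have h1 := bd 2 (by norm_num)
    obtain ⟨j, h2, h3, h4⟩ := h11 (by norm_num)
    have h5 : j ≤ 2 := h3.trans h1
    interval_cases j <;> norm_num at h4
  · have h1 := bd 1 (by norm_num)
    obtain ⟨j, h2, h3, h4⟩ := h11 (by norm_num)
    have h5 : j ≤ 1 := h3.trans h1
    interval_cases j; norm_num at h4
  · have h1 := bd 1 (by norm_num)
    obtain ⟨j, h2, h3, h4⟩ := h11 (by norm_num)
    have h5 : j ≤ 1 := h3.trans h1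
    interval_cases j; norm_num at h4
  · have h1 := bd 1 (by norm_num)
    obtain ⟨j, h2, h3, h4⟩ := h13 (by norm_num)
    have h5 : j ≤ 1 := h3.trans h1
    interval_cases j; norm_num at h4
  · have h1 := bd 1 (by norm_num)
    obtain ⟨j, h2, h3, h4⟩ := h11 (by norm_num)
    have h5 : j ≤ 1 := h3.trans h1
    interval_cases j; norm_num at h4
  · have h1 := bd 1 (by norm_num)
    obtain ⟨j, h2, h3, h4⟩ := h11 (by norm_num)
    have h5 : j ≤ 1 := h3.trans h1
    interval_cases j; norm_num at h4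
  · have h1 := bd 1 (by norm_num)
    obtain ⟨j, h2, h3, h4⟩ := h11 (by norm_num)
    have h5 : j ≤ 1 := h3.trans h1
    interval_cases j; norm_num at h4
  · have h1 := bd 1 (by norm_num)
    obtain ⟨j, h2, h3, h4⟩ := h11 (by norm_num)
    have h5 : j ≤ 1 := h3.trans h1
    interval_cases j; norm_num at h4
  · have h1 := bd 1 (by norm_num)
    obtain ⟨j, h2, h3, h4⟩ := h11 (by norm_num)
    have h5 : j ≤ 1 := h3.trans h1
    interval_cases j; norm_num at h4
  · have h1 := bd 1 (by norm_num)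
    obtain ⟨j, h2, h3, h4⟩ := h11 (by norm_num)
    have h5 : j ≤ 1 := h3.trans h1
    interval_cases j; norm_num at h4

/-- **`|N|` is a `{3, 5}`-number.** -/
theorem Hyp.primes (H : Hyp z f N F) (hK : Ker f) (hf : Function.Surjective f) (e : S ≃* Spor.Suz)
    (h7 : ∀ t g : ↥(centralizer ({z} : Set D)), t * t = 1 → f t ≠ 1 → g ^ 7 = 1 → g * t = t * g → g = 1)
    (hD : Nat.card D ∣ 808017424794512875886459904961710757005754368000000000) {q : ℕ} (hq : q.Prime)
    (hqN : q ∣ Nat.card ↥N) : q = 3 ∨ q = 5 := by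
  by_contra hcon
  push Not at hcon
  have hSuz : Nat.card Spor.Suz = 448345497600 := Cfsg.Agent.S1694.result.2
  have h1 : Nat.card ↥N * 448345497600 ∣ Nat.card D := by
    have h2 : Function.Surjective F := fun s => by
      obtain ⟨c, rfl⟩ := hf s
      exact ⟨c, H.Fc c⟩
    rw [← F.ker.card_mul_index, Subgroup.index_ker, MonoidHom.range_eq_top.2 h2, card_top,
      Nat.card_congr e.toEquiv, hSuz]
    exact Nat.mul_dvd_mul_right (card_dvd_of_le fun n hn => H.FN n hn) _
  obtain ⟨k, hk, hr⟩ := H.prime hK hf e h7 hq hcon.1 hqN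
  have hmem := mem_primes hq (hqN.trans ((Dvd.intro _ rfl).trans (h1.trans hD)))
  have hq2 : q ≠ 2 := by
    rintro rfl
    exact (Nat.not_even_iff_odd.2 H.odd) (even_iff_two_dvd.2 hqN)
  refine num (q := q) (k := k) ?_ ((Nat.mul_dvd_mul_right hk _).trans (h1.trans hD)) (fun h => hr 11 (by norm_num) h.symm ?_)
    (fun h => hr 13 (by norm_num) h.symm ?_)
  · simp only [List.mem_cons, List.not_mem_nil, or_false] at hmem ⊢
    tauto
  · rw [hSuz]; norm_num
  · rw [hSuz]; norm_num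

/-- the order of the centralizer of an element, transport -/
theorem card_cent_equiv {A B : Type*} [Group A] [Group B] (e : A ≃* B) (a : A) :
    Nat.card ↥(centralizer ({a} : Set A)) = Nat.card ↥(centralizer ({e a} : Set B)) :=
  Cfsg.Agent.LThreeB.card_centralizer_congr e a

/-- the image of `C(t)` in `C(z0) / O_2` -/
theorem dvd_image (f : ↥(centralizer ({z} : Set D)) →* S) (hf : Function.Surjective f) (hK : Ker f) (hz2 : z * z = 1)
    (e : S ≃* Spor.Suz) {t : ↥(centralizer ({z} : Set D))} (htt : t * t = 1) (hc : e (f t) = SuzThree.CentA.z0) :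
    25920 ∣ Nat.card ↥((centralizer ({t} : Set ↥(centralizer ({z} : Set D)))).map f) := by
  have hfin : Finite Spor.Suz := CTwoTab.Suz.finSuz
  have hfS : Finite S := Finite.of_equiv _ e.symm.toEquiv
  have hsur := G1_surj f hf hK hz2 e htt hc
  rw [← card_map_of_injective (f := e.toMonoidHom) e.injective]
  generalize hB : ((centralizer ({t} : Set ↥(centralizer ({z} : Set D)))).map f).map e.toMonoidHom = B
  have hle : B ≤ SuzThree.CentA.C1 := by
    rw [← hB]
    rintro _ ⟨_, ⟨g, hg, rfl⟩, rfl⟩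
    rw [SuzThree.CentA.mem_C1, ← hc]
    show e (f g) * e (f t) = e (f t) * e (f g)
    rw [← map_mul, ← map_mul, ← map_mul, ← map_mul, mem_centralizer_singleton_iff.1 hg]
  have hmem : ∀ g : ↥(centralizer ({t} : Set ↥(centralizer ({z} : Set D)))), e (f g) ∈ B := fun g => by
    rw [← hB]
    exact ⟨f g, ⟨g, g.2, rfl⟩, rfl⟩
  let κ : ↥B → LThreeBX.SuzQ.SU := fun b => QuotientGroup.mk (⟨(b : Spor.Suz), hle b.2⟩ : ↥SuzThree.CentA.C1)
  let κ' : ↥B →* LThreeBX.SuzQ.SU := MonoidHom.mk' κ (fun _ _ => rfl)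
  have h1 : Function.Surjective κ' := by
    intro s
    obtain ⟨g, rfl⟩ := hsur s
    exact ⟨⟨e (f g), hmem g⟩, rfl⟩
  rw [← LThreeBX.SuzQ.card_SU]
  exact Subgroup.card_dvd_of_surjective κ' h1

/-- **The centralizer of an involution commuting with `z`.** -/
theorem Hyp.card_cent (H : Hyp z f N F) (hK : Ker f) (hf : Function.Surjective f) (e : S ≃* Spor.Suz)
    (h7 : ∀ t g : ↥(centralizer ({z} : Set D)), t * t = 1 → f t ≠ 1 → g ^ 7 = 1 → g * t = t * g → g = 1)
    (hD : Nat.card D ∣ 808017424794512875886459904961710757005754368000000000)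
    {t : ↥(centralizer ({z} : Set D))} (htt : t * t = 1) (ht1 : f t ≠ 1)
    (hT : Nat.card ↥(centralizer ({(t : D)} : Set D)) ∣ 8309562962452852382355161088000000) :
    Nat.card ↥(centralizer ({(t : D)} : Set D)) ≤ 408146688000000 := by
  have hN := H.nor
  have hfin : Finite Spor.Suz := CTwoTab.Suz.finSuz
  have hfS : Finite S := Finite.of_equiv _ e.symm.toEquiv
  -- the class of `f t`
  obtain ⟨e', he'⟩ : ∃ e' : S ≃* Spor.Suz, e' (f t) = SuzThree.CentA.z0 := by
    rcases CTwoTab.Suz.classes (t := e (f t)) (by rw [← map_mul, ← map_mul, htt, map_one, map_one])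
      (fun h => ht1 (e.injective (by rw [h, map_one]))) with h | h
    · obtain ⟨c, hc⟩ := isConj_iff.1 h
      refine ⟨e.trans (MulAut.conj c⁻¹), ?_⟩
      show c⁻¹ * e (f t) * c⁻¹⁻¹ = _
      rw [← hc]
      group
    · exact (not_e0 f hf hK H.zz e htt (fun g hg hgt => h7 t g htt ht1 hg hgt) h).elim
  have hcS : Nat.card ↥(centralizer ({f t} : Set S)) = 3317760 := by
    rw [card_cent_equiv e', he']
    exact KFacts.SuzCent.card_C1
  set T := centralizer ({(t : D)} : Set D) with hTdef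
  let ψ : ↥T →* S := F.comp T.subtype
  have hcard : Nat.card ↥T = Nat.card ↥ψ.ker * Nat.card ↥ψ.range := by
    rw [← ψ.ker.card_mul_index, Subgroup.index_ker]
  have hran : Nat.card ↥ψ.range ≤ 3317760 := by
    rw [← hcS]
    refine card_le_of_le ?_
    rintro _ ⟨d, rfl⟩
    rw [mem_centralizer_singleton_iff, ← H.Fc]
    show F d * F t = F t * F d
    rw [← map_mul, ← map_mul, mem_centralizer_singleton_iff.1 d.2]
  have hzT : z ∈ T := mem_centralizer_singleton_iff.2 (mem_centralizer_singleton_iff.1 t.2).symm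
  have hker : Nat.card ↥ψ.ker ≤ Nat.card ↥(N ⊓ T) * 2 := by
    classical
    have h1 : Nat.card (↥(N ⊓ T) × Bool) = Nat.card ↥(N ⊓ T) * 2 := by
      rw [Nat.card_prod, Nat.card_eq_fintype_card (α := Bool), Fintype.card_bool]
    rw [← h1]
    have hF : ∀ d : ↥ψ.ker, F ((d : ↥T) : D) = 1 := fun d => d.2
    refine Nat.card_le_card_of_injective (fun d : ↥ψ.ker =>
      if h : ((d : ↥T) : D) ∈ N then (⟨((d : ↥T) : D), mem_inf.2 ⟨h, (d : ↥T).2⟩⟩, false)
      else (⟨((d : ↥T) : D) * z, mem_inf.2 ⟨by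
        rcases H.of_F (hF d) with h1 | ⟨n, hn, h1⟩
        · exact absurd h1 h
        · rw [h1, mul_assoc, H.zz, mul_one]; exact hn, mul_mem (d : ↥T).2 hzT⟩⟩, true)) ?_
    intro a b hab
    dsimp only at hab
    by_cases ha : ((a : ↥T) : D) ∈ N <;> by_cases hb : ((b : ↥T) : D) ∈ N
    · rw [dif_pos ha, dif_pos hb] at hab
      have h2 := congrArg (fun x => ((x.1 : ↥(N ⊓ T)) : D)) hab
      exact Subtype.ext (Subtype.ext h2)
    · rw [dif_pos ha, dif_neg hb] at hab
      have h2 := congrArg (fun x => x.2) hab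
      simp at h2
    · rw [dif_neg ha, dif_pos hb] at hab
      have h2 := congrArg (fun x => x.2) hab
      simp at h2
    · rw [dif_neg ha, dif_neg hb] at hab
      have h2 := congrArg (fun x => ((x.1 : ↥(N ⊓ T)) : D)) hab
      exact Subtype.ext (Subtype.ext (mul_right_cancel h2))
  -- divisibility
  have hd1 : Nat.card ↥(N ⊓ T) ∣ Nat.card ↥ψ.ker := by
    let j : ↥(N ⊓ T) →* ↥ψ.ker := (Subgroup.inclusion (inf_le_right : N ⊓ T ≤ T)).codRestrict ψ.ker (fun x =>
      H.FN _ (mem_inf.1 x.2).1)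
    have hj : Function.Injective j := by
      intro a b hab
      have h1 : ((a : ↥(N ⊓ T)) : D) = b := congrArg (fun x : ↥ψ.ker => ((x : ↥T) : D)) hab
      exact Subtype.ext h1
    exact Subgroup.card_dvd_of_injective j hj
  have hd2 : 25920 ∣ Nat.card ↥ψ.range := by
    refine (dvd_image f hf hK H.zz e' htt he').trans (card_dvd_of_le ?_)
    rintro _ ⟨g, hg, rfl⟩
    exact ⟨⟨(g : D), mem_centralizer_singleton_iff.2 (congrArg Subtype.val (mem_centralizer_singleton_iff.1 hg))⟩, H.Fc g⟩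
  have hd3 : Nat.card ↥(N ⊓ T) * 25920 ∣ 8309562962452852382355161088000000 := by
    refine (Nat.mul_dvd_mul hd1 hd2).trans ?_
    rw [← hcard]; exact hT
  have hn : Nat.card ↥(N ⊓ T) ∣ 61509375 := by
    have h1 : Nat.card ↥(N ⊓ T) ∣ 61509375 * 5211969571067376173056 := by
      refine Nat.dvd_of_mul_dvd_mul_right (k := 25920) (by norm_num) (hd3.trans ?_)
      norm_num
    refine Nat.Coprime.dvd_of_dvd_mul_right ?_ h1
    rw [Nat.coprime_iff_gcd_eq_one]
    by_contra hne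
    obtain ⟨p, hp, hpd⟩ := Nat.exists_prime_and_dvd hne
    have h2 := hpd.trans (Nat.gcd_dvd_left _ _)
    have h3 := hpd.trans (Nat.gcd_dvd_right _ _)
    rcases H.primes hK hf e h7 hD hp (h2.trans (card_dvd_of_le inf_le_left)) with rfl | rfl
    · norm_num at h3
    · norm_num at h3
  have hle : Nat.card ↥(N ⊓ T) ≤ 61509375 := Nat.le_of_dvd (by norm_num) hn
  rw [hcard]
  calc Nat.card ↥ψ.ker * Nat.card ↥ψ.range ≤ (Nat.card ↥(N ⊓ T) * 2) * 3317760 := Nat.mul_le_mul hker hran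
    _ ≤ (61509375 * 2) * 3317760 := by gcongr
    _ = 408146688000000 := by norm_num

end Cfsg.Agent.H740.OreM.Abs
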