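import Cfsg.Agent.H740.OreM.Cases

/-!
# The situation `Rad`, `p = 3`: centralizers of the 3-elements outside `N` (helper740)

* `exists_move` : a `3`-element outside `N` does not centralize `N / ⟨x⟩`;
* `card_CN` : if moreover `g` is conjugate under `N` to all `g x ^ j` then `|C_N(g)|` divides `3 ^ 11`;
* `card_cent` : `6 |C_D(g)| ≤ 2 * 3 ^ 11 |A|`, `card_three` : `3`-subgroups of `C_D(g)`.
-/

set_option autoImplicit false
set_option linter.unusedSectionVars false

namespace Cfsg.Agent.H740.OreM.Bd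

open Subgroup Cfsg Cfsg.Agent.BpSpor.M5 Cfsg.Agent.H740.OreM.Dich Cfsg.Agent.H740.OreM.Lift

universe u v

variable {D : Type u} [Group D] [Finite D] {z x : D} {N : Subgroup D} {A : Type v} [Group A]
    {f : ↥(centralizer ({z} : Set D)) →* A}

/-- a `3`-element outside `N` acts non-trivially on `N / ⟨x⟩` -/
theorem exists_move [IsSimpleGroup A] (h : Rad 3 z x N f) (hns : ¬ Group.IsSolvable A)
    {k : ↥(centralizer ({z} : Set D))} (hk : (k : D) * k = z) (hN : Nat.card ↥N = 3 ^ 13) {g : D} {e : ℕ}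
    (hg : g ^ 3 ^ e = 1) (hgN : g ∉ N) : ∃ m ∈ N, ∀ i : ℤ, m * g * m⁻¹ ≠ g * x ^ i := by
  have hp : Fact (Nat.Prime 3) := ⟨Nat.prime_three⟩
  have hp2 : (3 : ℕ) ≠ 2 := by norm_num
  have hNn := h.nN
  by_contra hcon
  push Not at hcon
  obtain ⟨n, hn, c, ⟨j, hj⟩, hgc⟩ := exists_three h hg
  have hcz := mem_centralizer_singleton_iff.1 c.2
  -- `c` centralizes `N`
  have hcN : ∀ m ∈ N, (c : D) * m = m * c := by
    intro m hm
    obtain ⟨i, hi⟩ := hcon m hm
    obtain ⟨i', hi'⟩ := h.comm hp2 hm hn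
    have h1 : m * (c : D) * m⁻¹ = c * x ^ (i - i') := by
      rw [hgc] at hi
      have h2 : m * (n * (c : D)) * m⁻¹ = (m * n * m⁻¹) * (m * c * m⁻¹) := by group
      rw [h2, hi'] at hi
      have h3 : m * (c : D) * m⁻¹ = (n * x ^ i')⁻¹ * (n * c * x ^ i) := by rw [← hi]; group
      rw [h3, zpow_sub]
      calc (n * x ^ i')⁻¹ * (n * c * x ^ i) = (x ^ i')⁻¹ * (c * x ^ i) := by group
        _ = x ^ (-i') * (c * x ^ i) := by rw [zpow_neg]
        _ = (c * x ^ i) * x ^ (-i') := (h.xzc _ _).symm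
        _ = _ := by rw [zpow_neg]; group
    have h2 : (c : D) * m * (c : D)⁻¹ = m * x ^ (-(i - i')) := by
      calc (c : D) * m * (c : D)⁻¹ = (m * c * m⁻¹ * (x ^ (i - i'))⁻¹) * m * (c : D)⁻¹ := by rw [h1]; group
        _ = m * c * m⁻¹ * (x ^ (-(i - i')) * (m * (c : D)⁻¹)) := by rw [zpow_neg]; group
        _ = m * c * m⁻¹ * ((m * (c : D)⁻¹) * x ^ (-(i - i'))) := by rw [h.xzc]
        _ = _ := by group
    have h3 := h.cent_of_z hp2 hm hcz h2
    rw [h3, mul_one, mul_inv_eq_iff_eq_mul] at h2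
    exact h2
  set C := centralizer (N : Set D) with hC
  have hCn : C.Normal := inferInstance
  have hcC : (c : D) ∈ C := mem_centralizer_iff.2 fun m hm => (hcN m hm).symm
  have hCs : Group.IsSolvable ↥C := by
    by_contra hCs
    obtain ⟨c', hc', n', hn', hz⟩ := h.z_mem_sup hp2 hk C hCs
    have h1 : ∀ m ∈ N, m ∈ zpowers x := by
      intro m hm
      obtain ⟨i, hi⟩ := h.comm hp2 hn' hm
      have h2 : z * m * z⁻¹ = m * x ^ i := by
        rw [hz]
        calc c' * n' * m * (c' * n')⁻¹ = c' * (n' * m * n'⁻¹) * c'⁻¹ := by group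
          _ = c' * (m * x ^ i) * c'⁻¹ := by rw [hi]
          _ = (m * x ^ i) * c' * c'⁻¹ := by
            rw [mem_centralizer_iff.1 hc' (m * x ^ i) (N.mul_mem hm (N.zpow_mem h.xN i))]
          _ = _ := by group
      have h3 := h.cent_of_z hp2 hm rfl h2
      rw [h3, mul_one, mul_inv_eq_iff_eq_mul] at h2
      exact h.cN m hm h2.symm
    have h2 := card_dvd_of_le (show N ≤ zpowers x from h1)
    rw [Nat.card_zpowers, h.ox, hN] at h2
    norm_num at h2
  have h1 : ((C.subgroupOf (centralizer ({z} : Set D))).map f).Normal :=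
    (inferInstance : (C.subgroupOf (centralizer ({z} : Set D))).Normal).map f h.surj
  rcases h1.eq_bot_or_eq_top with h2 | h2
  · have h3 : f c ∈ (C.subgroupOf (centralizer ({z} : Set D))).map f := mem_map_of_mem f (mem_subgroupOf.2 hcC)
    rw [h2, mem_bot] at h3
    obtain ⟨i, hi⟩ := ker_three h h3 (k := j) (by
      have : ((c ^ 3 ^ j : ↥(centralizer ({z} : Set D))) : D) = 1 := by rw [hj]; rfl
      exact this)
    apply hgN
    rw [hgc, hi]
    exact N.mul_mem hn (N.zpow_mem h.xN i)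
  · apply hns
    have h3 : Group.IsSolvable ↥(C.subgroupOf (centralizer ({z} : Set D))) :=
      Group.isSolvable_of_isSolvable_injective (f := (centralizer ({z} : Set D)).subtype.subgroupComap C)
        (fun a b hab => Subtype.ext (Subtype.ext (congrArg (fun t : ↥C => (t : D)) hab)))
    have h4 : Group.IsSolvable ↥((C.subgroupOf (centralizer ({z} : Set D))).map f) :=
      Group.isSolvable_of_surjective (f.subgroupMap_surjective _)
    rw [h2] at h4
    exact Group.isSolvable_of_surjective (f := (⊤ : Subgroup A).subtype) (fun a => ⟨⟨a, trivial⟩, rfl⟩)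

/-- `|C_N(g)|` -/
theorem card_CN [IsSimpleGroup A] (h : Rad 3 z x N f) (hns : ¬ Group.IsSolvable A)
    {k : ↥(centralizer ({z} : Set D))} (hk : (k : D) * k = z) (hN : Nat.card ↥N = 3 ^ 13) {g : D} {e : ℕ}
    (hg : g ^ 3 ^ e = 1) (hgN : g ∉ N) (hsec : ∀ j : ℤ, ∃ s ∈ N, s * g * s⁻¹ = g * x ^ j) :
    Nat.card ↥(N ⊓ centralizer ({g} : Set D)) ∣ 3 ^ 11 := by
  have hp : Fact (Nat.Prime 3) := ⟨Nat.prime_three⟩
  have hNn := h.nN
  obtain ⟨m, hm, hmg⟩ := exists_move h hns hk hN hg hgN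
  have hZ : (zpowers x).Normal := h.normalZ
  set π := QuotientGroup.mk' (zpowers x) with hπ
  have hπx : ∀ i : ℤ, π (x ^ i) = 1 := fun i => (QuotientGroup.eq_one_iff _).2 (zpow_mem (mem_zpowers x) i)
  set M := N ⊓ (centralizer ({π g} : Set (D ⧸ zpowers x))).comap π with hM
  have h1 : N ⊓ centralizer ({g} : Set D) ≤ M := by
    refine inf_le_inf_left N fun a ha => ?_
    rw [mem_comap, mem_centralizer_singleton_iff, ← map_mul, ← map_mul, mem_centralizer_singleton_iff.1 ha]
  have h2 : M ≤ N := inf_le_left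
  have hlt1 : Nat.card ↥(N ⊓ centralizer ({g} : Set D)) < Nat.card ↥M := by
    refine lt_of_le_of_ne (Nat.card_le_card_of_injective _ (inclusion_injective h1)) fun hne => ?_
    have h3 : N ⊓ centralizer ({g} : Set D) = M := Subgroup.eq_of_le_of_card_ge h1 hne.ge
    obtain ⟨s, hs, hsg⟩ := hsec 1
    rw [zpow_one] at hsg
    have h4 : s ∈ M := by
      refine mem_inf.2 ⟨hs, ?_⟩
      rw [mem_comap, mem_centralizer_singleton_iff]
      have h5 : s * g = g * x * s := by rw [← hsg]; group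
      have hx1 : π x = 1 := by
        have := hπx 1
        rwa [zpow_one] at this
      rw [← map_mul, h5, map_mul, map_mul, hx1, mul_one]
    rw [← h3] at h4
    have h5 := mem_centralizer_singleton_iff.1 (mem_inf.1 h4).2
    rw [h5, mul_inv_cancel_right] at hsg
    have h6 : x = 1 := (mul_eq_left.1 hsg.symm)
    have h7 := h.ox
    rw [h6, orderOf_one] at h7
    norm_num at h7
  have hlt2 : Nat.card ↥M < Nat.card ↥N := by
    refine lt_of_le_of_ne (Nat.card_le_card_of_injective _ (inclusion_injective h2)) fun hne => ?_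
    have h3 : M = N := Subgroup.eq_of_le_of_card_ge h2 hne.ge
    rw [← h3] at hm
    have h4 := mem_centralizer_singleton_iff.1 (mem_comap.1 (mem_inf.1 hm).2)
    rw [← map_mul, ← map_mul] at h4
    have h5 : (g * m)⁻¹ * (m * g) ∈ zpowers x := QuotientGroup.eq.1 h4.symm
    obtain ⟨i, hi⟩ := mem_zpowers_iff.1 h5
    refine hmg i ?_
    calc m * g * m⁻¹ = g * m * ((g * m)⁻¹ * (m * g)) * m⁻¹ := by group
      _ = g * (m * x ^ i) * m⁻¹ := by rw [← hi]; group
      _ = g * (x ^ i * m) * m⁻¹ := by rw [h.xzc]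
      _ = _ := by group
  have d2 := card_dvd_of_le h2
  have d1 := card_dvd_of_le h1
  rw [hN] at d2 hlt2
  obtain ⟨b, hb, hbc⟩ := (Nat.dvd_prime_pow Nat.prime_three).1 d2
  rw [hbc] at d1 hlt1 hlt2
  obtain ⟨a, ha, hac⟩ := (Nat.dvd_prime_pow Nat.prime_three).1 d1
  rw [hac] at hlt1 ⊢
  have e1 := (Nat.pow_lt_pow_iff_right (by norm_num : 1 < 3)).1 hlt1
  have e2 := (Nat.pow_lt_pow_iff_right (by norm_num : 1 < 3)).1 hlt2
  exact pow_dvd_pow 3 (by omega)

/-- a proper subgroup of a simple group of order more than `5!` has index at least 6 -/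
theorem six_le_index {A : Type v} [Group A] [Finite A] [IsSimpleGroup A] (hA : 120 < Nat.card A) {H : Subgroup A}
    (hH : H ≠ ⊤) : 6 ≤ H.index := by
  classical
  by_contra hcon
  have h5 : H.index ≤ 5 := by omega
  have h1 : H.normalCore ≤ H := H.normalCore_le
  rcases (inferInstance : H.normalCore.Normal).eq_bot_or_eq_top with h2 | h2
  · have h3 : Function.Injective (MulAction.toPermHom A (A ⧸ H)) := by
      rw [← MonoidHom.ker_eq_bot_iff, ← Subgroup.normalCore_eq_ker, h2]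
    have h4 := Nat.card_le_card_of_injective _ h3
    have : Fintype (A ⧸ H) := Fintype.ofFinite _
    rw [Nat.card_perm, ← Subgroup.index] at h4
    have h6 := Nat.factorial_le h5
    have h7 : Nat.factorial 5 = 120 := rfl
    omega
  · apply hH
    rw [h2] at h1
    exact top_le_iff.1 h1

/-- `|C_D(g)| ≤ |C_N(g)| |C_{D/N}(g)|` -/
theorem card_cent_dvd (hN : N.Normal) (g : D) (T : Subgroup D) (hT : T ≤ centralizer ({g} : Set D)) :
    ∃ B : Subgroup (D ⧸ N), B ≤ centralizer ({QuotientGroup.mk' N g} : Set (D ⧸ N)) ∧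
      Nat.card ↥T = Nat.card ↥B * Nat.card ↥(N ⊓ T) := by
  let φ : ↥T →* D ⧸ N := (QuotientGroup.mk' N).comp T.subtype
  refine ⟨φ.range, ?_, ?_⟩
  · rintro _ ⟨t, rfl⟩
    rw [mem_centralizer_singleton_iff]
    show QuotientGroup.mk' N (t : D) * QuotientGroup.mk' N g = QuotientGroup.mk' N g * QuotientGroup.mk' N (t : D)
    rw [← map_mul, ← map_mul, mem_centralizer_singleton_iff.1 (hT t.2)]
  · rw [card_eq_card_quotient_mul_card_subgroup φ.ker, Nat.card_congr (QuotientGroup.quotientKerEquivRange φ).toEquiv]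
    congr 1
    have h1 : φ.ker.map T.subtype = N ⊓ T := by
      ext d
      constructor
      · rintro ⟨t, ht, rfl⟩
        exact mem_inf.2 ⟨(QuotientGroup.eq_one_iff _).1 ht, t.2⟩
      · intro hd
        obtain ⟨h1, h2⟩ := mem_inf.1 hd
        exact ⟨⟨d, h2⟩, (QuotientGroup.eq_one_iff _).2 h1, rfl⟩
    rw [← h1, card_map_of_injective T.subtype_injective]

/-- the projection to `A` -/
theorem exists_rho [IsSimpleGroup A] (h : Rad 3 z x N f) (hN : N.Normal) (hns : ¬ Group.IsSolvable A) :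
    ∃ ρ : D ⧸ N →* A, Function.Surjective ρ ∧ Nat.card ↥ρ.ker ∣ 2 ∧
      ∀ c : ↥(centralizer ({z} : Set D)), ρ (QuotientGroup.mk' N c) = f c := by
  let α : ↥(centralizer ({z} : Set D)) →* D ⧸ N := (QuotientGroup.mk' N).comp (centralizer ({z} : Set D)).subtype
  have hα : Function.Surjective α := by
    intro y
    obtain ⟨g, rfl⟩ := QuotientGroup.mk'_surjective N y
    obtain ⟨n, hn, c, hc, rfl⟩ := h.sup g
    refine ⟨⟨c, mem_centralizer_singleton_iff.2 hc⟩, ?_⟩
    show QuotientGroup.mk' N c = QuotientGroup.mk' N (n * c)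
    rw [map_mul, show QuotientGroup.mk' N n = 1 from (QuotientGroup.eq_one_iff _).2 hn, one_mul]
  have hle : ∀ c, α c = 1 → f c = 1 := by
    intro c hc
    have h1 : (c : D) ∈ N := (QuotientGroup.eq_one_iff _).1 hc
    obtain ⟨i, hi⟩ := mem_zpowers_iff.1 (h.cN c h1 (mem_centralizer_singleton_iff.1 c.2))
    have hp : Fact (Nat.Prime 3) := ⟨Nat.prime_three⟩
    refine h.f_central hns fun g => Subtype.ext ?_
    show (g : D) * c = c * g
    rw [← hi]
    exact h.xzc i g
  obtain ⟨ρ, hρ⟩ := LThreeMB.exists_fac α hα f (fun a ha => hle a ha)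
  have hρs : Function.Surjective ρ := by
    intro s
    obtain ⟨c, rfl⟩ := h.surj s
    exact ⟨α c, hρ c⟩
  refine ⟨ρ, hρs, ?_, hρ⟩
  have h1 : ρ.ker ≤ zpowers (QuotientGroup.mk' N z) := by
    intro e he
    obtain ⟨c, rfl⟩ := hα e
    have hc : f c = 1 := by rw [← hρ]; exact he
    obtain ⟨i, hi | hi⟩ := h.ker c hc
    · have h2 : α c = 1 := by
        show QuotientGroup.mk' N (c : D) = 1
        rw [hi]
        exact (QuotientGroup.eq_one_iff _).2 (N.zpow_mem h.xN i)
      rw [h2]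
      exact one_mem _
    · have h2 : α c = QuotientGroup.mk' N z := by
        show QuotientGroup.mk' N (c : D) = _
        rw [hi, map_mul, show QuotientGroup.mk' N (x ^ i) = 1 from
          (QuotientGroup.eq_one_iff _).2 (N.zpow_mem h.xN i), one_mul]
      rw [h2]
      exact mem_zpowers _
  refine (card_dvd_of_le h1).trans ?_
  rw [Nat.card_zpowers]
  refine orderOf_dvd_of_pow_eq_one ?_
  rw [pow_two, ← map_mul, h.zz, map_one]

/-- **`|C_D(g)|`** -/
theorem card_cent [IsSimpleGroup A] (h : Rad 3 z x N f) (hns : ¬ Group.IsSolvable A) (hA : 120 < Nat.card A)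
    {k : ↥(centralizer ({z} : Set D))} (hk : (k : D) * k = z) (hN : Nat.card ↥N = 3 ^ 13) {g : D} {e : ℕ}
    (hg : g ^ 3 ^ e = 1) (hgN : g ∉ N) (hsec : ∀ j : ℤ, ∃ s ∈ N, s * g * s⁻¹ = g * x ^ j) :
    6 * Nat.card ↥(centralizer ({g} : Set D)) ≤ 3 ^ 11 * (2 * Nat.card A) := by
  have hp : Fact (Nat.Prime 3) := ⟨Nat.prime_three⟩
  have hNn := h.nN
  have : Finite A := Finite.of_surjective f h.surj
  obtain ⟨ρ, hρs, hρk, hρ⟩ := exists_rho h hNn hns
  obtain ⟨B, hB, hcard⟩ := card_cent_dvd hNn g _ le_rfl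
  have h1 := Nat.le_of_dvd (by norm_num) (card_CN h hns hk hN hg hgN hsec)
  -- `ρ g ≠ 1`
  have hne : ρ (QuotientGroup.mk' N g) ≠ 1 := by
    intro h2
    obtain ⟨n, hn, c, ⟨j, hj⟩, hgc⟩ := exists_three h hg
    rw [hgc, map_mul, show QuotientGroup.mk' N n = 1 from (QuotientGroup.eq_one_iff _).2 hn, one_mul, hρ] at h2
    obtain ⟨i, hi⟩ := ker_three h h2 (k := j) (by
      have : ((c ^ 3 ^ j : ↥(centralizer ({z} : Set D))) : D) = 1 := by rw [hj]; rfl
      exact this)
    apply hgN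
    rw [hgc, hi]
    exact N.mul_mem hn (N.zpow_mem h.xN i)
  have htop : centralizer ({ρ (QuotientGroup.mk' N g)} : Set A) ≠ ⊤ := by
    intro h2
    have h3 : ρ (QuotientGroup.mk' N g) ∈ center A := by
      rw [mem_center_iff]
      intro a
      have : a ∈ centralizer ({ρ (QuotientGroup.mk' N g)} : Set A) := by rw [h2]; trivial
      exact mem_centralizer_singleton_iff.1 this
    rcases (inferInstance : (center A).Normal).eq_bot_or_eq_top with h4 | h4
    · rw [h4] at h3
      exact hne (mem_bot.1 h3)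
    · exact hns (Group.isSolvable_of_comm fun a b => by
        have h5 : b ∈ center A := by rw [h4]; trivial
        exact mem_center_iff.1 h5 a)
  have h6 := six_le_index hA htop
  have h7 : centralizer ({QuotientGroup.mk' N g} : Set (D ⧸ N)) ≤
      (centralizer ({ρ (QuotientGroup.mk' N g)} : Set A)).comap ρ := by
    intro a ha
    rw [mem_comap, mem_centralizer_singleton_iff, ← map_mul, ← map_mul, mem_centralizer_singleton_iff.1 ha]
  have h8 : 6 ≤ B.index := by
    refine h6.trans ?_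
    rw [← index_comap_of_surjective _ hρs]
    exact Nat.le_of_dvd (Nat.pos_of_ne_zero B.index_ne_zero_of_finite) (index_dvd_of_le (hB.trans h7))
  have h9 : Nat.card (D ⧸ N) ≤ 2 * Nat.card A := by
    rw [card_eq_card_quotient_mul_card_subgroup ρ.ker,
      Nat.card_congr (QuotientGroup.quotientKerEquivOfSurjective ρ hρs).toEquiv, mul_comm]
    exact Nat.mul_le_mul_right _ (Nat.le_of_dvd (by norm_num) hρk)
  have h10 : 6 * Nat.card ↥B ≤ 2 * Nat.card A := by
    refine le_trans ?_ h9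
    rw [← B.card_mul_index, mul_comm]
    exact Nat.mul_le_mul_left _ h8
  rw [hcard]
  calc 6 * (Nat.card ↥B * Nat.card ↥(N ⊓ centralizer ({g} : Set D)))
      = Nat.card ↥(N ⊓ centralizer ({g} : Set D)) * (6 * Nat.card ↥B) := by ring
    _ ≤ 3 ^ 11 * (2 * Nat.card A) := Nat.mul_le_mul h1 h10

/-- **the `3`-subgroups of `C_D(g)`** -/
theorem card_three [IsSimpleGroup A] (h : Rad 3 z x N f) (hns : ¬ Group.IsSolvable A)
    {k : ↥(centralizer ({z} : Set D))} (hk : (k : D) * k = z) (hN : Nat.card ↥N = 3 ^ 13) {g : D} {e : ℕ}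
    (hg : g ^ 3 ^ e = 1) (hgN : g ∉ N) (hsec : ∀ j : ℤ, ∃ s ∈ N, s * g * s⁻¹ = g * x ^ j) {T : Subgroup D}
    (hT : T ≤ centralizer ({g} : Set D)) : Nat.card ↥T ∣ 3 ^ 11 * (2 * Nat.card A) := by
  have hp : Fact (Nat.Prime 3) := ⟨Nat.prime_three⟩
  have hNn := h.nN
  have : Finite A := Finite.of_surjective f h.surj
  obtain ⟨ρ, hρs, hρk, hρ⟩ := exists_rho h hNn hns
  obtain ⟨B, hB, hcard⟩ := card_cent_dvd hNn g T hT
  have h1 := card_CN h hns hk hN hg hgN hsec
  have h9 : Nat.card (D ⧸ N) ∣ 2 * Nat.card A := by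
    rw [card_eq_card_quotient_mul_card_subgroup ρ.ker,
      Nat.card_congr (QuotientGroup.quotientKerEquivOfSurjective ρ hρs).toEquiv, mul_comm]
    exact Nat.mul_dvd_mul_right hρk _
  rw [hcard, mul_comm]
  exact Nat.mul_dvd_mul ((card_dvd_of_le (inf_le_inf_left N hT)).trans h1) ((card_subgroup_dvd_card B).trans h9)

end Cfsg.Agent.H740.OreM.Bd
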