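import Cfsg.Agent.H740.OreM.Nondeg
import Cfsg.Agent.H740.OreM.Lift
import Cfsg.Agent.H777.Ore.Base

/-!
# The situation `Rad`, `p = 3`: the 3-elements of `D` (helper740)

`isC_or` : a `3`-element of `D` is a commutator, or commutes with a conjugate of `z`;
`no_root` : no `3`-element of `C(z)` has a power generating `⟨x⟩` (elements of order 3 of `A` are real).
-/

set_option autoImplicit false
set_option linter.unusedSectionVars false

namespace Cfsg.Agent.H740.OreM.Cases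

open Subgroup Cfsg Cfsg.Agent.BpSpor.M5 Cfsg.Agent.H777.Ore
open Cfsg.Agent.H740.OreM.Dich Cfsg.Agent.H740.OreM.Lift

universe u v

variable {D : Type u} [Group D] [Finite D] {z x : D} {N : Subgroup D} {A : Type v} [Group A]
    {f : ↥(centralizer ({z} : Set D)) →* A}

/-- **`3`-elements of `D`** -/
theorem isC_or (h : Rad 3 z x N f) (hcen : Cen x N) (hgood : ∀ y : A, (∃ k, y ^ 3 ^ k = 1) → Good y) {g : D} {e : ℕ}
    (hg : g ^ 3 ^ e = 1) : IsC g ∨ ∃ m : D, g * (m * z * m⁻¹) = m * z * m⁻¹ * g := by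
  have hp : Fact (Nat.Prime 3) := ⟨Nat.prime_three⟩
  rcases dich h (by norm_num) hcen g with ⟨m, -, hm⟩ | hc
  · exact Or.inr ⟨m, hm⟩
  · left
    obtain ⟨a, b, i, hi⟩ := exists_comm h hgood hg
    obtain ⟨s, -, hs⟩ := hc i
    refine ⟨s⁻¹ * a * s, s⁻¹ * b * s, ?_⟩
    calc g = s⁻¹ * (s * g * s⁻¹) * s := by group
      _ = s⁻¹ * (a * b * a⁻¹ * b⁻¹) * s := by rw [hs, hi]
      _ = _ := by group

/-- no cube roots of `x` commuting with `z` -/
theorem no_root [IsSimpleGroup A] (h : Rad 3 z x N f) (hns : ¬ Group.IsSolvable A)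
    (hreal : ∀ y : A, y ^ 3 = 1 → ∃ u, u * y * u⁻¹ = y⁻¹) {g : D}
    (hgz : g * z = z * g) {j : ℤ} (hgx : g ^ 3 = x ^ j) : x ^ j = 1 := by
  have hp : Fact (Nat.Prime 3) := ⟨Nat.prime_three⟩
  have hcube : ∀ i : ℤ, (x ^ i) ^ 3 = 1 := fun i => Lift.cube h i
  set g₀ : ↥(centralizer ({z} : Set D)) := ⟨g, mem_centralizer_singleton_iff.2 hgz⟩ with hg₀
  have h3 : f g₀ ^ 3 = 1 := by
    rw [← map_pow]
    refine h.f_central hns fun d => Subtype.ext ?_
    show (d : D) * g ^ 3 = g ^ 3 * d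
    rw [hgx, h.xzc]
  obtain ⟨u, hu⟩ := hreal (f g₀) h3
  obtain ⟨u, rfl⟩ := h.surj u
  have h1 : f (u * g₀ * u⁻¹ * g₀) = 1 := by
    rw [map_mul, map_mul, map_mul, map_inv, hu, inv_mul_cancel]
  obtain ⟨κ, hκ, hκ6, hκc⟩ : ∃ κ : D, (u : D) * g * (u : D)⁻¹ * g = κ ∧ κ ^ 6 = 1 ∧ Commute κ g := by
    obtain ⟨i, hi | hi⟩ := h.ker _ h1
    · exact ⟨x ^ i, hi, by rw [show 6 = 3 * 2 by norm_num, pow_mul, hcube, one_pow], (h.xzc i g).symm⟩
    · refine ⟨x ^ i * z, hi, ?_, ((show Commute (x ^ i) g from (h.xzc i g).symm)).mul_left hgz.symm⟩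
      have h1 : Commute (x ^ i) z := (h.xzc i z).symm
      rw [h1.mul_pow, show 6 = 3 * 2 by norm_num, pow_mul, hcube, one_pow, one_mul, mul_comm 3 2, pow_mul,
        pow_two, h.zz, one_pow]
  have h4 : (u : D) * g * (u : D)⁻¹ = κ * g⁻¹ := by rw [← hκ]; group
  have h5 : ((u : D) * g * (u : D)⁻¹) ^ 3 = (κ * g⁻¹) ^ 3 := by rw [h4]
  rw [conj_pow, hgx, h.xzc, mul_inv_cancel_right, hκc.inv_right.mul_pow, inv_pow, hgx] at h5
  -- `x ^ j = κ ^ 3 x ^ -j`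
  have h6 : x ^ j * x ^ j = κ ^ 3 := by
    nth_rewrite 1 [h5]
    group
  have h7 : (x ^ j) ^ 4 = 1 := by
    rw [show 4 = 2 * 2 by norm_num, pow_mul, pow_two (x ^ j), h6, ← pow_mul]
    exact hκ6
  rw [show 4 = 3 + 1 by norm_num, pow_succ, hcube, one_mul] at h7
  exact h7

end Cfsg.Agent.H740.OreM.Cases
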