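import Cfsg.Agent.H740.OreM.Threes

/-!
# S4171, row M: involutions inverting `U z` (helper740)

* `exists_inv` : if an involution inverts `U`, `z` is 2-central in `C(U)` and some element of `C(z)` inverts `U`, then an
  involution of `C(z)` inverts `U`;
* `odd_index` : `z` is 2-central if `Large Q z`;
* `sr_z` : for `U` of order 3 and fixed rank 8 or 12, inverted by an involution, `U z` is inverted by an involution;
* `rank_split` : one of `s`, `s y`, `s y²` has fixed rank at least 8, `y` of fixed rank 0.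
-/

set_option autoImplicit false
set_option maxRecDepth 100000

namespace Cfsg.Agent.H740.OreM.InvA

open Cfsg Cfsg.Agent.MonsterX Cfsg.Agent.MonsterX.InstData Cfsg.Agent.MonsterX.MainPack Cfsg.Agent.MonsterU
open Cfsg.Agent.MonsterP Cfsg.Agent.MonsterN Cfsg.Agent.LThreeMB
open Cfsg.Agent.MonsterX.MainBasic Cfsg.Agent.MonsterX.MainSimple Cfsg.Agent.MonsterX.Model
open Cfsg.Agent.MonsterU.Lam2 Cfsg.Agent.MonsterU.TwoCls
open Cfsg.Agent.BpSpor.MBigModel Cfsg.Agent.H199.NSmMon Cfsg.Agent.H31.TwoCyc.MPart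
open Cfsg.Agent.H777.Ore Cfsg.Agent.BpSpor.M5 Cfsg.Agent.Co2Type.Quad
open Cfsg.Spor (Co1)
open Subgroup (centralizer zpowers mem_centralizer_singleton_iff)

section parity

variable {G : Type*} [Group G] [Finite G]

theorem exists_inv {U z t c : G}
    (hidx : ¬ 2 ∣ ((centralizer ({z} : Set G)).subgroupOf (centralizer ({U} : Set G))).index)
    (hc : c * z = z * c) (hcU : c * U * c⁻¹ = U⁻¹) (ht : t * t = 1) (htU : t * U * t⁻¹ = U⁻¹) :
    ∃ t' : G, t' * t' = 1 ∧ t' * z = z * t' ∧ t' * U * t'⁻¹ = U⁻¹ := by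
  classical
  set H := centralizer ({U} : Set G) with hH
  set K := (centralizer ({z} : Set G)).subgroupOf H with hK
  have hci : c⁻¹ * z = z * c⁻¹ := ((show Commute c z from hc).inv_left).eq
  have hcU' : c⁻¹ * U * c = U⁻¹ := by
    calc c⁻¹ * U * c = (c⁻¹ * (U⁻¹)⁻¹ * c) := by rw [inv_inv]
      _ = (c⁻¹ * (c * U * c⁻¹)⁻¹ * c) := by rw [hcU]
      _ = U⁻¹ := by group
  have htU' : t * U⁻¹ * t⁻¹ = U := by
    calc t * U⁻¹ * t⁻¹ = (t * U * t⁻¹)⁻¹ := by group
      _ = U := by rw [htU, inv_inv]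
  have hmem : ∀ h ∈ H, t * h * c⁻¹ ∈ H := by
    intro h hh
    have h1 := mem_centralizer_singleton_iff.1 hh
    rw [hH, mem_centralizer_singleton_iff]
    calc t * h * c⁻¹ * U = t * h * (c⁻¹ * U * c) * c⁻¹ := by group
      _ = t * (h * U⁻¹) * c⁻¹ := by rw [hcU']; group
      _ = t * (U⁻¹ * h) * c⁻¹ := by
        rw [((show Commute h U from h1).inv_right).eq]
      _ = (t * U⁻¹ * t⁻¹) * (t * h * c⁻¹) := by group
      _ = U * (t * h * c⁻¹) := by rw [htU']
  let τ : H → H := fun h => ⟨t * h * c⁻¹, hmem h h.2⟩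
  have hτ : ∀ h h' : H, h⁻¹ * h' ∈ K → (τ h)⁻¹ * τ h' ∈ K := by
    intro h h' hh
    have h1 := mem_centralizer_singleton_iff.1 (Subgroup.mem_subgroupOf.1 hh)
    rw [hK, Subgroup.mem_subgroupOf, mem_centralizer_singleton_iff]
    have h1' : (h : G)⁻¹ * h' * z = z * ((h : G)⁻¹ * h') := h1
    show (t * (h : G) * c⁻¹)⁻¹ * (t * (h' : G) * c⁻¹) * z = z * ((t * (h : G) * c⁻¹)⁻¹ * (t * (h' : G) * c⁻¹))
    calc (t * (h : G) * c⁻¹)⁻¹ * (t * (h' : G) * c⁻¹) * z = c * ((h : G)⁻¹ * h') * (c⁻¹ * z) := by group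
      _ = c * ((h : G)⁻¹ * h' * z) * c⁻¹ := by rw [hci]; group
      _ = (c * z) * ((h : G)⁻¹ * h') * c⁻¹ := by rw [h1']; group
      _ = (z * c) * ((h : G)⁻¹ * h') * c⁻¹ := by rw [hc]
      _ = _ := by group
  let F : H ⧸ K → H ⧸ K := Quotient.map' τ (fun a b hab => QuotientGroup.leftRel_apply.2
    (hτ a b (QuotientGroup.leftRel_apply.1 hab)))
  have hF : ∀ h : H, F (QuotientGroup.mk h) = QuotientGroup.mk (τ h) := fun h => rfl
  have hFF : ∀ q, F (F q) = q := by
    intro q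
    obtain ⟨h, rfl⟩ := QuotientGroup.mk_surjective q
    rw [hF, hF]
    refine QuotientGroup.eq.2 ?_
    rw [hK, Subgroup.mem_subgroupOf, mem_centralizer_singleton_iff]
    show (t * (t * (h : G) * c⁻¹) * c⁻¹)⁻¹ * h * z = z * ((t * (t * (h : G) * c⁻¹) * c⁻¹)⁻¹ * h)
    have h1 : (t * (t * (h : G) * c⁻¹) * c⁻¹)⁻¹ * h = c * c := by
      calc (t * (t * (h : G) * c⁻¹) * c⁻¹)⁻¹ * h = ((t * t) * h * c⁻¹ * c⁻¹)⁻¹ * h := by group
        _ = c * c := by rw [ht, ← pow_two]; group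
    rw [h1, mul_assoc, hc, ← mul_assoc, hc, mul_assoc]
  let σ : Equiv.Perm (H ⧸ K) := ⟨F, F, hFF, hFF⟩
  have : Fintype (H ⧸ K) := Fintype.ofFinite _
  have hp : Fact (Nat.Prime 2) := ⟨Nat.prime_two⟩
  obtain ⟨q, hq⟩ := Equiv.Perm.exists_fixed_point_of_prime (p := 2) (n := 1) (α := H ⧸ K) (by
    rw [← Nat.card_eq_fintype_card]
    exact hidx) (σ := σ) (by
      rw [pow_one, pow_two]
      ext q
      exact hFF q)
  obtain ⟨h, rfl⟩ := QuotientGroup.mk_surjective q
  have hq' : (QuotientGroup.mk (τ h) : H ⧸ K) = QuotientGroup.mk h := hq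
  have h1 := mem_centralizer_singleton_iff.1 (Subgroup.mem_subgroupOf.1 (QuotientGroup.eq.1 hq'))
  have h2 : (t * (h : G) * c⁻¹)⁻¹ * h * z = z * ((t * (h : G) * c⁻¹)⁻¹ * h) := h1
  have hti : t⁻¹ = t := inv_eq_of_mul_eq_one_left ht
  have hh := mem_centralizer_singleton_iff.1 h.2
  refine ⟨(h : G)⁻¹ * t * h, ?_, ?_, ?_⟩
  · calc (h : G)⁻¹ * t * h * ((h : G)⁻¹ * t * h) = (h : G)⁻¹ * (t * t) * h := by group
      _ = 1 := by rw [ht]; group
  · have h3 : (t * (h : G) * c⁻¹)⁻¹ * h = c * ((h : G)⁻¹ * t * h) := by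
      calc (t * (h : G) * c⁻¹)⁻¹ * h = c * ((h : G)⁻¹ * t⁻¹ * h) := by group
        _ = _ := by rw [hti]
    rw [h3] at h2
    calc (h : G)⁻¹ * t * h * z = c⁻¹ * (c * ((h : G)⁻¹ * t * h) * z) := by group
      _ = (c⁻¹ * z) * (c * ((h : G)⁻¹ * t * h)) := by rw [h2]; group
      _ = (z * c⁻¹) * (c * ((h : G)⁻¹ * t * h)) := by rw [hci]
      _ = _ := by group
  · calc (h : G)⁻¹ * t * h * U * ((h : G)⁻¹ * t * h)⁻¹ = (h : G)⁻¹ * t * (h * U) * (h : G)⁻¹ * t⁻¹ * h := by group
      _ = (h : G)⁻¹ * (t * U * t⁻¹) * h := by rw [hh]; group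
      _ = (h : G)⁻¹ * (U⁻¹ * h) := by rw [htU]; group
      _ = (h : G)⁻¹ * (h * U⁻¹) := by rw [((show Commute (h : G) U from hh).inv_right).eq]
      _ = U⁻¹ := by group

/-- `z` is 2-central -/
theorem odd_index {Q : Subgroup G} {z : G} (h : Large Q z) : ¬ 2 ∣ (centralizer ({z} : Set G)).index := by
  have hp : Fact (Nat.Prime 2) := ⟨Nat.prime_two⟩
  have h1 := (LargeExtra.Base.isPGroup h).card_modEq_card_fixedPoints (G ⧸ centralizer ({z} : Set G))
  have h2 : MulAction.fixedPoints ↥Q (G ⧸ centralizer ({z} : Set G)) = {QuotientGroup.mk 1} := by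
    ext q
    obtain ⟨g, rfl⟩ := QuotientGroup.mk_surjective q
    rw [MulAction.mem_fixedPoints, Set.mem_singleton_iff]
    constructor
    · intro hg
      have h3 : ∀ w ∈ Q, w * (g * z * g⁻¹) = g * z * g⁻¹ * w := by
        intro w hw
        have h4 : (QuotientGroup.mk (w * g) : G ⧸ centralizer ({z} : Set G)) = QuotientGroup.mk g := hg ⟨w, hw⟩
        have h5 := mem_centralizer_singleton_iff.1 (QuotientGroup.eq.1 h4)
        have h6 : (w * g)⁻¹ * g * z = z * ((w * g)⁻¹ * g) := h5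
        calc w * (g * z * g⁻¹) = w * g * (z * ((w * g)⁻¹ * g)) * g⁻¹ * w := by group
          _ = w * g * ((w * g)⁻¹ * g * z) * g⁻¹ * w := by rw [h6]
          _ = _ := by group
      have h4 : g * z * g⁻¹ ∈ Q := h.self _ (h3 z h.z_mem).symm fun w hw => (h3 w hw).symm
      rcases h.cent _ h4 (fun w hw => (h3 w hw).symm) with h5 | h5
      · exfalso
        apply h.z_ne
        calc z = g⁻¹ * (g * z * g⁻¹) * g := by group
          _ = 1 := by rw [h5]; group
      · refine QuotientGroup.eq.2 (mem_centralizer_singleton_iff.2 ?_)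
        rw [mul_one]
        calc g⁻¹ * z = g⁻¹ * (g * z * g⁻¹) := by rw [h5]
          _ = _ := by group
    · intro hg w
      rw [hg]
      show (QuotientGroup.mk ((w : G) * 1) : G ⧸ centralizer ({z} : Set G)) = QuotientGroup.mk 1
      refine QuotientGroup.eq.2 (mem_centralizer_singleton_iff.2 ?_)
      rw [mul_one, mul_one]
      have h3 : Commute (w : G) z := h.comm_z w w.2
      exact h3.inv_left.eq
  have h3 : Nat.card ↥(MulAction.fixedPoints ↥Q (G ⧸ centralizer ({z} : Set G))) = 1 := by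
    rw [h2, Nat.card_unique]
  rw [h3] at h1
  intro h4
  have h5 : (centralizer ({z} : Set G)).index ≡ 1 [MOD 2] := h1
  have h6 := (Nat.modEq_zero_iff_dvd.2 h4).symm.trans h5
  exact absurd h6 (by decide)

end parity

theorem faith_of {s : Co1} (hs : orderOf s = 3) (hfr : fr s = 2 ^ 8 ∨ fr s = 2 ^ 12) : Faith s := by
  have I := CoOneFin.coOne
  rcases hfr with hfr | hfr
  · obtain ⟨s', hs', hfs', -, -, hf⟩ := I.nine
    obtain ⟨k, hk⟩ := I.eight s' s hs' hs hfs' hfr
    rw [← hk]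
    exact hf.conj k
  · obtain ⟨s', hs', hfs', ht, -⟩ := I.psu
    obtain ⟨k, hk⟩ := I.twelve s' s hs' hs hfs' hfr
    rw [← hk]
    exact ht.faith.conj k

theorem index_odd {x : centralizer ({zz} : Set MG)} (hx : orderOf x = 3) (hfr : fr (pi x) = 2 ^ 8 ∨ fr (pi x) = 2 ^ 12) :
    ¬ 2 ∣ ((centralizer ({zz} : Set MG)).subgroupOf (centralizer ({(x : MG)} : Set MG))).index := by
  have := finite
  have hx3 : x ^ 3 = 1 := by rw [← hx, pow_orderOf_eq_one]
  have L := large chart hx3 (faith_of (orderOf_pi chart hx) hfr)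
  have h1 := odd_index L
  have h2 : (centralizer ({tt x} : Set (XX (x : MG)))).comap (QuotientGroup.mk' (Zx (x : MG))) =
      (centralizer ({zz} : Set MG)).subgroupOf (centralizer ({(x : MG)} : Set MG)) := by
    ext g
    rw [Subgroup.mem_comap, mem_centralizer_singleton_iff, Subgroup.mem_subgroupOf, mem_centralizer_singleton_iff]
    constructor
    · intro h3
      exact comm_z_of_comm chart hx3 (g := g) (mem_centralizer_singleton_iff.1 g.2) h3
    · intro h3
      have h4 : g * (⟨zz, mem_centralizer_singleton_iff.2 (mem_centralizer_singleton_iff.1 x.2).symm⟩ :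
          ↥(centralizer ({(x : MG)} : Set MG))) = ⟨zz, mem_centralizer_singleton_iff.2
          (mem_centralizer_singleton_iff.1 x.2).symm⟩ * g := Subtype.ext h3
      exact congrArg (QuotientGroup.mk' (Zx (x : MG))) h4
  rw [← h2, Subgroup.index_comap_of_surjective _ (QuotientGroup.mk'_surjective _)]
  exact h1

/-- **`x z` is inverted by an involution** -/
theorem sr_z {x : centralizer ({zz} : Set MG)} (hx : orderOf x = 3) (hfr : fr (pi x) = 2 ^ 8 ∨ fr (pi x) = 2 ^ 12)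
    (h3 : ∃ t : MG, t * t = 1 ∧ t * (x : MG) * t⁻¹ = (x : MG)⁻¹) :
    ∃ t : MG, t * t = 1 ∧ t * ((x : MG) * zz) * t⁻¹ = ((x : MG) * zz)⁻¹ := by
  have := finite
  obtain ⟨t, ht, htx⟩ := h3
  obtain ⟨c, hc⟩ := Threes.real_in hx
  obtain ⟨t', h1, h2, h4⟩ := exists_inv (index_odd hx hfr) (mem_centralizer_singleton_iff.1 c.2)
    (congrArg Subtype.val hc) ht htx
  have hzz : zz * zz = (1 : MG) := chart.large.z_sq
  have hxz : (x : MG) * zz = zz * x := mem_centralizer_singleton_iff.1 x.2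
  refine ⟨t', h1, ?_⟩
  calc t' * ((x : MG) * zz) * t'⁻¹ = (t' * x * t'⁻¹) * (t' * zz) * t'⁻¹ := by group
    _ = (t' * x * t'⁻¹) * (zz * t') * t'⁻¹ := by rw [h2]
    _ = (x : MG)⁻¹ * zz := by rw [h4]; group
    _ = (x : MG)⁻¹ * zz⁻¹ := by rw [inv_eq_of_mul_eq_one_left hzz]
    _ = (zz * (x : MG))⁻¹ := by group
    _ = _ := by rw [hxz]

section split

/-- `1 + a + a²` -/
noncomputable def nm (a : Co1) (v : L2) : L2 := v + a • v + a • a • v

theorem smul_nm {a : Co1} (ha : a ^ 3 = 1) (v : L2) : a • nm a v = nm a v := by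
  have h1 : a • a • a • v = v := by rw [← mul_smul, ← mul_smul, ← pow_three', ha, one_smul]
  unfold nm
  rw [smul_add, smul_add, h1]
  abel

theorem nm_zero {y : Co1} (hy : y ^ 3 = 1) (hfr : fr y = 1) (v : L2) : nm y v = 0 := by
  obtain ⟨hs, -⟩ := Nat.card_eq_one_iff_unique.1 hfr
  exact congrArg Subtype.val (hs.elim ⟨nm y v, smul_nm hy v⟩ ⟨0, smul_zero y⟩)

theorem dbl (v : L2) : v + v = 0 := Lam2.add_self v

theorem sum_nm {s y : Co1} (hs : s ^ 3 = 1) (hy : y ^ 3 = 1) (hsy : s * y = y * s) (hfr : fr y = 1) (v : L2) :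
    nm s v + nm (s * y) v + nm (s * y * y) v = v := by
  have h0 := nm_zero hy hfr v
  have h1 : s • nm y v + s • s • nm y v = 0 := by rw [h0, smul_zero, smul_zero, add_zero]
  have e1 : (s * y) • (s * y) • v = s • s • y • y • v := by
    rw [← mul_smul, ← mul_smul, ← mul_smul, ← mul_smul]
    congr 1
    calc s * y * (s * y) = s * (y * s) * y := by group
      _ = s * (s * y) * y := by rw [hsy]
      _ = _ := by group
  have e2 : (s * y * y) • (s * y * y) • v = s • s • y • v := by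
    rw [← mul_smul, ← mul_smul, ← mul_smul]
    congr 1
    have h2 : Commute s y := hsy
    calc s * y * y * (s * y * y) = s * ((y * y) * s) * (y * y) := by group
      _ = s * (s * (y * y)) * (y * y) := by rw [(h2.mul_right h2).eq]
      _ = s * s * (y ^ 3 * y) := by rw [pow_three]; group
      _ = s * s * y := by rw [hy, one_mul]
  unfold nm at h1 ⊢
  rw [e1, e2]
  simp only [smul_add, mul_smul] at h1 ⊢
  have h2 := dbl v
  calc _ = (s • v + s • y • v + s • y • y • v + (s • s • v + s • s • y • v + s • s • y • y • v)) + (v + v) + v := by abel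
    _ = v := by rw [h1, h2, zero_add, zero_add]

/-- **fixed ranks of `s`, `s y`, `s y²`** -/
theorem rank_split {s y : Co1} (hs : s ^ 3 = 1) (hy : y ^ 3 = 1) (hsy : s * y = y * s) (hfr : fr y = 1) :
    2 ^ 24 ≤ fr s * (fr (s * y) * fr (s * y * y)) := by
  have hfin : Finite L2 := Nat.finite_of_card_ne_zero (by rw [card_L2]; norm_num)
  have hc : Commute s y := hsy
  have h1 : (s * y) ^ 3 = 1 := by rw [hc.mul_pow, hs, hy, one_mul]
  have h2 : (s * y * y) ^ 3 = 1 := by
    rw [(show Commute (s * y) y from hc.mul_left (Commute.refl y)).mul_pow, h1, hy, one_mul]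
  let f : L2 → {v : L2 // s • v = v} × ({v : L2 // (s * y) • v = v} × {v : L2 // (s * y * y) • v = v}) :=
    fun v => (⟨nm s v, smul_nm hs v⟩, ⟨nm (s * y) v, smul_nm h1 v⟩, ⟨nm (s * y * y) v, smul_nm h2 v⟩)
  have hf : Function.Injective f := by
    intro v w hvw
    have e1 : nm s v = nm s w := congrArg (fun p => (p.1 : L2)) hvw
    have e2 : nm (s * y) v = nm (s * y) w := congrArg (fun p => (p.2.1 : L2)) hvw
    have e3 : nm (s * y * y) v = nm (s * y * y) w := congrArg (fun p => (p.2.2 : L2)) hvw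
    rw [← sum_nm hs hy hsy hfr v, ← sum_nm hs hy hsy hfr w, e1, e2, e3]
  have := Nat.card_le_card_of_injective f hf
  rw [card_L2, Nat.card_prod, Nat.card_prod] at this
  exact this

theorem ord_of {s : Co1} (hs : s ^ 3 = 1) (h1 : s ≠ 1) : orderOf s = 3 := orderOf_eq_prime hs h1

/-- one of `s`, `s y`, `s y²` has fixed rank 8 or 12 -/
theorem exists_rank {s y : Co1} (hs : s ^ 3 = 1) (hy : y ^ 3 = 1) (hsy : s * y = y * s) (hfr : fr y = 1)
    (h1 : s ∉ zpowers y) : ∃ i : ℕ, fr (s * y ^ i) = 2 ^ 8 ∨ fr (s * y ^ i) = 2 ^ 12 := by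
  have I := CoOneFin.coOne
  have hc : Commute s y := hsy
  have hne : ∀ i : ℕ, s * y ^ i ≠ 1 := by
    intro i hi
    apply h1
    rw [eq_inv_of_mul_eq_one_left hi]
    exact inv_mem (pow_mem (Subgroup.mem_zpowers y) i)
  have hcube : ∀ i : ℕ, (s * y ^ i) ^ 3 = 1 := by
    intro i
    rw [(hc.pow_right i).mul_pow, hs, ← pow_mul, mul_comm, pow_mul, hy, one_pow, one_mul]
  by_contra hcon
  push Not at hcon
  have hle : ∀ i : ℕ, fr (s * y ^ i) ≤ 2 ^ 6 := by
    intro i
    rcases I.ranks _ (ord_of (hcube i) (hne i)) with h | h | h | h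
    · rw [h]; norm_num
    · rw [h]
    · exact absurd h (hcon i).1
    · exact absurd h (hcon i).2
  have h := rank_split hs hy hsy hfr
  have h0 := hle 0
  have h1 := hle 1
  have h2 := hle 2
  rw [pow_zero, mul_one] at h0
  rw [pow_one] at h1
  rw [pow_two, ← mul_assoc] at h2
  have h3 : fr s * (fr (s * y) * fr (s * y * y)) ≤ 2 ^ 6 * (2 ^ 6 * 2 ^ 6) := Nat.mul_le_mul h0 (Nat.mul_le_mul h1 h2)
  have := h.trans h3
  norm_num at this

end split

end Cfsg.Agent.H740.OreM.InvA
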