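import Cfsg.Agent.H31.TwoCyc.RadExp
import Cfsg.Agent.H740.OreM.Dich

/-!
# The situation `Rad`, `p = 3`, `|N| = 3 ^ 13`: the center of `N` is `⟨x⟩` (helper740)
-/

set_option autoImplicit false
set_option linter.unusedSectionVars false

namespace Cfsg.Agent.H740.OreM.Nondeg

open Subgroup Cfsg Cfsg.Agent.BpSpor.M5 Cfsg.Agent.H31.TwoCyc.RadExp Cfsg.Agent.H740.OreM.Dich

universe u v

/-- **fixed points of an element of prime order** -/
theorem card_fix_modEq {G : Type u} [Group G] [Finite G] {p : ℕ} [hp : Fact p.Prime] {w : G} (hw : orderOf w = p)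
    {S : Subgroup G} (hS : ∀ s ∈ S, w * s * w⁻¹ ∈ S) :
    Nat.card ↥S ≡ Nat.card ↥(S ⊓ centralizer ({w} : Set G)) [MOD p] := by
  classical
  have := Fintype.ofFinite ↥S
  let f : Function.End ↥S := fun s => ⟨w * s * w⁻¹, hS s s.2⟩
  have hf : ∀ (n : ℕ) (s : ↥S), (((f ^ n) s : ↥S) : G) = w ^ n * s * (w ^ n)⁻¹ := by
    intro n
    induction n with
    | zero =>
      intro s
      show (s : G) = w ^ 0 * s * (w ^ 0)⁻¹
      group
    | succ n ih =>
      intro s
      rw [pow_succ]
      show (((f ^ n) (f s) : ↥S) : G) = _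
      rw [ih]
      show w ^ n * (w * s * w⁻¹) * (w ^ n)⁻¹ = _
      rw [pow_succ]
      group
  have h1 : f ^ p ^ 1 = 1 := by
    funext s
    apply Subtype.ext
    rw [hf, pow_one, ← hw, pow_orderOf_eq_one]
    show 1 * (s : G) * 1⁻¹ = s
    group
  have h2 := Equiv.Perm.card_fixedPoints_modEq h1
  rw [← Nat.card_eq_fintype_card, ← Nat.card_eq_fintype_card] at h2
  refine h2.trans ?_
  have h3 : Nat.card ↥(Function.fixedPoints f) = Nat.card ↥(S ⊓ centralizer ({w} : Set G)) := by
    refine Nat.card_congr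
      { toFun := fun s => ⟨((s : ↥S) : G), (s : ↥S).2, mem_centralizer_singleton_iff.2 ?_⟩
        invFun := fun s => ⟨⟨(s : G), s.2.1⟩, ?_⟩
        left_inv := fun s => rfl
        right_inv := fun s => rfl }
    · have h4 : w * ((s : ↥S) : G) * w⁻¹ = (s : ↥S) := congrArg Subtype.val s.2
      rw [mul_inv_eq_iff_eq_mul] at h4
      exact h4.symm
    · apply Subtype.ext
      show w * (s : G) * w⁻¹ = s
      rw [mul_inv_eq_iff_eq_mul]
      exact (mem_centralizer_singleton_iff.1 s.2.2).symm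
  rw [h3]

/-- the order of an image -/
theorem card_map_mul {G : Type u} {E : Type v} [Group G] [Group E] (q : G →* E) (H : Subgroup G) :
    Nat.card ↥H = Nat.card ↥(H ⊓ q.ker : Subgroup G) * Nat.card ↥(H.map q) := by
  let φ : ↥H →* E := q.comp H.subtype
  have h1 : Nat.card ↥H = Nat.card ↥φ.ker * Nat.card ↥φ.range := by
    rw [← φ.ker.card_mul_index, Subgroup.index_ker]
  have h2 : φ.range = H.map q := by
    rw [MonoidHom.range_comp, range_subtype]
  have h3 : Nat.card ↥φ.ker = Nat.card ↥(H ⊓ q.ker : Subgroup G) := by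
    refine Nat.card_congr
      { toFun := fun t => ⟨((t : ↥H) : G), (t : ↥H).2, t.2⟩
        invFun := fun t => ⟨⟨(t : G), t.2.1⟩, t.2.2⟩
        left_inv := fun t => rfl
        right_inv := fun t => rfl }
  rw [h1, h2, h3]

/-- subgroups of a group of order `3 ^ n` -/
theorem exists_pow {G : Type u} [Group G] {H : Subgroup G} {n : ℕ} {K : Subgroup G} (hle : K ≤ H)
    (hH : Nat.card ↥H = 3 ^ n) : ∃ k ≤ n, Nat.card ↥K = 3 ^ k := by
  have h1 : Nat.card ↥K ∣ 3 ^ n := by rw [← hH]; exact card_dvd_of_le hle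
  exact (Nat.dvd_prime_pow Nat.prime_three).1 h1

variable {D : Type u} [Group D] [Finite D] {z x : D} {N : Subgroup D} {A : Type v} [Group A] [hA : IsSimpleGroup A]
    {f : ↥(centralizer ({z} : Set D)) →* A}

/-- a nonabelian group of order 27 -/
theorem card_center_le {G : Type u} [Group G] [Finite G] {B Z : Subgroup G} (hB : Nat.card ↥B = 3 ^ 3) (hZB : Z ≤ B)
    (hZ : ∀ s ∈ Z, ∀ b ∈ B, s * b = b * s) (hn : ∃ a ∈ B, ∃ b ∈ B, a * b ≠ b * a) : Nat.card ↥Z ≤ 3 := by
  obtain ⟨a, ha, b, hb, hab⟩ := hn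
  by_contra hcon
  obtain ⟨k, hk, hZc⟩ := exists_pow hZB hB
  have hk2 : 2 ≤ k := by
    by_contra h1
    have h2 : k ≤ 1 := by omega
    have h3 : 3 ^ k ≤ 3 ^ 1 := Nat.pow_le_pow_right (by norm_num) h2
    rw [hZc] at hcon
    omega
  obtain ⟨l, hl, hCc⟩ := exists_pow (K := B ⊓ centralizer ({a} : Set G)) inf_le_left hB
  have hle : Z ≤ B ⊓ centralizer ({a} : Set G) := le_inf hZB fun s hs =>
    mem_centralizer_singleton_iff.2 (hZ s hs a ha)
  have haC : a ∈ B ⊓ centralizer ({a} : Set G) := ⟨ha, mem_centralizer_singleton_iff.2 rfl⟩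
  have haZ : a ∉ Z := fun h1 => hab (hZ a h1 b hb)
  have hlt : Nat.card ↥Z < Nat.card ↥(B ⊓ centralizer ({a} : Set G) : Subgroup G) := by
    refine lt_of_le_of_ne (Subgroup.card_le_of_le hle) fun h1 => haZ ?_
    have h2 : Z = B ⊓ centralizer ({a} : Set G) := Subgroup.eq_of_le_of_card_ge hle h1.ge
    rw [h2]
    exact haC
  rw [hZc, hCc] at hlt
  have hkl : k < l := (Nat.pow_lt_pow_iff_right (by norm_num)).1 hlt
  have hl3 : l = 3 := by omega
  have h2 : B ⊓ centralizer ({a} : Set G) = B := Subgroup.eq_of_le_of_card_ge inf_le_left (by rw [hB, hCc, hl3])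
  have h3 : b ∈ B ⊓ centralizer ({a} : Set G) := by rw [h2]; exact hb
  exact hab (mem_centralizer_singleton_iff.1 h3.2).symm

/-- **the center of `N`** -/
theorem cen_of (h : Rad 3 z x N f) (hns : ¬ Group.IsSolvable A) {k : ↥(centralizer ({z} : Set D))}
    (hk : (k : D) * k = z) (hcard : Nat.card ↥N = 3 ^ 13) (h25 : 5 ^ 2 ∣ Nat.card A)
    {w : ↥(centralizer ({z} : Set D))} (hw : orderOf w = 11)
    (h81 : ¬ 3 ^ 4 ∣ Nat.card ↥(centralizer ({(w : D)} : Set D)))
    (hB : ∀ B : Subgroup D, B ≤ centralizer ({(w : D)} : Set D) → Nat.card ↥B = 27 → ∃ a ∈ B, ∃ b ∈ B, a * b ≠ b * a) :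
    Cen x N := by
  have hp : Fact (Nat.Prime 3) := ⟨Nat.prime_three⟩
  have hp11 : Fact (Nat.Prime 11) := ⟨by norm_num⟩
  have hNn := h.nN
  have hwo : orderOf (w : D) = 11 := by rw [Subgroup.orderOf_coe, hw]
  -- `C_N(w)`
  set N₀ := N ⊓ centralizer ({(w : D)} : Set D) with hN₀
  have hc0 : Nat.card ↥N₀ = 3 ^ 3 := by
    obtain ⟨j, hj, hjc⟩ := exists_pow (K := N₀) inf_le_left hcard
    have h1 := card_fix_modEq hwo (S := N) fun s hs => hNn.conj_mem s hs _
    rw [← hN₀, hjc, hcard] at h1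
    have hj3 : j ≤ 3 := by
      by_contra hcon
      apply h81
      refine (pow_dvd_pow 3 (by omega : 4 ≤ j)).trans ?_
      rw [← hjc]
      exact card_dvd_of_le inf_le_right
    interval_cases j
    · exact absurd h1 (by decide)
    · exact absurd h1 (by decide)
    · exact absurd h1 (by decide)
    · exact hjc
  have hna := hB N₀ inf_le_right (by rw [hc0]; norm_num)
  -- the center
  set Z := N ⊓ centralizer (N : Set D) with hZ
  have hcn : (centralizer (N : Set D)).Normal := inferInstance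
  have hZn : Z.Normal := by
    rw [hZ]
    infer_instance
  have hxZ : x ∈ Z := ⟨h.xN, mem_centralizer_iff.2 fun g _ => h.xc g⟩
  have hZc : ∀ s ∈ Z, ∀ m ∈ N, s * m = m * s := fun s hs m hm => (mem_centralizer_iff.1 hs.2 m hm).symm
  have hxc : Nat.card ↥(zpowers x) = 3 := by rw [Nat.card_zpowers, h.ox]
  have hxle : ∀ S : Subgroup D, x ∈ S → 3 ≤ Nat.card ↥S := by
    intro S hS
    rw [← hxc]
    exact Subgroup.card_le_of_le (by rw [zpowers_le]; exact hS)
  set Z₀ := Z ⊓ centralizer ({(w : D)} : Set D) with hZ₀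
  have hxZ₀ : x ∈ Z₀ := ⟨hxZ, mem_centralizer_singleton_iff.2 (h.xc w).symm⟩
  have hZ₀c : Nat.card ↥Z₀ = 3 := by
    refine le_antisymm ?_ (hxle _ hxZ₀)
    refine card_center_le hc0 (inf_le_inf inf_le_left le_rfl) ?_ hna
    intro s hs b hb
    exact hZc s hs.1 b hb.1
  obtain ⟨l, hl, hlc⟩ := exists_pow (K := Z) inf_le_left hcard
  have hmod : 3 ^ l ≡ 3 [MOD 11] := by
    have h1 := card_fix_modEq hwo (S := Z) fun s hs => hZn.conj_mem s hs _
    rwa [← hZ₀, hZ₀c, hlc] at h1
  have hcases : l = 1 ∨ l = 6 ∨ l = 11 := by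
    interval_cases l <;> first
      | exact absurd hmod (by decide)
      | simp
  -- exponent
  have hexp : ∀ s ∈ N, s ^ 3 ∈ zpowers x := by
    intro s hs
    refine pow_mem h hns (by norm_num) hk (q := 5) (s := 2) (n := 12) (by norm_num) h25 ?_ ?_ hs (e := 13) ?_
    · rw [hcard]
      norm_num
    · intro j h1 h2
      have : j ≤ 6 := by omega
      interval_cases j <;> norm_num [Fin.prod_univ_succ]
    · have h1 : orderOf s ∣ 3 ^ 13 := by
        rw [← hcard]
        exact Subgroup.orderOf_dvd_natCard N hs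
      exact orderOf_dvd_iff_pow_eq_one.1 h1
  rcases hcases with rfl | rfl | rfl
  · -- `Z = ⟨x⟩`
    have h1 : zpowers x = Z := Subgroup.eq_of_le_of_card_ge (by rw [zpowers_le]; exact hxZ) (by rw [hlc, hxc]; norm_num)
    intro s hs hsm
    rw [h1]
    exact ⟨hs, mem_centralizer_iff.2 fun m hm => (hsm m hm).symm⟩
  · exfalso
    have hZx : (zpowers x).Normal := h.normalZ
    set π := QuotientGroup.mk' (zpowers x) with hπ
    have hπk : π.ker = zpowers x := QuotientGroup.ker_mk' _
    have hWn : (Z.map π).Normal := hZn.map π (QuotientGroup.mk'_surjective _)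
    have hWc : Nat.card ↥(Z.map π) = 3 ^ 5 := by
      have h1 := card_map_mul π Z
      have h2 : Z ⊓ π.ker = zpowers x := by
        rw [hπk]
        exact inf_eq_right.2 (by rw [zpowers_le]; exact hxZ)
      rw [h2, hxc, hlc] at h1
      omega
    have h1 := sect h hns (by norm_num) hk (W := Z.map π) (map_mono inf_le_left) (by
      intro h2
      rw [h2, card_bot] at hWc
      norm_num at hWc) (q := 5) (s := 2) (by norm_num) h25
    rw [Cfsg.Agent.Transfer.ElemAbAut.card_mulAut (T := ↥(Z.map π)) 3 5 ?_ ?_ hWc] at h1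
    · revert h1
      norm_num [Fin.prod_univ_succ]
    · rintro ⟨_, a, ha, rfl⟩ ⟨_, b, hb, rfl⟩
      apply Subtype.ext
      show π a * π b = π b * π a
      rw [← map_mul, ← map_mul, hZc a ha b hb.1]
    · rintro ⟨_, a, ha, rfl⟩
      apply Subtype.ext
      show π a ^ 3 = 1
      rw [← map_pow]
      exact (QuotientGroup.eq_one_iff _).2 (hexp a ha.1)
  · exfalso
    set q := QuotientGroup.mk' Z with hq
    have hqk : q.ker = Z := QuotientGroup.ker_mk' _
    have hq1 : ∀ s ∈ Z, q s = 1 := fun s hs => (QuotientGroup.eq_one_iff s).2 hs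
    -- `N = C_N(w) Z`
    have h1 : N₀.map q = N.map q := by
      refine Subgroup.eq_of_le_of_card_ge (map_mono inf_le_left) ?_
      have h2 := card_map_mul q N₀
      have h3 := card_map_mul q N
      have h4 : N₀ ⊓ q.ker = Z₀ := by
        rw [hqk, hN₀, hZ₀, hZ]
        ext s
        simp only [mem_inf]
        tauto
      have h5 : N ⊓ q.ker = Z := by
        rw [hqk]
        exact inf_eq_right.2 inf_le_left
      rw [h4, hZ₀c, hc0] at h2
      rw [h5, hlc, hcard] at h3
      omega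
    set K : Subgroup D := (centralizer ((N.map q : Subgroup (D ⧸ Z)) : Set (D ⧸ Z))).comap q with hK
    have hNq : (N.map q).Normal := hNn.map q (QuotientGroup.mk'_surjective _)
    have hKn : K.Normal := by
      have : (centralizer ((N.map q : Subgroup (D ⧸ Z)) : Set (D ⧸ Z))).Normal := inferInstance
      rw [hK]
      infer_instance
    have hwK : (w : D) ∈ K := by
      rw [hK, mem_comap, mem_centralizer_iff]
      intro g hg
      have hg' : g ∈ N₀.map q := by rw [h1]; exact hg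
      obtain ⟨c, hc, rfl⟩ := hg'
      rw [← map_mul, ← map_mul, mem_centralizer_singleton_iff.1 hc.2]
    have hfw : f w ≠ 1 := by
      intro hfw
      have h6 : (w : D) ^ 6 = 1 := by
        have hx3 : ∀ i : ℤ, (x ^ i) ^ 3 = 1 := fun i => by
          rw [← zpow_natCast, ← zpow_mul, mul_comm, zpow_mul, zpow_natCast, ← h.ox, pow_orderOf_eq_one, one_zpow]
        obtain ⟨i, hi | hi⟩ := h.ker w hfw
        · rw [hi, show 6 = 3 * 2 by norm_num, pow_mul, hx3, one_pow]
        · have hc : Commute (x ^ i) z := (h.xzc i z).symm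
          rw [hi, hc.mul_pow, show 6 = 3 * 2 by norm_num, pow_mul, hx3, one_pow, one_mul, mul_comm 3 2, pow_mul,
            pow_two, h.zz, one_pow]
      have h7 := orderOf_dvd_of_pow_eq_one h6
      rw [hwo] at h7
      norm_num at h7
    have hKs := Cfsg.Agent.H199.AbRad.not_solvable_of_mem h hns K hwK hfw
    obtain ⟨c', hc', n, hn, hz⟩ := h.z_mem_sup (by norm_num) hk K hKs
    have hNK : N ≤ K := by
      intro n hn
      rw [hK, mem_comap, mem_centralizer_iff]
      rintro _ ⟨m, hm, rfl⟩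
      obtain ⟨i, hi⟩ := h.comm (by norm_num) hn hm
      have h5 : q (n * m * n⁻¹) = q m := by
        rw [hi, map_mul, hq1 _ (Z.zpow_mem hxZ i), mul_one]
      rw [map_mul, map_mul, map_inv, mul_inv_eq_iff_eq_mul] at h5
      exact h5.symm
    have hzK : z ∈ K := by
      rw [hz]
      exact K.mul_mem hc' (hNK hn)
    have hNZ : N ≤ Z := by
      intro m hm
      rw [hK, mem_comap, mem_centralizer_iff] at hzK
      have h5 := hzK (q m) ⟨m, hm, rfl⟩
      rw [← map_mul, ← map_mul] at h5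
      have h6 : (m * z)⁻¹ * (z * m) ∈ Z := QuotientGroup.eq.1 h5
      obtain ⟨i, hi⟩ := h.inv (by norm_num) hm
      have h7 : z⁻¹ * m⁻¹ * (m⁻¹ * x ^ i) * z ∈ Z := by
        have h8 : (m * z)⁻¹ * (z * m) = z⁻¹ * m⁻¹ * (z * m * z⁻¹) * z := by group
        rwa [h8, hi] at h6
      have h8 := hZn.conj_mem _ h7 z
      have h9 : z * (z⁻¹ * m⁻¹ * (m⁻¹ * x ^ i) * z) * z⁻¹ = (m ^ 2)⁻¹ * x ^ i := by group
      rw [h9] at h8
      have h10 : (m ^ 2)⁻¹ ∈ Z := by
        have := Z.mul_mem h8 (Z.inv_mem (Z.zpow_mem hxZ i))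
        rwa [mul_inv_cancel_right] at this
      have h11 : m ^ 2 ∈ Z := by
        have := Z.inv_mem h10
        rwa [inv_inv] at this
      have h12 : m ^ 3 ^ 13 = 1 := orderOf_dvd_iff_pow_eq_one.1 (by
        rw [← hcard]
        exact Subgroup.orderOf_dvd_natCard N hm)
      have h13 : m = (m ^ 2) ^ ((3 ^ 13 + 1) / 2) := by
        rw [← pow_mul, show 2 * ((3 ^ 13 + 1) / 2) = 3 ^ 13 + 1 by norm_num, pow_succ, h12, one_mul]
      rw [h13]
      exact Z.pow_mem h11 _
    have h14 := Subgroup.card_le_of_le hNZ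
    rw [hcard, hlc] at h14
    norm_num at h14

end Cfsg.Agent.H740.OreM.Nondeg
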