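import Cfsg.Agent.H740.OreM.Abs
import Cfsg.Agent.LThreeB.Final
import Cfsg.Agent.LThreeMB.CoOneFin
import Cfsg.Agent.BpSpor.MBigEleven
import Cfsg.Agent.H701.SporFi24
import Cfsg.Agent.OddHalf.D4.Spor.FiTF
import Cfsg.Agent.MonsterX.ThOneClass
import Cfsg.Agent.LThreeM.FiRow

/-!
# S2443, row M, piece MP3: `|C(x) ∩ C(t)|` for `x` of order 3 and `t` of type `2A` (helper740)

`card_three : |C(x) ∩ C(t)| ≤ 3 * 258247006617600`.
-/

set_option autoImplicit false
set_option maxRecDepth 100000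

namespace Cfsg.Agent.H740.OreM

open Subgroup Cfsg Cfsg.Agent.LThreeMB Cfsg.Agent.LThreeB
open Cfsg.Agent.MonsterX Cfsg.Agent.MonsterX.InstData Cfsg.Agent.MonsterP Cfsg.Agent.MonsterU Cfsg.Agent.MonsterU.Ch
open Cfsg.Agent.MonsterU.Lam2 (L2)
open Cfsg.Agent.MonsterN
open Cfsg.Spor (Co1)
open Cfsg.Agent.BpSpor.MBigModel (MG zz pi chart cls card_M card_cent_z card_cent_t)

universe u

/-! ### Passing to `C(x) / ⟨x⟩` -/

theorem card_XT_le {G : Type u} [Group G] [Finite G] {x t : G} (hx : orderOf x = 3) (ht : orderOf t = 2)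
    (htx : t * x = x * t) {n : ℕ} (h : ∀ v : XX x, orderOf v = 2 → Nat.card ↥(centralizer ({v} : Set (XX x))) ≤ n) :
    Nat.card ↥(XT x t) ≤ 3 * n := by
  let φ : ↥(XT x t) →* XX x := (QuotientGroup.mk' (Zx x)).comp (Subgroup.inclusion inf_le_left)
  have hcard : Nat.card ↥(XT x t) = Nat.card ↥φ.ker * Nat.card ↥φ.range := by
    rw [← φ.ker.card_mul_index, Subgroup.index_ker]
  let t' : ↥(XT x t) := ⟨t, mem_XT.2 ⟨htx, rfl⟩⟩
  have ht2 : (φ t') ^ 2 = 1 := by
    rw [← map_pow]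
    have : t' ^ 2 = 1 := Subtype.ext (by show t ^ 2 = 1; rw [← ht, pow_orderOf_eq_one])
    rw [this, map_one]
  have ht1 : φ t' ≠ 1 := by
    intro h1
    have h2 : mk x htx = 1 := h1
    obtain ⟨i, hi⟩ := (mk_eq_one htx).1 h2
    have h3 : t ^ 3 = 1 := by
      rw [← hi, ← zpow_natCast, ← zpow_mul, mul_comm, zpow_mul, zpow_natCast, ← hx, pow_orderOf_eq_one, one_zpow]
    have h4 := orderOf_dvd_of_pow_eq_one h3
    rw [ht] at h4
    norm_num at h4
  have hto : orderOf (φ t') = 2 := orderOf_eq_prime ht2 ht1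
  have h1 : Nat.card ↥φ.range ≤ n := by
    refine (card_le_of_le ?_).trans (h (φ t') hto)
    rintro _ ⟨d, rfl⟩
    rw [mem_centralizer_singleton_iff, ← map_mul, ← map_mul]
    congr 1
    exact Subtype.ext (mem_XT.1 d.2).2
  have h2 : Nat.card ↥φ.ker ≤ 3 := by
    rw [← card_Zx hx]
    let j : ↥φ.ker →* ↥(Zx x) := ((Subgroup.inclusion inf_le_left).comp φ.ker.subtype).codRestrict (Zx x) (fun k =>
      (QuotientGroup.eq_one_iff _).1 k.2)
    refine Nat.card_le_card_of_injective j ?_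
    intro a b hab
    have h3 := congrArg (fun k : ↥(Zx x) => ((k : ↥(centralizer ({x} : Set G))) : G)) hab
    exact Subtype.ext (Subtype.ext h3)
  rw [hcard]
  exact Nat.mul_le_mul h2 h1

/-! ### `Fi24'` -/

open Cfsg.Spor Cfsg.Agent.R08 in
/-- the centralizer of a product of two commuting transpositions -/
theorem card_pair {a b : Fi24} (P : TetFi24A.At a b) {t : Spor.Fi24'} (ht : (t : Fi24) = a * b) :
    Nat.card (centralizer ({t} : Set Spor.Fi24')) ≤ 258247006617600 := by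
  have hN : Nat.card (CTwoTab.FiTF.N a b) = 2 * 64561751654400 := by
    rw [Nat.card_congr (CTwoTab.FiTF.eN a b).toEquiv, OddHalf.D4.Spor.FiTF.card_Cab P]
  have hle := CTwoTab.FiTF.N_le ht
  have hmem : ∀ x : Spor.Fi24', (x : Fi24) * a * (x : Fi24)⁻¹ = a ∧ (x : Fi24) * b * (x : Fi24)⁻¹ = b →
      x ∈ CTwoTab.FiTF.N a b := by
    intro x hx
    rw [CTwoTab.FiTF.mem_N, FiTwentyFour.mem_Cab]
    exact ⟨FiTwentyFour.mem_commutator_iff.1 x.2, mul_inv_eq_iff_eq_mul.1 hx.1, mul_inv_eq_iff_eq_mul.1 hx.2⟩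
  have h1 : (CTwoTab.FiTF.N a b).relIndex (centralizer ({t} : Set Spor.Fi24')) ≤ 2 := by
    by_cases hall : centralizer ({t} : Set Spor.Fi24') ≤ CTwoTab.FiTF.N a b
    · rw [Subgroup.relIndex_eq_one.2 hall]; norm_num
    · obtain ⟨s, hs, hsN⟩ := SetLike.not_le_iff_exists.1 hall
      refine (Subgroup.relIndex_eq_two_iff.2 ⟨s, hs, fun x hx => ?_⟩).le
      have key : ∀ y ∈ centralizer ({t} : Set Spor.Fi24'), y ∉ CTwoTab.FiTF.N a b →
          (y : Fi24) * a * (y : Fi24)⁻¹ = b ∧ (y : Fi24) * b * (y : Fi24)⁻¹ = a := by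
        intro y hy hyN
        rcases CTwoTab.FiTF.fix_or_swap P ht hy with h2 | h2
        · exact absurd (hmem y h2) hyN
        · exact h2
      by_cases hxN : x ∈ CTwoTab.FiTF.N a b
      · right
        refine ⟨hxN, fun h2 => hsN ?_⟩
        have := mul_mem (inv_mem hxN) h2
        rwa [inv_mul_cancel_left] at this
      · left
        refine ⟨hmem _ ?_, hxN⟩
        obtain ⟨h3, h4⟩ := key s hs hsN
        obtain ⟨h5, h6⟩ := key x hx hxN
        constructor
        · show ((x : Fi24) * (s : Fi24)) * a * ((x : Fi24) * (s : Fi24))⁻¹ = a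
          calc ((x : Fi24) * (s : Fi24)) * a * ((x : Fi24) * (s : Fi24))⁻¹
              = (x : Fi24) * ((s : Fi24) * a * (s : Fi24)⁻¹) * (x : Fi24)⁻¹ := by group
            _ = a := by rw [h3, h6]
        · show ((x : Fi24) * (s : Fi24)) * b * ((x : Fi24) * (s : Fi24))⁻¹ = b
          calc ((x : Fi24) * (s : Fi24)) * b * ((x : Fi24) * (s : Fi24))⁻¹
              = (x : Fi24) * ((s : Fi24) * b * (s : Fi24)⁻¹) * (x : Fi24)⁻¹ := by group
            _ = b := by rw [h4, h5]
  have h2 := Subgroup.card_mul_index ((CTwoTab.FiTF.N a b).subgroupOf (centralizer ({t} : Set Spor.Fi24')))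
  rw [Nat.card_congr (Subgroup.subgroupOfEquivOfLe hle).toEquiv, hN] at h2
  rw [← h2]
  calc _ ≤ (2 * 64561751654400) * 2 := Nat.mul_le_mul_left _ h1
    _ = 258247006617600 := by norm_num

theorem card_fi24 {X : Type u} [Group X] (h : Spor.IsoFi24' X) {t : X} (ht : orderOf t = 2) :
    Nat.card ↥(centralizer ({t} : Set X)) ≤ 258247006617600 := by
  obtain ⟨e⟩ := h
  rw [card_centralizer_congr e]
  rcases CTwoTab.FiTF.classes (e t) (by rw [MulEquiv.orderOf_eq, ht]) with ⟨a, b, P, h1⟩ | ⟨g, hg⟩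
  · exact card_pair P h1
  · rw [hg, BpSpor.card_cent_of_conj (rfl : g * CTwoTab.FiTF.z0 * g⁻¹ = _), H701.card_z0]
    norm_num

theorem card_th {X : Type u} [Group X] (h : Spor.IsoTh X) {t : X} (ht : orderOf t = 2) :
    Nat.card ↥(centralizer ({t} : Set X)) ≤ 258247006617600 := by
  obtain ⟨e⟩ := h
  rw [card_centralizer_congr e, ThOneClass.card_centralizer (by rw [MulEquiv.orderOf_eq, ht])]
  norm_num

/-! ### The third class -/

theorem inputs : CoOne := Cfsg.Agent.LThreeMB.CoOneFin.coOne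

theorem trNe : TrNe zz pi := KPair.trNe KDone.lft LThreeB.Row.cent (LThreeMBTr.traceNe KDone.lft LThreeMBTr.TensK.tens)

theorem hasPair : HasPair zz pi := KPair.hasPair KDone.lft LThreeB.Row.cent LThreeB.Row.second COct.octPair

/-- `z` is not of type `2A` -/
theorem ne_zz {t g : MG} (ht : LThreeB.Row.TA t) : g * t * g⁻¹ ≠ zz := by
  intro h
  have h1 := card_cent_z
  have h2 := card_cent_t ht
  have h3 := BpSpor.card_cent_of_conj h
  have h4 := h2.symm.trans (h3.symm.trans h1)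
  revert h4
  norm_num

/-- **Fixed rank 0.** -/
theorem zero {x : centralizer ({zz} : Set MG)} (hx : orderOf x = 3) (hfr : fr (pi x) = 1) {t : MG}
    (ht : LThreeB.Row.TA t) (hxt : (x : MG) * t = t * x) : Nat.card ↥(XT (x : MG) t) ≤ 408146688000000 := by
  have hfin : Finite MG := BpSpor.MBigModel.finite
  have hx3 : x ^ 3 = 1 := by rw [← hx, pow_orderOf_eq_one]
  obtain ⟨e⟩ := inputs.suz _ (orderOf_pi chart hx) hfr
  have hiso : ∀ d : ↥(centralizer ({(x : MG)} : Set MG)), (d * zD x * d⁻¹) * zD x = zD x * (d * zD x * d⁻¹) →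
      d * zD x * d⁻¹ = zD x := fun d hd =>
    Subtype.ext (isolated chart trNe hx hfr d (mem_centralizer_singleton_iff.1 d.2) (congrArg Subtype.val hd))
  have hzo : orderOf (zD x) = 2 := by
    rw [← Subgroup.orderOf_coe]
    exact LargeExtra.Base.orderOf_z chart.large
  have hK : LThreeBX.Abs.Ker (toXX pi x) := LThreeBX.Main.ker chart hx3 hfr
  have hf := toXX_surj chart hx3
  have hS : IsSimpleGroup (XX (pi x)) := (MulEquiv.isSimpleGroup_congr e).2 Cfsg.Agent.S1694.result.1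
  have hev : Even (Nat.card (XX (pi x))) := by
    rw [Nat.card_congr e.toEquiv, Cfsg.Agent.S1694.result.2]
    norm_num
  have hzz : zz * zz = (1 : MG) := BpSpor.MBigModel.zz_sq
  obtain ⟨N, F, H⟩ := Abs.exists_hyp hzo hiso hev (toXX pi x) hf (Zx (x : MG)) (Zx_le_center _) (by
    rw [card_Zx (by rw [Subgroup.orderOf_coe, hx])]; decide) (fun k hk => by
      obtain ⟨i, hi | hi⟩ := LThreeBX.Main.ker_form chart hx3 hfr hk
      · left
        exact ⟨i, Subtype.ext hi.symm⟩
      · right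
        refine ⟨i, Subtype.ext ?_⟩
        show (x : MG) ^ i = ((k : ↥(centralizer ({(x : MG)} : Set MG))) : MG) * zz
        rw [hi, mul_assoc, hzz, mul_one])
  have h7 : ∀ t g : ↥(centralizer ({zD x} : Set ↥(centralizer ({(x : MG)} : Set MG)))), t * t = 1 →
      toXX pi x t ≠ 1 → g ^ 7 = 1 → g * t = t * g → g = 1 := by
    intro t g htt ht1 hg hgt
    have hmem : ∀ k : ↥(centralizer ({zD x} : Set ↥(centralizer ({(x : MG)} : Set MG)))),
        ((k : ↥(centralizer ({(x : MG)} : Set MG))) : MG) ∈ centralizer ({zz} : Set MG) := fun k =>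
      mem_centralizer_singleton_iff.2 (congrArg Subtype.val (mem_centralizer_singleton_iff.1 k.2))
    have h1 : (⟨_, hmem g⟩ : centralizer ({zz} : Set MG)) = 1 := by
      refine LThreeBX.NoSeven.no_seven KDone.lft LThreeB.Row.cent hx3 hfr (t := ⟨_, hmem t⟩) (g := ⟨_, hmem g⟩)
        ?_ ?_ ?_ ?_ ?_ ?_
      · exact Subtype.ext (congrArg (fun g : ↥(centralizer ({zD x} : Set ↥(centralizer ({(x : MG)} : Set MG)))) =>
          ((g : ↥(centralizer ({(x : MG)} : Set MG))) : MG)) htt)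
      · intro h2
        apply ht1
        refine (QuotientGroup.eq_one_iff _).2 ?_
        have h3 : be pi x (toCC x t) = 1 := Subtype.ext h2
        show be pi x (toCC x t) ∈ Zx (pi x)
        rw [h3]
        exact Subgroup.one_mem _
      · exact Subtype.ext (congrArg (fun g : ↥(centralizer ({zD x} : Set ↥(centralizer ({(x : MG)} : Set MG)))) =>
          ((g : ↥(centralizer ({(x : MG)} : Set MG))) : MG)) hg)
      · exact Subtype.ext (mem_centralizer_singleton_iff.1 t.1.2).symm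
      · exact Subtype.ext (congrArg (fun g : ↥(centralizer ({zD x} : Set ↥(centralizer ({(x : MG)} : Set MG)))) =>
          ((g : ↥(centralizer ({(x : MG)} : Set MG))) : MG)) hgt)
      · exact Subtype.ext (mem_centralizer_singleton_iff.1 g.1.2).symm
    exact Subtype.ext (Subtype.ext (congrArg (fun q : centralizer ({zz} : Set MG) => (q : MG)) h1))
  -- `t` in `C(z)`
  let t₀ : ↥(centralizer ({(x : MG)} : Set MG)) := ⟨t, mem_centralizer_singleton_iff.2 hxt.symm⟩
  have hto : orderOf t₀ = 2 := by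
    rw [← Subgroup.orderOf_coe]
    exact LThreeB.Final.orderOf_of_TA ht
  obtain ⟨d, hd⟩ := LThreeBX.Abs.exists_conj_comm hzo hiso hto
  let t₁ : ↥(centralizer ({zD x} : Set ↥(centralizer ({(x : MG)} : Set MG)))) :=
    ⟨d * t₀ * d⁻¹, mem_centralizer_singleton_iff.2 hd⟩
  have htt₀ : t₀ * t₀ = 1 := by rw [← pow_two, ← hto, pow_orderOf_eq_one]
  have htt : t₁ * t₁ = 1 := Subtype.ext (by
    show d * t₀ * d⁻¹ * (d * t₀ * d⁻¹) = 1
    calc d * t₀ * d⁻¹ * (d * t₀ * d⁻¹) = d * (t₀ * t₀) * d⁻¹ := by group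
      _ = 1 := by rw [htt₀]; group)
  have ht1 : toXX pi x t₁ ≠ 1 := by
    intro h
    rcases hK.two _ h htt with h1 | h1
    · have h2 : d * t₀ * d⁻¹ = 1 := congrArg Subtype.val h1
      have h3 : t₀ = 1 := by
        calc t₀ = d⁻¹ * (d * t₀ * d⁻¹) * d := by group
          _ = 1 := by rw [h2]; group
      rw [h3, orderOf_one] at hto
      norm_num at hto
    · have h2 : d * t₀ * d⁻¹ = zD x := congrArg Subtype.val h1
      exact ne_zz (g := (d : MG)) ht (congrArg Subtype.val h2)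
  have hD : Nat.card ↥(centralizer ({(x : MG)} : Set MG)) ∣ 808017424794512875886459904961710757005754368000000000 := by
    rw [← card_M]
    exact Subgroup.card_subgroup_dvd_card _
  have hXT : Nat.card ↥(centralizer ({d * t₀ * d⁻¹} : Set ↥(centralizer ({(x : MG)} : Set MG)))) =
      Nat.card ↥(XT (x : MG) t) := by
    rw [BpSpor.card_cent_of_conj (rfl : d * t₀ * d⁻¹ = _)]
    exact Nat.card_congr (centXT' t₀).toEquiv
  rw [← hXT]
  refine H.card_cent hK hf e h7 hD (t := t₁) htt ht1 ?_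
  show Nat.card ↥(centralizer ({d * t₀ * d⁻¹} : Set ↥(centralizer ({(x : MG)} : Set MG)))) ∣ _
  rw [hXT]
  have h8 : Nat.card ↥(XT (x : MG) t) ∣ Nat.card ↥(centralizer ({t} : Set MG)) := card_dvd_of_le inf_le_right
  rw [card_cent_t ht] at h8
  exact h8.trans (by norm_num)

/-! ### All elements of order 3 -/

theorem card_XT_conj {G : Type u} [Group G] {x t g x' t' : G} (hx : g * x * g⁻¹ = x') (ht : g * t * g⁻¹ = t') :
    Nat.card ↥(XT x t) = Nat.card ↥(XT x' t') := by
  subst hx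
  subst ht
  exact Nat.card_congr (conjXT g x t).toEquiv

theorem in_z {x : centralizer ({zz} : Set MG)} (hx : orderOf x = 3) {t : MG}
    (ht : LThreeB.Row.TA t) (hxt : (x : MG) * t = t * x) : Nat.card ↥(XT (x : MG) t) ≤ 774741019852800 := by
  have hfin : Finite MG := BpSpor.MBigModel.finite
  have hs : IsSimpleGroup MG := BpSpor.MBigModel.simple
  have hto := LThreeB.Final.orderOf_of_TA ht
  have hxo : orderOf (x : MG) = 3 := by rw [Subgroup.orderOf_coe, hx]
  rcases inputs.ranks (pi x) (orderOf_pi chart hx) with h1 | h1 | h1 | h1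
  · exact (zero hx h1 ht hxt).trans (by norm_num)
  · obtain ⟨x₀, u, g, hx₀, hfr₀, huz, hux, hne, hg⟩ := hasPair
    obtain ⟨k, hk⟩ := conj_six chart trNe inputs.ranks inputs.six
      (fun x hx h2 => ⟨(good_of_inputs chart inputs hx h2 : Good.{0} _).simple,
        (good_of_inputs chart inputs hx h2 : Good.{0} _).nc⟩) hx₀ hfr₀ huz hux hne hg hx h1
    have h2 : (x₀ : MG) * (k * t * k⁻¹) = (k * t * k⁻¹) * x₀ := by
      rw [← hk]
      exact conj_comm' hxt
    rw [card_XT_conj hk (rfl : k * t * k⁻¹ = _)]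
    exact (zero hx₀ hfr₀ (LThreeB.Par.ta_conj LitFin.all t k ht) h2).trans (by norm_num)
  · exact card_XT_le hxo hto hxt.symm (fun v hv => card_th (isoTh_of_inputs chart inputs hx h1) hv)
  · exact card_XT_le hxo hto hxt.symm (fun v hv => card_fi24 (isoFi_of_inputs chart inputs hx h1) hv)

/-- **`|C(x) ∩ C(t)|`** for `x` of order 3 and `t` of type `2A`. -/
theorem card_three {x t : MG} (hx : orderOf x = 3) (ht : LThreeB.Row.TA t) (hxt : x * t = t * x) :
    Nat.card ↥(centralizer ({x} : Set MG) ⊓ centralizer ({t} : Set MG)) ≤ 774741019852800 := by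
  have hto := LThreeB.Final.orderOf_of_TA ht
  obtain ⟨g, hg⟩ := Cfsg.Agent.LThreeM.FiRow.exists_z_of_comm (x := x) (v := t) (by rw [← hx, pow_orderOf_eq_one])
    (by rw [← pow_two, ← hto, pow_orderOf_eq_one]) (by
      rintro rfl
      rw [orderOf_one] at hto
      norm_num at hto) hxt
  have h1 : (g⁻¹ * x * g) * zz = zz * (g⁻¹ * x * g) := by
    calc (g⁻¹ * x * g) * zz = g⁻¹ * (x * (g * zz * g⁻¹)) * g := by group
      _ = g⁻¹ * ((g * zz * g⁻¹) * x) * g := by rw [hg]
      _ = zz * (g⁻¹ * x * g) := by group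
  let x' : centralizer ({zz} : Set MG) := ⟨g⁻¹ * x * g, mem_centralizer_singleton_iff.2 h1⟩
  have h3 : g * (x' : MG) * g⁻¹ = x := by
    show g * (g⁻¹ * x * g) * g⁻¹ = x
    group
  have hx' : orderOf x' = 3 := by
    rw [← Subgroup.orderOf_coe, ← hx, ← h3]
    exact (orderOf_injective (MulAut.conj g).toMonoidHom (MulAut.conj g).injective (x' : MG)).symm
  have h4 : (x' : MG) * (g⁻¹ * t * g) = (g⁻¹ * t * g) * x' := by
    have h5 := conj_comm' (g := g⁻¹) hxt
    rw [inv_inv] at h5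
    exact h5
  have h6 : LThreeB.Row.TA (g⁻¹ * t * g) := by
    have h5 := LThreeB.Par.ta_conj LitFin.all t g⁻¹ ht
    rw [inv_inv] at h5
    exact h5
  have h7 := in_z hx' h6 h4
  rwa [card_XT_conj h3 (by group : g * (g⁻¹ * t * g) * g⁻¹ = t)] at h7

end Cfsg.Agent.H740.OreM
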